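import Mathlib.AlgebraicGeometry.Modules.Sheaf
import Mathlib.Topology.Sheaves.SheafCondition.Sites

/-!
# Morphisms of modules from their values on affine opens
-/

universe u

open CategoryTheory CategoryTheory.Limits AlgebraicGeometry Opposite TopologicalSpace

namespace Groth.Agent.ASB24

set_option backward.isDefEq.respectTransparency false
set_option backward.isDefEq.respectTransparency.types false

variable {X : Scheme.{u}}

/-- Morphisms of modules agree if they agree on affine opens. -/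
theorem hom_ext_affine {F G : X.Modules} {φ ψ : F ⟶ G}
    (h : ∀ (U : X.affineOpens) (x : Γ(F, U.1)), φ.app U.1 x = ψ.app U.1 x) : φ = ψ := by
  refine Scheme.Modules.hom_ext _ _ fun W => ?_
  ext x
  refine TopCat.Sheaf.eq_of_locally_eq' (C := Ab.{u}) ⟨G.presheaf, G.isSheaf⟩ (fun U : {U : X.affineOpens // U.1 ≤ W} => U.1.1) W
    (fun U => homOfLE U.2) ?_ _ _ fun U => ?_
  · intro y hy
    obtain ⟨_, ⟨V, hV, rfl⟩, hyV, hVW⟩ := X.isBasis_affineOpens.exists_subset_of_mem_open hy W.2
    exact Opens.mem_iSup.2 ⟨⟨⟨V, hV⟩, hVW⟩, hyV⟩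
  · refine (congr($(φ.mapPresheaf.naturality (homOfLE U.2).op) x)).symm.trans ?_
    exact (h U.1 _).trans (congr($(ψ.mapPresheaf.naturality (homOfLE U.2).op) x))

/-- A morphism of modules from compatible linear maps on affine opens. -/
theorem exists_hom_of_affine {F G : X.Modules} (app : ∀ U : X.affineOpens, Γ(F, U.1) →+ Γ(G, U.1))
    (hsmul : ∀ (U : X.affineOpens) (r : Γ(X, U.1)) (x : Γ(F, U.1)), app U (r • x) = r • app U x)
    (hres : ∀ (U V : X.affineOpens) (h : V.1 ≤ U.1) (x : Γ(F, U.1)),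
      app V (F.presheaf.map (homOfLE h).op x) = G.presheaf.map (homOfLE h).op (app U x)) :
    ∃ φ : F ⟶ G, ∀ (U : X.affineOpens) (x : Γ(F, U.1)), φ.app U.1 x = app U x := by
  let B : X.affineOpens → Opens X := fun U => U.1
  have hB : Opens.IsBasis (Set.range B) := by
    have : Set.range B = {U | IsAffineOpen U} := Subtype.range_coe
    rw [this]
    exact X.isBasis_affineOpens
  let α : (inducedFunctor B).op ⋙ F.presheaf ⟶ (inducedFunctor B).op ⋙ G.presheaf :=
    { app := fun U => AddCommGrpCat.ofHom (app U.unop)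
      naturality := fun U V g => by
        ext x
        exact hres U.unop V.unop (leOfHom ((inducedFunctor B).map g.unop)) x }
  let ψ : F.presheaf ⟶ G.presheaf := TopCat.Sheaf.restrictHomEquivHom F.presheaf ⟨G.presheaf, G.isSheaf⟩ hB α
  have hψ : ∀ (U : X.affineOpens) (x : Γ(F, U.1)), ψ.app (op U.1) x = app U x := fun U x =>
    congr($(TopCat.Sheaf.extend_hom_app F.presheaf ⟨G.presheaf, G.isSheaf⟩ hB α U) x)
  refine ⟨⟨PresheafOfModules.homMk ψ fun W r x => ?_⟩, fun U x => hψ U x⟩
  obtain ⟨W⟩ := W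
  change ψ.app (op W) ((show Γ(X, W) from r) • (show Γ(F, W) from x)) =
    (show Γ(X, W) from r) • (show Γ(G, W) from ψ.app (op W) x)
  refine TopCat.Sheaf.eq_of_locally_eq' (C := Ab.{u}) ⟨G.presheaf, G.isSheaf⟩ (fun U : {U : X.affineOpens // U.1 ≤ W} => U.1.1) W
    (fun U => homOfLE U.2) ?_ _ _ fun U => ?_
  · intro y hy
    obtain ⟨_, ⟨V, hV, rfl⟩, hyV, hVW⟩ := X.isBasis_affineOpens.exists_subset_of_mem_open hy W.2
    exact Opens.mem_iSup.2 ⟨⟨⟨V, hV⟩, hVW⟩, hyV⟩
  · refine ((congr($(ψ.naturality (homOfLE U.2).op) _)).symm.trans ?_).trans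
      (Scheme.Modules.map_smul G (homOfLE U.2) _ _).symm
    refine ((hψ U.1 _).trans ((congrArg (app U.1) (Scheme.Modules.map_smul F (homOfLE U.2) _ _)).trans ?_))
    refine (hsmul _ _ _).trans (congrArg _ ?_)
    exact ((hψ U.1 _).symm.trans (congr($(ψ.naturality (homOfLE U.2).op) x)))

end Groth.Agent.ASB24
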