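import Groth.Agent.ASB24.Decomp

/-!
# Split bundles when the geometric Picard group is cyclic
-/

set_option linter.style.haveILetI false
set_option backward.isDefEq.respectTransparency false
set_option backward.isDefEq.respectTransparency.types false

universe u

open CategoryTheory CategoryTheory.Limits AlgebraicGeometry W4c1astiltbs12

namespace Groth.Agent.ASB24

open Groth.Agent

theorem tensor_flf {Y : Scheme.{u}} {A B : Y.Modules} (hA : FlatMod.IsFinLocFree A) (hB : PicF.IsInvertible B) :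
    FlatMod.IsFinLocFree (CohB1.tensorMod A B) :=
  KFlatLib.isFinLocFree_tensor hA (KZ.QuasiProj.flf_of_invertible hB)

variable {k : Type u} [Field k] {X : Scheme.{u}} (p : X ⟶ Spec (CommRingCat.of k)) [IsProper p]
  (K : Type u) [Field K] [Algebra k K]

theorem pos_of_bc_pow {E : X.Modules} (hE : Coh.IsCoh E) (h0 : ¬ IsZero E)
    {L : (W4bk4gw11416.baseChange p K).Modules} {r : ℕ} (e : bcMod p K E ≅ pow L r) : 0 < r := by
  rcases Nat.eq_zero_or_pos r with rfl | h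
  · exact absurd (isZero_of_bc p K hE (IsZero.of_iso (isZero_pow_zero L) e)) h0
  · exact h

variable [Algebra.IsAlgebraic k K] [ConnectedSpace ↥(W4bk4gw11416.baseChange p K)]

/-- A bundle type attained by some bundle is attained by an indecomposable one. -/
theorem exists_indec_type {L : (W4bk4gw11416.baseChange p K).Modules} (hL : PicF.IsInvertible L) {N : X.Modules}
    (hN : FlatMod.IsFinLocFree N) {d : ℕ} (hd : 0 < d) (e : bcMod p K N ≅ pow L d) :
    ∃ (G : X.Modules) (a : ℕ), FlatMod.IsFinLocFree G ∧ KSLib.Indec G ∧ 0 < a ∧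
      Nonempty (bcMod p K G ≅ pow L a) := by
  haveI : Nonempty (W4bk4gw11416.baseChange p K) := ConnectedSpace.toNonempty
  have hN0 : ¬ IsZero N := fun h => by
    haveI : IsProper p := ‹_›
    have hz : IsZero (pow L d) := IsZero.of_iso (Functor.map_isZero (Scheme.Modules.pullback (proj p K)) h) e.symm
    have := pow_inj (r' := 0) hL hL (hz.iso (isZero_pow_zero L))
    omega
  have hc := H28.PushLocFree.isCoh_of_isFinLocFree hN
  obtain ⟨G, n, f, g, hG, hfg, -, a, ⟨ea⟩⟩ := exists_eq_pow' p K hc hN0 (indec_invertible hL) e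
  have hGf := UnivThick.isFinLocFree_of_retract f g hfg hN
  exact ⟨G, a, hGf, hG, pos_of_bc_pow p K (H28.PushLocFree.isCoh_of_isFinLocFree hGf) hG.1 ea, ⟨ea⟩⟩

/-- Tensor powers of a bundle type. -/
theorem exists_type_pow {L : (W4bk4gw11416.baseChange p K).Modules} {M₁ : X.Modules}
    (hM : FlatMod.IsFinLocFree M₁) {d₁ : ℕ} (hd : 0 < d₁) (e : bcMod p K M₁ ≅ pow L d₁) :
    ∀ j : ℕ, ∃ (N : X.Modules) (d : ℕ), FlatMod.IsFinLocFree N ∧ 0 < d ∧
      Nonempty (bcMod p K N ≅ pow (CohB1.tensorPow L j) d)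
  | 0 => ⟨Coh.structureModule X, 1, H9Misc.LocFreeHomTensor.isFinLocFree_structure X, one_pos,
      ⟨H23.Chern.pullUnit (proj p K) ≪≫ (coproductUniqueIso fun _ : Fin 1 => CohB1.tensorPow L 0).symm⟩⟩
  | j + 1 => by
    obtain ⟨N, d, hN, hd', ⟨a⟩⟩ := exists_type_pow hM hd e j
    obtain ⟨b⟩ := H23.PicMul.pull (proj p K) N M₁
    obtain ⟨c⟩ := tensor_congr a e
    obtain ⟨g⟩ := tensor_pow_pow (CohB1.tensorPow L j) L d d₁
    exact ⟨CohB1.tensorMod N M₁, d * d₁, KFlatLib.isFinLocFree_tensor hN hM, Nat.mul_pos hd' hd, ⟨b ≪≫ c ≪≫ g⟩⟩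

variable [PicGrp.Law X] [PicGrp.Law (W4bk4gw11416.baseChange p K)] (hπ : PicGrp.PullMul (proj p K))
  {L : (W4bk4gw11416.baseChange p K).Modules} (hL : PicF.IsInvertible L)
  {r : ℕ} {J : X.Modules} (hJ : PicF.IsInvertible J) (hJL : Nonempty (bcMod p K J ≅ CohB1.tensorPow L r))

include hπ hL hJ hJL

theorem cls_bc_twist {a : ℤ} {Ja : X.Modules} (hJa : PicF.IsInvertible Ja)
    (h : PicGrp.cls Ja hJa = PicGrp.cls J hJ ^ a) (j : ℕ) :
    ∃ hI : PicF.IsInvertible (CohB1.tensorMod (CohB1.tensorPow L j) (bcMod p K Ja)),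
      PicGrp.cls _ hI = PicGrp.cls L hL ^ ((j : ℤ) + (r : ℤ) * a) := by
  have hj := H23.PicMul.isInvertible_tensorPow hL j
  have hb := PicLoc.isInvertible_pullback (proj p K) hJa
  refine ⟨H23.PicMul.isInvertible_tensor hj hb, Subtype.ext ?_⟩
  have h0 : PicGrp.cls (bcMod p K J) (PicLoc.isInvertible_pullback (proj p K) hJ) = PicGrp.cls L hL ^ r := by
    refine Subtype.ext ?_
    rw [PicGrp.cls_pow_val, PicGrp.cls_val, PicGrp.cl_eq_cl_iff]
    exact hJL
  have h1 : PicGrp.pullHom (proj p K) hπ (PicGrp.cls J hJ ^ a) = PicGrp.cls L hL ^ ((r : ℤ) * a) := by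
    rw [map_zpow, zpow_mul, zpow_natCast, ← h0]
    rfl
  have h2 : PicGrp.cls (bcMod p K Ja) hb = PicGrp.cls L hL ^ ((r : ℤ) * a) := by
    rw [← h1, ← h]
    rfl
  have h3 : PicGrp.cls (CohB1.tensorPow L j) hj = PicGrp.cls L hL ^ j := by
    refine Subtype.ext ?_
    rw [PicGrp.cls_pow_val, PicGrp.cls_val]
  rw [zpow_add, zpow_natCast, ← h2, ← h3, PicGrp.cls_mul_cls_val, PicGrp.cls_val]

theorem main (e : PicLoc.PicSet (W4bk4gw11416.baseChange p K) ≃* Multiplicative ℤ)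
    (he : e (PicGrp.cls L hL) = Multiplicative.ofAdd 1) (hr : 1 ≤ r)
    {M₁ : X.Modules} {d₁ : ℕ} (hM₁ : FlatMod.IsFinLocFree M₁) (hM₁i : KSLib.Indec M₁)
    (eM₁ : bcMod p K M₁ ≅ pow L d₁)
    {E : X.Modules} (hE : FlatMod.IsFinLocFree E) (hEi : KSLib.Indec E) {n : ℕ}
    (Ls : Fin n → (W4bk4gw11416.baseChange p K).Modules) (hLs : ∀ i, PicF.IsInvertible (Ls i))
    (hEs : bcMod p K E ≅ ∐ Ls) :
    (∃ (a : ℤ) (j : ℕ), j < r ∧ ∃ (M : X.Modules) (d : ℕ) (Ja : X.Modules) (hJa : PicF.IsInvertible Ja),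
      FlatMod.IsFinLocFree M ∧ KSLib.Indec M ∧
      Nonempty (bcMod p K M ≅ pow (CohB1.tensorPow L j) d) ∧
      PicGrp.cls Ja hJa = PicGrp.cls J hJ ^ a ∧ Nonempty (E ≅ CohB1.tensorMod M Ja)) ∧
    (∀ (a a' : ℤ) (j j' : ℕ) (M M' : X.Modules) (d d' : ℕ) (Ja Ja' : X.Modules)
      (hJa : PicF.IsInvertible Ja) (hJa' : PicF.IsInvertible Ja'),
      j < r → j' < r → KSLib.Indec M → KSLib.Indec M' →
      Nonempty (bcMod p K M ≅ pow (CohB1.tensorPow L j) d) → Nonempty (bcMod p K M' ≅ pow (CohB1.tensorPow L j') d') →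
      PicGrp.cls Ja hJa = PicGrp.cls J hJ ^ a → PicGrp.cls Ja' hJa' = PicGrp.cls J hJ ^ a' →
      Nonempty (E ≅ CohB1.tensorMod M Ja) → Nonempty (E ≅ CohB1.tensorMod M' Ja') → a = a' ∧ j = j') := by
  classical
  have hcE := H28.PushLocFree.isCoh_of_isFinLocFree hE
  let m : Fin n → ℤ := fun i => Multiplicative.toAdd (e (PicGrp.cls (Ls i) (hLs i)))
  have hm : ∀ i, PicGrp.cls (Ls i) (hLs i) = PicGrp.cls L hL ^ m i := fun i => e.injective <| by
    rw [map_zpow, he, ← ofAdd_zsmul, smul_eq_mul, mul_one]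
    exact (ofAdd_toAdd _).symm
  let jj : Fin n → ℕ := fun i => (m i % r).toNat
  have hjj : ∀ i, jj i < r ∧ (jj i : ℤ) + (r : ℤ) * (m i / r) = m i := fun i => by
    have h1 := Int.emod_nonneg (m i) (show (r : ℤ) ≠ 0 by omega)
    have h2 := Int.emod_lt_of_pos (m i) (show (0 : ℤ) < r by omega)
    have h3 := Int.emod_add_ediv_mul (m i) r
    constructor
    · simp only [jj]; omega
    · simp only [jj]
      rw [Int.toNat_of_nonneg h1, mul_comm]
      exact h3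
  have hG : ∀ i, ∃ (G : X.Modules) (d : ℕ), FlatMod.IsFinLocFree G ∧ KSLib.Indec G ∧ 0 < d ∧
      Nonempty (bcMod p K G ≅ pow (CohB1.tensorPow L (jj i)) d) := fun i => by
    obtain ⟨N, d, hN, hd, ⟨a⟩⟩ := exists_type_pow p K hM₁
      (pos_of_bc_pow p K (H28.PushLocFree.isCoh_of_isFinLocFree hM₁) hM₁i.1 eM₁) eM₁ (jj i)
    exact exists_indec_type p K (H23.PicMul.isInvertible_tensorPow hL (jj i)) hN hd a
  choose G d hGf hGi hd eG using hG
  have hT : ∀ i, ∃ (T : X.Modules) (hT : PicF.IsInvertible T), PicGrp.cls J hJ ^ (m i / r) = PicGrp.cls T hT :=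
    fun i => PicGrp.exists_eq_cls _
  choose T hTi hT using hT
  let M : Fin n → X.Modules := fun i => CohB1.tensorMod (G i) (T i)
  have eM : ∀ i, Nonempty (bcMod p K (M i) ≅ pow (Ls i) (d i)) := fun i => by
    obtain ⟨a⟩ := H23.PicMul.pull (proj p K) (G i) (T i)
    obtain ⟨b⟩ := tensor_congr (eG i).some (Iso.refl (bcMod p K (T i)))
    obtain ⟨c⟩ := tensor_pow_left (CohB1.tensorPow L (jj i)) (bcMod p K (T i)) (d i)
    obtain ⟨hI, hcls⟩ := cls_bc_twist p K hπ hL hJ hJL (hTi i) (hT i).symm (jj i)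
    rw [(hjj i).2, ← hm i, PicGrp.cls_eq_cls_iff] at hcls
    exact ⟨a ≪≫ b ≪≫ c ≪≫ Sigma.mapIso (fun _ => hcls.some)⟩
  obtain ⟨i, ⟨φ⟩⟩ := exists_iso_of_bc_decomp p K hcE hEi M
    (fun i => H28.PushLocFree.isCoh_of_isFinLocFree (tensor_flf (hGf i) (hTi i)))
    (fun i => indec_tensor (hTi i) (hGi i)) d hd Ls (fun i => (eM i).some) hEs
  refine ⟨⟨m i / r, jj i, (hjj i).1, G i, d i, T i, hTi i, hGf i, hGi i, eG i, (hT i).symm, ⟨φ⟩⟩, ?_⟩
  intro a a' j j' M M' d d' Ja Ja' hJa hJa' hj hj' _ _ ⟨eM⟩ ⟨eM'⟩ hc hc' ⟨ψ⟩ ⟨ψ'⟩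
  let F := Scheme.Modules.pullback (proj p K)
  obtain ⟨x⟩ := H23.PicMul.pull (proj p K) M Ja
  obtain ⟨y⟩ := tensor_congr eM (Iso.refl (bcMod p K Ja))
  obtain ⟨z⟩ := tensor_pow_left (CohB1.tensorPow L j) (bcMod p K Ja) d
  obtain ⟨x'⟩ := H23.PicMul.pull (proj p K) M' Ja'
  obtain ⟨y'⟩ := tensor_congr eM' (Iso.refl (bcMod p K Ja'))
  obtain ⟨z'⟩ := tensor_pow_left (CohB1.tensorPow L j') (bcMod p K Ja') d'
  obtain ⟨hI, hcls⟩ := cls_bc_twist p K hπ hL hJ hJL hJa hc j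
  obtain ⟨hI', hcls'⟩ := cls_bc_twist p K hπ hL hJ hJL hJa' hc' j'
  have eN := F.mapIso ψ ≪≫ x ≪≫ y ≪≫ z
  have eN' := F.mapIso ψ' ≪≫ x' ≪≫ y' ≪≫ z'
  have hdpos := pos_of_bc_pow p K hcE hEi.1 eN
  haveI : IsProper (pullback.snd p (Spec.map (CommRingCat.ofHom (algebraMap k K)))) :=
    MorphismProperty.pullback_snd _ _ ‹IsProper p›
  haveI := Abelian.hasFiniteBiproducts (C := (W4bk4gw11416.baseChange p K).Modules)
  obtain ⟨σ, hσ⟩ := indec_unique (pullback.snd p (Spec.map (CommRingCat.ofHom (algebraMap k K))))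
    (fun _ : Fin d => indec_invertible hI) (fun _ : Fin d' => indec_invertible hI')
    (fun _ => H28.PushLocFree.isCoh_of_isFinLocFree (KZ.QuasiProj.flf_of_invertible hI))
    (biproduct.isoCoproduct _ ≪≫ eN.symm ≪≫ eN' ≪≫ (biproduct.isoCoproduct _).symm)
  have h := (PicGrp.cls_eq_cls_iff hI hI').2 (hσ ⟨0, hdpos⟩)
  rw [hcls, hcls'] at h
  have h' := congrArg e h
  rw [map_zpow, map_zpow, he, ← ofAdd_zsmul, ← ofAdd_zsmul, Multiplicative.ofAdd.apply_eq_iff_eq,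
    smul_eq_mul, smul_eq_mul, mul_one, mul_one] at h'
  have h1 : (j : ℤ) = j' := by
    have h2 := congrArg (· % (r : ℤ)) h'
    simp only [Int.add_mul_emod_self_left] at h2
    rw [Int.emod_eq_of_lt (by omega) (by omega), Int.emod_eq_of_lt (by omega) (by omega)] at h2
    exact h2
  refine ⟨mul_left_cancel₀ (show (r : ℤ) ≠ 0 by omega) (by linarith), by exact_mod_cast h1⟩

end Groth.Agent.ASB24
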