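import Groth.Agent.ASB24.TwistAut
import Groth.Agent.ASB24.CyclicPic
import Groth.Agent.S3581
import Groth.Agent.S14209

/-!
# Absolutely split bundles on Severi–Brauer varieties
-/

set_option linter.style.haveILetI false
set_option backward.isDefEq.respectTransparency false
set_option backward.isDefEq.respectTransparency.types false

universe u

open CategoryTheory CategoryTheory.Limits AlgebraicGeometry TopologicalSpace

namespace Groth.Agent.ASB24

open Groth.Agent

attribute [local instance] Abelian.hasFiniteBiproducts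

variable {k : Type u} [Field k] {X : Scheme.{u}} {f : X ⟶ Spec (CommRingCat.of k)}
  {K : Type u} [Field K] [Algebra k K] {n : ℕ}

theorem connected_bc (e : BrSev.Splitting f K n) : ConnectedSpace ↥(BrSev.bc f K) := by
  haveI := H23.PnChart.isIntegral_projSpace n K
  haveI := nonempty_bc e
  haveI : IsIntegral (BrSev.bc f K) := isIntegral_of_isOpenImmersion e.iso.hom
  infer_instance

/-- The invertible modules of a split form are the twists. -/
theorem exists_eq_twist (e : BrSev.Splitting f K n) {L : (BrSev.bc f K).Modules} (hL : PicF.IsInvertible L) :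
    ∃ a : ℤ, Nonempty (L ≅ e.twist a) := by
  let M := (Scheme.Modules.pullback e.iso.inv).obj L
  have hM : PicF.IsInvertible M := PicLoc.isInvertible_pullback e.iso.inv hL
  suffices ∃ a : ℤ, Nonempty (M ≅ Twist.twistProjSpace n K a) by
    obtain ⟨a, ⟨t⟩⟩ := this
    exact ⟨a, ⟨((Scheme.Modules.pullbackId _).app L).symm ≪≫
      (Scheme.Modules.pullbackCongr e.iso.hom_inv_id.symm).app L ≪≫
      ((Scheme.Modules.pullbackComp e.iso.hom e.iso.inv).app L).symm ≪≫
      (Scheme.Modules.pullback e.iso.hom).mapIso t⟩⟩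
  rcases Nat.eq_zero_or_pos n with rfl | hn
  · refine ⟨0, ?_⟩
    haveI := S3581.result K
    haveI : Subsingleton ↥(CohB1.ProjSpace 0 K) :=
      haveI : Subsingleton ↥(Spec (CommRingCat.of K)) := inferInstanceAs (Subsingleton (PrimeSpectrum K))
      (CohB1.ProjSpace.toSpec 0 K).homeomorph.injective.subsingleton
    have triv : ∀ {N : (CohB1.ProjSpace 0 K).Modules}, PicF.IsInvertible N → Nonempty (N ≅ Coh.structureModule _) := fun {N} hN => by
      obtain ⟨x⟩ : Nonempty ↥(CohB1.ProjSpace 0 K) :=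
        haveI := H23.PnChart.isIntegral_projSpace 0 K
        inferInstance
      obtain ⟨U, hx, ⟨a⟩⟩ := hN x
      haveI : IsIso U.ι := by
        have : U = ⊤ := eq_top_iff.2 fun y _ => Subsingleton.elim x y ▸ hx
        subst this
        exact inferInstanceAs (IsIso (CohB1.ProjSpace 0 K).topIso.hom)
      exact ⟨((Scheme.Modules.pullbackId _).app N).symm ≪≫
        (Scheme.Modules.pullbackCongr (IsIso.inv_hom_id U.ι).symm).app N ≪≫
        ((Scheme.Modules.pullbackComp (inv U.ι) U.ι).app N).symm ≪≫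
        (Scheme.Modules.pullback (inv U.ι)).mapIso (((Scheme.Modules.restrictFunctorIsoPullback U.ι).app N).symm ≪≫ a) ≪≫
        H23.Chern.pullUnit (inv U.ι)⟩
    exact ⟨(triv hM).some ≪≫ (twist_trivial K 0).some.symm⟩
  · exact (S10960.result K n hn M hM).exists

variable [IsProper f] [IsAlgClosure k K]

/-- Indecomposable isotypical bundles of every type exist when there is a separable splitting field. -/
theorem exists_indec_twist {k' : Type u} [Field k'] [Algebra k k'] [FiniteDimensional k k'] [Algebra.IsSeparable k k']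
    (e' : BrSev.Splitting f k' n) (e : BrSev.Splitting f K n) (j : ℤ) :
    ∃ (W : X.Modules) (r : ℕ), FlatMod.IsFinLocFree W ∧ KSLib.Indec W ∧ 0 < r ∧ BrSev.IsTwPow e j r W := by
  haveI : IsAlgClosed K := IsAlgClosure.isAlgClosed k
  haveI : Algebra.IsAlgebraic k K := IsAlgClosure.isAlgebraic
  haveI : ConnectedSpace ↥(W4bk4gw11416.baseChange f K) := connected_bc e
  obtain ⟨N, d, hN, hd, ⟨a⟩⟩ := exists_bundle_twist e' e j
  exact exists_indec_type f K (isInvertible_twist e j) hN hd a

/-- An indecomposable absolutely split bundle is isotypical. -/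
theorem exists_isTwPow {k' : Type u} [Field k'] [Algebra k k'] [FiniteDimensional k k'] [Algebra.IsSeparable k k']
    (e' : BrSev.Splitting f k' n) (e : BrSev.Splitting f K n) {E : X.Modules} (hE : FlatMod.IsFinLocFree E)
    (hEi : KSLib.Indec E) {s : ℕ} (Ls : Fin s → (BrSev.bc f K).Modules) (hLs : ∀ i, PicF.IsInvertible (Ls i))
    (φ : BrSev.bcMod f K E ≅ ∐ Ls) : ∃ (j : ℤ) (r : ℕ), 0 < r ∧ BrSev.IsTwPow e j r E := by
  haveI : Algebra.IsAlgebraic k K := IsAlgClosure.isAlgebraic
  choose a ha using fun i => exists_eq_twist e (hLs i)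
  choose W r hW hWi hr hWt using fun i => exists_indec_twist e' e (a i)
  obtain ⟨i, ⟨ψ⟩⟩ := exists_iso_of_bc_decomp f K (H28.PushLocFree.isCoh_of_isFinLocFree hE) hEi W
    (fun i => H28.PushLocFree.isCoh_of_isFinLocFree (hW i)) hWi r hr (fun i => e.twist (a i))
    (fun i => (hWt i).some) (φ ≪≫ Sigma.mapIso (fun i => (ha i).some))
  exact ⟨a i, r i, hr i, ⟨(Scheme.Modules.pullback (BrSev.proj f K)).mapIso ψ ≪≫ (hWt i).some⟩⟩

omit [IsAlgClosure k K] in
/-- A summand of a sum of indecomposables is a sum of some of them. -/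
theorem summand_of_sum {Y : Scheme.{u}} (g : Y ⟶ Spec (CommRingCat.of K)) [IsProper g] {A B : Y.Modules}
    (hA : Coh.IsCoh A) (hB : Coh.IsCoh B) {s : ℕ} {L : Fin s → Y.Modules} (hL : ∀ i, KSLib.Indec (L i))
    (φ : A ⊞ B ≅ ⨁ L) : ∃ (m : ℕ) (σ : Fin m → Fin s), Nonempty (A ≅ ∐ fun i => L (σ i)) := by
  obtain ⟨a, As, hAs, ⟨α⟩⟩ := exists_indec g hA
  obtain ⟨b, Bs, hBs, ⟨β⟩⟩ := exists_indec g hB
  obtain ⟨ψ⟩ := KSLib.nonempty_append_iso As Bs
  obtain ⟨τ, hτ⟩ := indec_unique g (F := Fin.append As Bs) (fun j => by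
      induction j using Fin.addCases with
      | left j => simpa using hAs j
      | right j => simpa using hBs j) hL (fun j => by
      induction j using Fin.addCases with
      | left j => simpa using isCoh_component As (SheafHomX.isCoh_of_iso α hA) j
      | right j => simpa using isCoh_component Bs (SheafHomX.isCoh_of_iso β hB) j)
    (ψ.symm ≪≫ (biprod.mapIso α β).symm ≪≫ φ)
  exact ⟨a, fun i => τ (Fin.castAdd b i), ⟨α ≪≫ biproduct.mapIso (fun i =>
    eqToIso (Fin.append_left As Bs i).symm ≪≫ Classical.choice (hτ (Fin.castAdd b i))) ≪≫ biproduct.isoCoproduct _⟩⟩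

/-- Absolutely split bundles decompose into isotypical indecomposables. -/
theorem exists_split_decomp {k' : Type u} [Field k'] [Algebra k k'] [FiniteDimensional k k'] [Algebra.IsSeparable k k']
    (e' : BrSev.Splitting f k' n) (e : BrSev.Splitting f K n) {E : X.Modules} (hE : FlatMod.IsFinLocFree E)
    {s : ℕ} (Ls : Fin s → (BrSev.bc f K).Modules) (hLs : ∀ i, PicF.IsInvertible (Ls i))
    (φ : BrSev.bcMod f K E ≅ ∐ Ls) :
    ∃ (t : ℕ) (Ms : Fin t → X.Modules) (js : Fin t → ℤ) (rs : Fin t → ℕ),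
      (∀ i, FlatMod.IsFinLocFree (Ms i) ∧ KSLib.Indec (Ms i) ∧ 0 < rs i ∧ BrSev.IsTwPow e (js i) (rs i) (Ms i)) ∧
      Nonempty (E ≅ ∐ Ms) := by
  haveI := connected_bc e
  haveI : IsProper (BrSev.bcTo f K) := MorphismProperty.pullback_snd _ _ ‹IsProper f›
  obtain ⟨t, Ms, hMs, ⟨α⟩⟩ := exists_indec f (H28.PushLocFree.isCoh_of_isFinLocFree hE)
  have hflf : ∀ i, FlatMod.IsFinLocFree (Ms i) := fun i =>
    UnivThick.isFinLocFree_of_retract (biproduct.ι Ms i ≫ α.inv) (α.hom ≫ biproduct.π Ms i) (by simp) hE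
  have hall : ∀ i, ∃ (j : ℤ) (r : ℕ), 0 < r ∧ BrSev.IsTwPow e j r (Ms i) := fun i => by
    rcases t with _ | t
    · exact i.elim0
    obtain ⟨sp, -, -⟩ := KSLib.exists_splitOff Ms i
    let F := Scheme.Modules.pullback (BrSev.proj f K)
    let R := ⨁ fun j => Ms (i.succAbove j)
    haveI : PreservesColimitsOfShape (Discrete WalkingPair) F :=
      (Scheme.Modules.pullbackPushforwardAdjunction (BrSev.proj f K)).leftAdjoint_preservesColimits.preservesColimitsOfShape
    haveI : PreservesBinaryBiproduct (Ms i) R F := preservesBinaryBiproduct_of_preservesBinaryCoproduct F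
    have hR : Coh.IsCoh R := isCoh_biprod_fin _ fun j => H28.PushLocFree.isCoh_of_isFinLocFree (hflf _)
    obtain ⟨m, σ, ⟨ψ⟩⟩ := summand_of_sum (BrSev.bcTo f K)
      (ZClosLib.isCoh_pullback _ (H28.PushLocFree.isCoh_of_isFinLocFree (hflf i))) (ZClosLib.isCoh_pullback _ hR)
      (fun j => indec_invertible (hLs j))
      ((F.mapBiprod (Ms i) R).symm ≪≫ F.mapIso sp.symm ≪≫ F.mapIso α.symm ≪≫ φ ≪≫ (biproduct.isoCoproduct _).symm)
    exact exists_isTwPow e' e (hflf i) (hMs i) (fun j => Ls (σ j)) (fun j => hLs (σ j)) ψ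
  choose js rs hr ht using hall
  exact ⟨t, Ms, js, rs, fun i => ⟨hflf i, hMs i, hr i, ht i⟩, ⟨α ≪≫ biproduct.isoCoproduct _⟩⟩

end Groth.Agent.ASB24
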