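import Groth.Agent.ASB24.EndBrauer
import Groth.Agent.ASB24.SevBrauer
import Groth.Agent.CSALib.Index
import Mathlib.Algebra.Field.Basic

/-!
# Brauer classes of the endomorphism algebras of twisted bundles
-/

set_option linter.style.haveILetI false
set_option backward.isDefEq.respectTransparency false
set_option backward.isDefEq.respectTransparency.types false

universe u v w

open CategoryTheory CategoryTheory.Limits AlgebraicGeometry TensorProduct

namespace Groth.Agent.ASB24

open Groth.Agent

attribute [local instance] Abelian.hasFiniteBiproducts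

section Sim

variable {k : Type u} [Field k] {D : Type v} [Ring D] [Algebra k D] {E : Type w} [Ring E] [Algebra k E]

/-- If a tensor product is split, one factor is similar to the opposite of the other. -/
theorem similar_op_of_tensor [Algebra.IsCentral k E] [IsSimpleRing E] [FiniteDimensional k E]
    (h : CSALib.Similar k (D ⊗[k] E) k) : CSALib.Similar k D Eᵐᵒᵖ :=
  (CSALib.similar_tensor_self_right (A := D)).symm.trans
    ((CSALib.similar_refl.tensor (CSALib.similar_tensor_op k E).symm).trans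
      ((CSALib.similar_of_algEquiv (Algebra.TensorProduct.assoc k k k D E Eᵐᵒᵖ).symm).trans
        ((h.tensor CSALib.similar_refl).trans (CSALib.similar_tensor_self_left (A := Eᵐᵒᵖ)))))

/-- Passing to opposite algebras respects similarity. -/
theorem similar_op (h : CSALib.Similar k D E) : CSALib.Similar k Dᵐᵒᵖ Eᵐᵒᵖ := by
  obtain ⟨n, m, hn, hm, ⟨e⟩⟩ := h
  exact ⟨n, m, hn, hm, ⟨(AlgEquiv.mopMatrix (R := k)).trans ((AlgEquiv.op e).trans (AlgEquiv.mopMatrix (R := k)).symm)⟩⟩

/-- A central simple algebra similar to a division algebra of dimension `r * r` has index `r`. -/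
theorem isIndex_of_similar {D : Type v} [DivisionRing D] [Algebra k D] [Module.Finite k D] {r : ℕ} (hr : 0 < r)
    (hd : Module.finrank k D = r * r) {B : Type w} [Ring B] [Algebra k B] [Algebra.IsCentral k B] [IsSimpleRing B]
    [FiniteDimensional k B] (h : CSALib.Similar k D B) : CSAGal.IsIndex k B r := by
  obtain ⟨l, hl, D', _, _, _, _, ⟨f⟩⟩ := CSALib.exists_division k B
  obtain ⟨g⟩ := CSALib.similar_division_unique (h.trans (CSALib.similar_of_algEquiv_matrix hl.out f))
  exact ⟨hr, l, D', inferInstance, inferInstance, Nat.pos_of_ne_zero hl.out,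
    by rw [← g.toLinearEquiv.finrank_eq, hd, sq], ⟨f⟩⟩

/-- The index does not see passing to the opposite algebra. -/
theorem isIndex_of_similar_op {D : Type v} [DivisionRing D] [Algebra k D] [Module.Finite k D] {r : ℕ} (hr : 0 < r)
    (hd : Module.finrank k D = r * r) {B : Type w} [Ring B] [Algebra k B] [Algebra.IsCentral k B] [IsSimpleRing B]
    [FiniteDimensional k B] (h : CSALib.Similar k D Bᵐᵒᵖ) : CSAGal.IsIndex k B r := by
  refine isIndex_of_similar (D := Dᵐᵒᵖ) hr ?_ ((similar_op h).trans (CSALib.similar_of_algEquiv (AlgEquiv.opOp k B).symm))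
  rw [← hd]
  exact (MulOpposite.opLinearEquiv k (M := D)).finrank_eq.symm

end Sim

section Split

variable {k : Type u} [Field k] {X : Scheme.{u}} [X.Over (Spec (CommRingCat.of k))]
  [IsProper (X ↘ Spec (CommRingCat.of k))] {K : Type u} [Field K] [Algebra k K] [IsAlgClosure k K] {n : ℕ}
  (e : BrSev.Splitting (X ↘ Spec (CommRingCat.of k)) K n)

include e in
theorem isIntegral_bc : IsIntegral (W4bk4gw11416.baseChange (X ↘ Spec (CommRingCat.of k)) K) := by
  haveI := H23.PnChart.isIntegral_projSpace n K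
  haveI := nonempty_bc e
  exact isIntegral_of_isOpenImmersion e.iso.hom

/-- Endomorphism algebras of twisted bundles. -/
theorem end_twist {W : X.Modules} (hW : FlatMod.IsFinLocFree W) {j : ℤ} {r : ℕ} (hr : 0 < r)
    (hWt : BrSev.IsTwPow e j r W) : Module.Finite k (End W) ∧ Algebra.IsCentral k (End W) ∧
      IsSimpleRing (End W) ∧ Module.finrank k (End W) = r * r := by
  haveI : IsAlgClosed K := IsAlgClosure.isAlgClosed k
  haveI := isIntegral_bc e
  obtain ⟨h1, h2, h3⟩ := end_finrank K hW (isInvertible_twist e j) hWt.some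
  exact ⟨h1, (h3 hr).1, (h3 hr).2, h2⟩

theorem isUnit_twist {W : X.Modules} (hW : FlatMod.IsFinLocFree W) (hWi : KSLib.Indec W) {j : ℤ} {r : ℕ}
    (hWt : BrSev.IsTwPow e j r W) {f : End W} (hf : f ≠ 0) : IsUnit f := by
  haveI : IsAlgClosed K := IsAlgClosure.isAlgClosed k
  haveI := isIntegral_bc e
  exact isUnit_of_indec K hW (isInvertible_twist e j) hWt.some hWi hf

omit [IsProper (X ↘ Spec (CommRingCat.of k))] [IsAlgClosure k K] in
theorem isTwPow_tensor {W W' : X.Modules} {i j : ℤ} {r r' : ℕ} (hWt : BrSev.IsTwPow e i r W)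
    (hW't : BrSev.IsTwPow e j r' W') : BrSev.IsTwPow e (i + j) (r * r') (CohB1.tensorMod W W') := by
  obtain ⟨a⟩ := hWt
  obtain ⟨b⟩ := hW't
  obtain ⟨p⟩ := H23.PicMul.pull (BrSev.proj (X ↘ Spec (CommRingCat.of k)) K) W W'
  obtain ⟨c⟩ := tensor_congr a b
  obtain ⟨d⟩ := tensor_pow_pow (e.twist i) (e.twist j) r r'
  obtain ⟨t⟩ := twist_tensor e i j
  exact ⟨p ≪≫ c ≪≫ d ≪≫ Sigma.mapIso (fun _ => t)⟩

theorem isTwPow_structure : BrSev.IsTwPow e 0 1 (Coh.structureModule X) :=
  ⟨H23.Chern.pullUnit (BrSev.proj (X ↘ Spec (CommRingCat.of k)) K) ≪≫ (twist_zero e).some.symm ≪≫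
    (coproductUniqueIso fun _ : Fin 1 => e.twist 0).symm⟩

/-- Endomorphisms of a tensor product of twisted bundles. -/
theorem similar_tensor {W W' : X.Modules} (hW : FlatMod.IsFinLocFree W) (hW' : FlatMod.IsFinLocFree W') {i j : ℤ}
    {r r' : ℕ} (hr : 0 < r) (hr' : 0 < r') (hWt : BrSev.IsTwPow e i r W) (hW't : BrSev.IsTwPow e j r' W') :
    CSALib.Similar k (End W ⊗[k] End W') (End (CohB1.tensorMod W W')) := by
  obtain ⟨_, _, _, h1⟩ := end_twist e hW hr hWt
  obtain ⟨_, _, _, h2⟩ := end_twist e hW' hr' hW't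
  obtain ⟨_, _, _, h3⟩ := end_twist e (W := CohB1.tensorMod W W') (KFlatLib.isFinLocFree_tensor hW hW') (Nat.mul_pos hr hr')
    (isTwPow_tensor e hWt hW't)
  haveI : IsSimpleRing (End W ⊗[k] End W') := CSALib.isSimpleRing_tensorProduct k (End W) (End W')
  have hinj : Function.Injective (tenEnd (k := k) W W') := (tenEnd (k := k) W W').toRingHom.injective
  have hbij : Function.Bijective (tenEnd (k := k) W W') := by
    refine ⟨hinj, (LinearMap.injective_iff_surjective_of_finrank_eq_finrank ?_).1
      (show Function.Injective (tenEnd (k := k) W W').toLinearMap from hinj)⟩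
    rw [Module.finrank_tensorProduct, h1, h2, h3]
    ring
  exact CSALib.similar_of_algEquiv (AlgEquiv.ofBijective _ hbij)

/-- The class only depends on the type. -/
theorem similar_type {V V' : X.Modules} (hV : FlatMod.IsFinLocFree V) (hV' : FlatMod.IsFinLocFree V') {j : ℤ}
    {R R' : ℕ} (hR : 0 < R) (hR' : 0 < R') (hVt : BrSev.IsTwPow e j R V) (hV't : BrSev.IsTwPow e j R' V') :
    CSALib.Similar k (End V) (End V') := by
  haveI : Algebra.IsAlgebraic k K := IsAlgClosure.isAlgebraic
  haveI : IsAlgClosed K := IsAlgClosure.isAlgClosed k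
  haveI := connected_bc e
  let p := X ↘ Spec (CommRingCat.of k)
  have hL := isInvertible_twist e j
  have key : ∀ {U : X.Modules}, FlatMod.IsFinLocFree U → ∀ {S : ℕ}, 0 < S → BrSev.IsTwPow e j S U →
      ∃ (G : X.Modules) (m a : ℕ), m ≠ 0 ∧ FlatMod.IsFinLocFree G ∧ KSLib.Indec G ∧
        Nonempty (BrSev.bcMod p K G ≅ BrSev.pow (e.twist j) a) ∧ Nonempty (U ≅ BrSev.pow G m) := by
    intro U hU S hS hUt
    have hU0 : ¬ IsZero U := fun h => by
      have hz : IsZero (BrSev.pow (e.twist j) S) :=
        IsZero.of_iso (Functor.map_isZero (Scheme.Modules.pullback (BrSev.proj p K)) h) hUt.some.symm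
      have := pow_inj (r' := 0) hL hL (hz.iso (isZero_pow_zero _))
      omega
    obtain ⟨G, m, f, g, hG, hfg, ⟨φ⟩, a, ha⟩ := exists_eq_pow' p K (H28.PushLocFree.isCoh_of_isFinLocFree hU) hU0
      (indec_invertible hL) hUt.some
    refine ⟨G, m, a, fun hm => ?_, UnivThick.isFinLocFree_of_retract f g hfg hU, hG, ha, ⟨φ⟩⟩
    subst hm
    exact hU0 (IsZero.of_iso (isZero_pow_zero G) φ)
  obtain ⟨G, m, a, hm, hGf, hGi, ⟨ha⟩, ⟨φ⟩⟩ := key hV hR hVt
  obtain ⟨G', m', a', hm', hG'f, hG'i, ⟨ha'⟩, ⟨φ'⟩⟩ := key hV' hR' hV't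
  obtain ⟨ψ⟩ := iso_of_bc_pow p K (H28.PushLocFree.isCoh_of_isFinLocFree hGf)
    (H28.PushLocFree.isCoh_of_isFinLocFree hG'f) hGi hG'i ha ha'
  exact ⟨m', m, hm', hm,
    ⟨((endConjAlg φ).trans (endPowAlg' G m)).mapMatrix.trans ((CSALib.matrixMatrix k (End G) m' m).trans
      ((CSALib.matrixMatrix' (End G) m m').symm.trans
        ((endConjAlg φ').trans ((endPowAlg' G' m').trans (endConjAlg ψ).symm.mapMatrix)).symm.mapMatrix))⟩⟩

/-- Endomorphisms of bundles of type zero. -/
theorem similar_structure {V : X.Modules} (hV : FlatMod.IsFinLocFree V) {R : ℕ} (hR : 0 < R)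
    (hVt : BrSev.IsTwPow e 0 R V) : CSALib.Similar k (End V) k := by
  have hO := H9Misc.LocFreeHomTensor.isFinLocFree_structure X
  obtain ⟨_, _, _, hd⟩ := end_twist e hO one_pos (isTwPow_structure e)
  haveI : Nontrivial (End (Coh.structureModule X)) := inferInstance
  have hbij : Function.Bijective (Algebra.ofId k (End (Coh.structureModule X))) := by
    refine ⟨(algebraMap k (End (Coh.structureModule X))).injective, ?_⟩
    exact (LinearMap.injective_iff_surjective_of_finrank_eq_finrank (by rw [Module.finrank_self, hd, one_mul])).1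
      (show Function.Injective (Algebra.linearMap k (End (Coh.structureModule X))) from
        (algebraMap k (End (Coh.structureModule X))).injective)
  exact (similar_type e hV hO hR one_pos hVt (isTwPow_structure e)).trans
    (CSALib.similar_of_algEquiv (AlgEquiv.ofBijective _ hbij)).symm

variable {A : Type u} [Ring A] [Algebra k A] [Algebra.IsCentral k A] [IsSimpleRing A] [FiniteDimensional k A]
  {N : X.Modules} (hN : FlatMod.IsFinLocFree N) {d : ℕ} (hd : 0 < d) (hNt : BrSev.IsTwPow e (-1) d N)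
  (hNA : CSALib.Similar k (End N) A)

include hN hd hNt hNA

/-- Bundles of negative type carry the classes of the tensor powers. -/
theorem exists_neg (m : ℕ) : ∃ (V : X.Modules) (R : ℕ), FlatMod.IsFinLocFree V ∧ 0 < R ∧
    BrSev.IsTwPow e (-(m : ℤ)) R V ∧ CSALib.Similar k (End V) (CSAGal.tpow k A m) := by
  induction m with
  | zero =>
    have hO := H9Misc.LocFreeHomTensor.isFinLocFree_structure X
    exact ⟨_, 1, hO, one_pos, by simpa using isTwPow_structure e,
      (similar_structure e hO one_pos (isTwPow_structure e)).trans (CSALib.similar_of_algEquiv (CSALib.powZero k A)).symm⟩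
  | succ m ih =>
    obtain ⟨V, R, hV, hR, hVt, hVA⟩ := ih
    refine ⟨CohB1.tensorMod N V, d * R, KFlatLib.isFinLocFree_tensor hN hV, Nat.mul_pos hd hR, ?_, ?_⟩
    · have h := isTwPow_tensor e hNt hVt
      rwa [show (-1 : ℤ) + -(m : ℤ) = -((m + 1 : ℕ) : ℤ) by push_cast; ring] at h
    · exact (similar_tensor e hN hV hd hR hNt hVt).symm.trans
        ((hNA.tensor hVA).trans (CSALib.similar_of_algEquiv (CSALib.powSucc k A m)).symm)

theorem similar_neg {V : X.Modules} (hV : FlatMod.IsFinLocFree V) {m : ℕ} {R : ℕ} (hR : 0 < R)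
    (hVt : BrSev.IsTwPow e (-(m : ℤ)) R V) : CSALib.Similar k (End V) (CSAGal.tpow k A m) := by
  obtain ⟨V', R', hV', hR', hV't, h⟩ := exists_neg e hN hd hNt hNA m
  exact (similar_type e hV hV' hR hR' hVt hV't).trans h

theorem similar_pos {V : X.Modules} (hV : FlatMod.IsFinLocFree V) {m : ℕ} {R : ℕ} (hR : 0 < R)
    (hVt : BrSev.IsTwPow e (m : ℤ) R V) : CSALib.Similar k (End V) (CSAGal.tpow k A m)ᵐᵒᵖ := by
  obtain ⟨_, _, _⟩ := CSALib.centralSimple_pow k A m
  obtain ⟨V', R', hV', hR', hV't, h⟩ := exists_neg e hN hd hNt hNA m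
  refine similar_op_of_tensor ((CSALib.similar_refl.tensor h.symm).trans ((similar_tensor e hV hV' hR hR' hVt hV't).trans ?_))
  have h0 := isTwPow_tensor e hVt hV't
  rw [add_neg_cancel] at h0
  exact similar_structure e (KFlatLib.isFinLocFree_tensor hV hV') (Nat.mul_pos hR hR') h0

/-- The multiplicity of an indecomposable of type `j` is the index of the `|j|`-th tensor power. -/
theorem isIndex_twist {W : X.Modules} (hW : FlatMod.IsFinLocFree W) (hWi : KSLib.Indec W) {j : ℤ} {r : ℕ}
    (hr : 0 < r) (hWt : BrSev.IsTwPow e j r W) : CSAGal.IsIndex k (CSAGal.tpow k A j.natAbs) r := by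
  obtain ⟨_, _, _⟩ := CSALib.centralSimple_pow k A j.natAbs
  obtain ⟨_, _, _, hdim⟩ := end_twist e hW hr hWt
  haveI : Nontrivial (End W) := inferInstance
  letI : DivisionRing (End W) := DivisionRing.ofIsUnitOrEqZero fun f => by
    by_cases hf : f = 0
    · exact Or.inr hf
    · exact Or.inl (isUnit_twist e hW hWi hWt hf)
  rcases Int.natAbs_eq j with hj | hj
  · rw [hj] at hWt
    exact isIndex_of_similar_op hr hdim (similar_pos e hN hd hNt hNA hW hr hWt)
  · rw [hj] at hWt
    exact isIndex_of_similar hr hdim (similar_neg e hN hd hNt hNA hW hr hWt)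

end Split

end Groth.Agent.ASB24
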