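import Groth.Agent.ASB24.AmitsurPoint
import Groth.Agent.ASB24.BrauerClass
import Mathlib.FieldTheory.Normal.Closure
import Mathlib.FieldTheory.IsSepClosed

/-!
# The algebras split by the function field of a Severi–Brauer variety
-/

set_option linter.style.haveILetI false

universe u

open CategoryTheory AlgebraicGeometry Matrix
open scoped TensorProduct
attribute [local instance] Curv2.stalkAlgebra

noncomputable section

namespace Groth.Agent.ASB24.Amitsur

open Groth.Agent Groth.Agent.CSALib

/-- Two central simple algebras have a common finite Galois splitting field. -/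
theorem exists_common_splitting (k : Type u) [Field k] (A : Type u) [Ring A] [Algebra k A] [Algebra.IsCentral k A]
    [IsSimpleRing A] [FiniteDimensional k A] (B : Type u) [Ring B] [Algebra k B] [Algebra.IsCentral k B]
    [IsSimpleRing B] [FiniteDimensional k B] :
    ∃ (K : Type u) (_ : Field K) (_ : Algebra k K), FiniteDimensional k K ∧ IsGalois k K ∧
      Similar K (K ⊗[k] A) K ∧ Similar K (K ⊗[k] B) K := by
  let Ω := SeparableClosure k
  obtain ⟨F₁, _, _, m₁, hm₁, _, _, ⟨e₁⟩⟩ := exists_separable_splitting k A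
  obtain ⟨F₂, _, _, m₂, hm₂, _, _, ⟨e₂⟩⟩ := exists_separable_splitting k B
  let σ₁ : F₁ →ₐ[k] Ω := IsSepClosed.lift
  let σ₂ : F₂ →ₐ[k] Ω := IsSepClosed.lift
  haveI : FiniteDimensional k σ₁.fieldRange := (AlgEquiv.ofInjectiveField σ₁).toLinearEquiv.finiteDimensional
  haveI : FiniteDimensional k σ₂.fieldRange := (AlgEquiv.ofInjectiveField σ₂).toLinearEquiv.finiteDimensional
  haveI : IsGalois k Ω := IsSepClosure.isGalois
  let E : IntermediateField k Ω := σ₁.fieldRange ⊔ σ₂.fieldRange
  haveI : FiniteDimensional k E := IntermediateField.finiteDimensional_sup _ _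
  let K := IntermediateField.normalClosure k E Ω
  haveI : IsGalois k K := IsGalois.normalClosure k E Ω
  have hE : E ≤ K := IntermediateField.le_normalClosure E
  refine ⟨K, inferInstance, inferInstance, inferInstance, inferInstance, ?_, ?_⟩
  · letI : Algebra F₁ K :=
      ((IntermediateField.inclusion ((le_sup_left : σ₁.fieldRange ≤ E).trans hE)).comp σ₁.rangeRestrict).toRingHom.toAlgebra
    haveI : IsScalarTower k F₁ K := IsScalarTower.of_algebraMap_eq fun x => (AlgHom.commutes _ x).symm
    exact similar_of_algEquiv_matrix hm₁.out (splitTrans K e₁)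
  · letI : Algebra F₂ K :=
      ((IntermediateField.inclusion ((le_sup_right : σ₂.fieldRange ≤ E).trans hE)).comp σ₂.rangeRestrict).toRingHom.toAlgebra
    haveI : IsScalarTower k F₂ K := IsScalarTower.of_algebraMap_eq fun x => (AlgHom.commutes _ x).symm
    exact similar_of_algEquiv_matrix hm₂.out (splitTrans K e₂)

/-- A split algebra of known dimension is a matrix algebra of known size. -/
theorem exists_matrix_of_similar {k K : Type u} [Field k] [Field K] [Algebra k K] {A : Type u} [Ring A] [Algebra k A]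
    [Algebra.IsCentral k A] [IsSimpleRing A] [FiniteDimensional k A] {n : ℕ} (hA : Module.finrank k A = n * n)
    (h : Similar K (K ⊗[k] A) K) : Nonempty (K ⊗[k] A ≃ₐ[K] Matrix (Fin n) (Fin n) K) := by
  haveI := isCentral_baseChange k A K
  haveI := isSimpleRing_baseChange k A K
  obtain ⟨l, -, ⟨e⟩⟩ := similar_field_iff.1 h
  have hl := e.toLinearEquiv.finrank_eq
  rw [Module.finrank_baseChange, hA, Module.finrank_matrix, Module.finrank_self, Fintype.card_fin, mul_one] at hl
  obtain rfl := Nat.mul_self_inj.1 hl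
  exact ⟨e⟩

/-- A representation over a field of full size is a splitting. -/
theorem exists_equiv_of_hom {k K : Type u} [Field k] [Field K] [Algebra k K] {A : Type u} [Ring A] [Algebra k A]
    [Algebra.IsCentral k A] [IsSimpleRing A] [FiniteDimensional k A] {n : ℕ} (hn : 0 < n)
    (hA : Module.finrank k A = n * n) (g : A →ₐ[k] Matrix (Fin n) (Fin n) K) :
    ∃ Φ : K ⊗[k] A ≃ₐ[K] Matrix (Fin n) (Fin n) K, ∀ a, Φ (1 ⊗ₜ[k] a) = g a := by
  haveI := isSimpleRing_baseChange k A K
  haveI : Nonempty (Fin n) := ⟨⟨0, hn⟩⟩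
  let G : K ⊗[k] A →ₐ[K] Matrix (Fin n) (Fin n) K :=
    Algebra.TensorProduct.lift (Algebra.ofId K _) g fun x a => Algebra.commutes x _
  have hinj : Function.Injective G := RingHom.injective G.toRingHom
  have hd : Module.finrank K (K ⊗[k] A) = Module.finrank K (Matrix (Fin n) (Fin n) K) := by
    rw [Module.finrank_baseChange, hA, Module.finrank_matrix, Module.finrank_self, Fintype.card_fin, mul_one]
  exact ⟨AlgEquiv.ofBijective G ⟨hinj,
    (LinearMap.injective_iff_surjective_of_finrank_eq_finrank hd (f := G.toLinearMap)).1 hinj⟩, fun a => by simp [G]⟩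

variable {k : Type u} [Field k] {A : Type u} [Ring A] [Algebra k A] [Algebra.IsCentral k A] [IsSimpleRing A]
  [FiniteDimensional k A] {n : ℕ} (hn : 0 < n) (hA : Module.finrank k A = n * n)
  {X : Scheme.{u}} [X.Over (Spec (CommRingCat.of k))] [IsIntegral X]
  (hX : BrSev.IsSBOf k A (n * n - n) (X ↘ Spec (CommRingCat.of k)))
  {B : Type u} [Ring B] [Algebra k B] [Algebra.IsCentral k B] [IsSimpleRing B] [FiniteDimensional k B]

include hn hA hX

/-- An algebra split by the function field is similar to a power. -/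
theorem exists_pow_of_splits (h : Curves.Splits k B X.functionField) :
    ∃ m : ℕ, Similar k B (CSAGal.tpow k A m) := by
  obtain ⟨m, hm, ⟨eF⟩⟩ := h
  obtain ⟨K, _, _, _, _, hAK, hBK⟩ := exists_common_splitting k A B
  obtain ⟨N, rfl⟩ : ∃ N, n = N + 1 := ⟨n - 1, by omega⟩
  obtain ⟨φA⟩ := exists_matrix_of_similar hA hAK
  have hB : Module.finrank k B = m * m := by
    have h := eF.toLinearEquiv.finrank_eq
    rwa [Module.finrank_baseChange, Module.finrank_matrix, Module.finrank_self, Fintype.card_fin, mul_one] at h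
  haveI : NeZero m := ⟨hm⟩
  obtain ⟨φB⟩ := exists_matrix_of_similar hB hBK
  obtain ⟨g, u, a, hdA, -, hgu, huu⟩ := exists_factorSet φA
  obtain ⟨h, v, c, hdB, hc0, hhv, hvv⟩ := exists_factorSet φB
  obtain ⟨Φ, hΦ⟩ := exists_equiv_of_hom hn hA g
  obtain ⟨s⟩ := hX
  obtain ⟨ι, hι⟩ := exists_funField_hom Φ hA s
  have hιfix : ∀ σ, (act (u σ) σ).comp ι = ι := fun σ => hι _ _ fun x => by rw [hΦ]; exact hgu σ x
  let E := L K (N + 1)
  let χ₀ : B →ₐ[k] Matrix (Fin m) (Fin m) E :=
    ι.mapMatrix.comp ((eF.toAlgHom.restrictScalars k).comp Algebra.TensorProduct.includeRight)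
  have hχfix : ∀ σ b, (χ₀ b).map (act (u σ) σ) = χ₀ b := fun σ b =>
    Matrix.ext fun i j => congr($(hιfix σ) ((eF (1 ⊗ₜ[k] b)) i j))
  let T : (K ≃ₐ[k] K) → E →+* E := fun σ => (act (u σ) σ : E →+* E)
  let E₀ : IntermediateField K E :=
    { carrier := {z | ∀ σ τ, T σ (T τ z) = T (σ * τ) z}
      mul_mem' := fun hx hy σ τ => by simp [hx σ τ, hy σ τ]
      one_mem' := fun σ τ => by simp
      add_mem' := fun hx hy σ τ => by simp [hx σ τ, hy σ τ]
      zero_mem' := fun σ τ => by simp
      algebraMap_mem' := fun r σ τ => by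
        show twistL (u σ) σ (twistL (u τ) τ (algebraMap K E r)) = twistL (u (σ * τ)) (σ * τ) (algebraMap K E r)
        rw [← cK_eq, twistL_const, twistL_const, twistL_const]
        rfl
      inv_mem' := fun x hx σ τ => by rw [map_inv₀, map_inv₀, map_inv₀, hx σ τ] }
  have hmem : ∀ b i j, χ₀ b i j ∈ E₀ := fun b i j σ τ => by
    show act (u σ) σ (act (u τ) τ (χ₀ b i j)) = act (u (σ * τ)) (σ * τ) (χ₀ b i j)
    have e : ∀ σ', act (u σ') σ' (χ₀ b i j) = χ₀ b i j := fun σ' => congrFun (congrFun (hχfix σ' b) i) j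
    rw [e, e, e]
  let jm : Matrix (Fin m) (Fin m) E₀ →ₐ[k] Matrix (Fin m) (Fin m) E := (E₀.val.restrictScalars k).mapMatrix
  have hjm : Function.Injective jm := Matrix.map_injective Subtype.coe_injective
  let χ : B →ₐ[k] Matrix (Fin m) (Fin m) E₀ :=
    { toFun := fun b => Matrix.of fun i j => ⟨χ₀ b i j, hmem b i j⟩
      map_one' := hjm (show χ₀ 1 = jm 1 by rw [map_one, map_one])
      map_mul' := fun x y => hjm (by refine Eq.trans ?_ (map_mul jm _ _).symm; exact map_mul χ₀ x y)
      map_zero' := hjm (show χ₀ 0 = jm 0 by rw [map_zero, map_zero])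
      map_add' := fun x y => hjm (by refine Eq.trans ?_ (map_add jm _ _).symm; exact map_add χ₀ x y)
      commutes' := fun r => hjm ((χ₀.commutes r).trans (jm.commutes r).symm) }
  let hE : B →ₐ[k] Matrix (Fin m) (Fin m) E₀ := (IsScalarTower.toAlgHom k K E₀).mapMatrix.comp h
  haveI : Nonempty (Fin m) := ⟨⟨0, Nat.pos_of_ne_zero hm⟩⟩
  haveI := isSimpleRing_baseChange k B E₀
  let G : (B →ₐ[k] Matrix (Fin m) (Fin m) E₀) → (E₀ ⊗[k] B →ₐ[E₀] Matrix (Fin m) (Fin m) E₀) := fun f =>
    Algebra.TensorProduct.lift (Algebra.ofId E₀ _) f fun x b => Algebra.commutes x _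
  obtain ⟨P₀, hP₀⟩ := CSALib.skolem_noether E₀ (G hE) (G χ)
  let P : GL (Fin m) E := Units.map jm.toRingHom.toMonoidHom P₀
  let hh : B →ₐ[k] Matrix (Fin m) (Fin m) E := (IsScalarTower.toAlgHom k K E).mapMatrix.comp h
  let Pm : Matrix (Fin m) (Fin m) E := P
  have hP : ∀ b, χ₀ b * Pm = Pm * hh b := fun b => by
    have e := congrArg jm (congrArg (fun z => z * (P₀ : Matrix (Fin m) (Fin m) E₀)) (hP₀ (1 ⊗ₜ b)))
    simp only [mul_assoc, Units.inv_mul, mul_one, map_mul, G, Algebra.TensorProduct.lift_tmul, map_one, one_mul] at e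
    exact e
  let V : (K ≃ₐ[k] K) → Matrix (Fin m) (Fin m) E := fun σ => (v σ : Matrix (Fin m) (Fin m) K).map (algebraMap K E)
  let V' : (K ≃ₐ[k] K) → Matrix (Fin m) (Fin m) E := fun σ =>
    ((v σ)⁻¹ : GL (Fin m) K).1.map (algebraMap K E)
  have hVV : ∀ σ, V σ * V' σ = 1 ∧ V' σ * V σ = 1 := fun σ => by
    simp only [V, V', ← Matrix.map_mul, Units.mul_inv, Units.inv_mul, Matrix.map_one _ (map_zero _) (map_one _), and_self]
  obtain ⟨Φ', hΦ'⟩ := exists_equiv_of_hom (K := E) (Nat.pos_of_ne_zero hm) hB hh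
  have hTC : ∀ σ (M : Matrix (Fin m) (Fin m) K),
      (M.map (algebraMap K E)).map (T σ) = (M.map σ).map (algebraMap K E) := fun σ M => Matrix.ext fun i j => by
    show twistL (u σ) σ (algebraMap K E (M i j)) = algebraMap K E (σ (M i j))
    rw [← cK_eq, twistL_const]
  have hb : ∀ σ, ∃ b : E, b ≠ 0 ∧ Pm.map (T σ) = b • (Pm * V σ) := by
    intro σ
    let Pi : Matrix (Fin m) (Fin m) E := ((P⁻¹ : GL (Fin m) E) : Matrix (Fin m) (Fin m) E)
    let Z := Pi * Pm.map (T σ) * V' σ
    have hcomm : ∀ b, Commute Z (hh b) := fun b => by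
      have e1 : (hh b).map (T σ) * V' σ = V' σ * hh b := by
        have e := congrArg (fun M : Matrix (Fin m) (Fin m) K => M.map (algebraMap K E)) (hhv σ b)
        simp only [Matrix.map_mul] at e
        rw [show (hh b).map (T σ) = ((h b).map σ).map (algebraMap K E) from hTC σ (h b)]
        calc _ = V' σ * (V σ * ((h b).map σ).map (algebraMap K E)) * V' σ := by
              rw [← mul_assoc (V' σ), (hVV σ).2, one_mul]
          _ = V' σ * ((h b).map (algebraMap K E) * V σ) * V' σ := by rw [← e]
          _ = _ := by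
              rw [mul_assoc, mul_assoc ((h b).map (algebraMap K E)), (hVV σ).1, mul_one]
              rfl
      have e2 : χ₀ b * Pm.map (T σ) = Pm.map (T σ) * (hh b).map (T σ) := by
        have e := congrArg (fun M : Matrix (Fin m) (Fin m) E => M.map (T σ)) (hP b)
        simp only [Matrix.map_mul] at e
        rwa [show (χ₀ b).map (T σ) = χ₀ b from hχfix σ b] at e
      have e3 : hh b * Pi = Pi * χ₀ b := by
        calc _ = Pi * (Pm * hh b) * Pi := by rw [← mul_assoc Pi, Units.inv_mul, one_mul]
          _ = _ := by rw [← hP, mul_assoc, mul_assoc (χ₀ b), Units.mul_inv, mul_one]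
      show Z * hh b = hh b * Z
      simp only [Z]
      rw [mul_assoc _ (V' σ), ← e1, ← mul_assoc, mul_assoc Pi, ← e2, ← mul_assoc, ← e3]
      simp only [mul_assoc]
    have hcen : Z ∈ Subalgebra.center E (Matrix (Fin m) (Fin m) E) := by
      refine Subalgebra.mem_center_iff.2 fun M => ?_
      obtain ⟨t, rfl⟩ := Φ'.surjective M
      induction t using TensorProduct.induction_on with
      | zero => simp
      | tmul x b =>
        rw [show x ⊗ₜ[k] b = x • ((1 : E) ⊗ₜ[k] b) by simp [TensorProduct.smul_tmul'], map_smul, hΦ', smul_mul_assoc,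
          mul_smul_comm, (hcomm b).eq]
      | add s t hs ht => rw [map_add, add_mul, mul_add, hs, ht]
    obtain ⟨r, hr⟩ := Algebra.IsCentral.out hcen
    have hr' : algebraMap E (Matrix (Fin m) (Fin m) E) r = Z := hr
    have hZ : Pm.map (T σ) = r • (Pm * V σ) := by
      calc _ = Pm * Pi * Pm.map (T σ) * (V' σ * V σ) := by rw [Units.mul_inv, one_mul, (hVV σ).2, mul_one]
        _ = Pm * Z * V σ := by simp only [Z, mul_assoc]
        _ = _ := by rw [← hr', Algebra.algebraMap_eq_smul_one, mul_smul_comm, mul_one, smul_mul_assoc]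
    refine ⟨r, fun h0 => ?_, hZ⟩
    rw [h0, zero_smul] at hZ
    exact P.ne_zero (Matrix.map_injective (T σ).injective (hZ.trans (Matrix.map_zero _ (map_zero _)).symm))
  choose b hb0 hbP using hb
  have hc : ∀ σ τ, cK (c σ τ) * b σ * twistL (u σ) σ (b τ) = b (σ * τ) := fun σ τ => by
    have h1 : (Pm.map (T τ)).map (T σ) = Pm.map (T (σ * τ)) :=
      Matrix.ext fun i j => ((P₀ : Matrix (Fin m) (Fin m) E₀) i j).2 σ τ
    have hsm : ∀ (r : E) (M : Matrix (Fin m) (Fin m) E), (r • M).map (T σ) = T σ r • M.map (T σ) := fun r M =>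
      Matrix.ext fun i j => map_mul (T σ) _ _
    rw [hbP, hbP, hsm, Matrix.map_mul, hbP, hTC, smul_mul_assoc, mul_assoc Pm, ← Matrix.map_mul, hvv,
      show ((c σ τ • (v (σ * τ) : Matrix (Fin m) (Fin m) K))).map (algebraMap K E) = algebraMap K E (c σ τ) • V (σ * τ) from
        Matrix.ext fun i j => by simp [V], mul_smul_comm, smul_smul, smul_smul] at h1
    have hne : Pm * V (σ * τ) ≠ 0 := by
      intro h0
      exact P.ne_zero (by
        have := congrArg (· * V' (σ * τ)) h0
        rwa [mul_assoc, (hVV _).1, mul_one, zero_mul] at this)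
    have h2 := smul_left_injective E hne h1
    rw [← h2, cK_eq]
    show _ = T σ (b τ) * b σ * _
    show _ * _ * T σ (b τ) = _
    ring
  obtain ⟨e, f, hf⟩ := exists_pow_coboundary u huu hn b hb0 hc
  obtain ⟨_, _, _⟩ := centralSimple_pow k A e
  obtain ⟨_, _, _⟩ := centralSimple_pow k A (e * N)
  haveI : Algebra.IsCentral k (B ⊗[k] CSAGal.tpow k A e) := isCentral_tensorProduct k B (CSAGal.tpow k A e)
  haveI : IsSimpleRing (B ⊗[k] CSAGal.tpow k A e) := isSimpleRing_tensorProduct k B (CSAGal.tpow k A e)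
  have hAfs : HasFactorSet k K A a := ⟨N + 1, g, u, by omega, hdA, hgu, huu⟩
  have hBfs : HasFactorSet k K B c := ⟨m, h, v, hm, hdB, hhv, hvv⟩
  have hS := similar_of_coboundary (hBfs.tensor (hAfs.pow e)) f fun σ τ => hf σ τ
  have hA' : Similar k (⨂[k] _i : Fin (N + 1), A) k := similar_pow_degree φA
  have hC : Similar k (CSAGal.tpow k A (e * N) ⊗[k] CSAGal.tpow k A e) k := by
    refine (similar_pow_add k A (e * N) e).symm.trans ?_
    have h0 := pow_mul_split hA' e
    rwa [show (N + 1) * e = e * N + e by ring] at h0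
  exact ⟨e * N, (similar_op_of_tensor hS).trans (similar_op_of_tensor hC).symm⟩

/-- The function field splits the algebra, hence everything similar to a power. -/
theorem splits_of_pow {m : ℕ} (h : Similar k B (CSAGal.tpow k A m)) : Curves.Splits k B X.functionField := by
  let F := X.functionField
  obtain ⟨s⟩ := hX
  obtain ⟨P⟩ : Nonempty (BrSev.Pts (X ↘ Spec (CommRingCat.of k)) F) := ⟨⟨X.fromSpecStalk (genericPoint X), by
    have h : (X ↘ Spec (CommRingCat.of k)) = X.toSpecΓ ≫
        Spec.map ((Scheme.ΓSpecIso (CommRingCat.of k)).inv ≫ (X ↘ Spec (CommRingCat.of k)).appTop) := by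
      rw [Spec.map_comp, ← Scheme.toSpecΓ_naturality_assoc, toSpecΓ_SpecMap_ΓSpecIso_inv, Category.comp_id]
    conv_lhs => rw [h]
    rw [← Category.assoc, Scheme.fromSpecStalk_toSpecΓ, ← Spec.map_comp]
    rfl⟩⟩
  let I := s.bij F P
  let M : Submodule F (F ⊗[k] A) := I.1.toSubmodule
  have hM : Module.finrank F M = n := by
    have h1 := M.finrank_quotient_add_finrank
    rw [Module.finrank_baseChange, hA] at h1
    haveI := I.1.projective_quotient
    have h2 := I.1.rankAtStalk_eq ⟨⊥, Ideal.isPrime_bot⟩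
    rw [Module.rankAtStalk_eq_finrank_of_free] at h2
    simp at h2
    change _ + _ = _ at h1
    change Module.finrank F ((F ⊗[k] A) ⧸ M) = _ at h2
    have h3 : n ≤ n * n := Nat.le_mul_self n
    omega
  let ρ : F ⊗[k] A →ₐ[F] Module.End F M :=
    { toFun := fun x => (LinearMap.mulLeft F x).restrict (p := M) (q := M) fun y hy => I.2 x y hy
      map_one' := LinearMap.ext fun y => Subtype.ext (one_mul _)
      map_mul' := fun x y => LinearMap.ext fun z => Subtype.ext (mul_assoc x y _)
      map_zero' := LinearMap.ext fun y => Subtype.ext (zero_mul _)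
      map_add' := fun x y => LinearMap.ext fun z => Subtype.ext (add_mul x y _)
      commutes' := fun r => LinearMap.ext fun y => Subtype.ext (Algebra.smul_def r _).symm }
  haveI := isSimpleRing_baseChange k A F
  haveI := isCentral_baseChange k A F
  haveI : Nontrivial M := Module.nontrivial_of_finrank_pos (R := F) (hM ▸ hn)
  have hinj : Function.Injective ρ := RingHom.injective ρ.toRingHom
  have hd : Module.finrank F (F ⊗[k] A) = Module.finrank F (Module.End F M) := by
    rw [Module.finrank_baseChange, hA, Module.finrank_linearMap, hM]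
  haveI : Module.Finite F M := Module.Finite.of_injective M.subtype Subtype.coe_injective
  have hsurj : Function.Surjective ρ := by
    have h := LinearMap.injective_iff_surjective_of_finrank_eq_finrank (K := F) (V := F ⊗[k] A) (V₂ := Module.End F M) hd
      (f := ρ.toLinearMap)
    exact h.1 hinj
  have hAF : Similar F (F ⊗[k] A) F := similar_of_algEquiv_matrix hn.ne'
    ((AlgEquiv.ofBijective ρ ⟨hinj, hsurj⟩).trans
      (algEquivMatrix (Module.finBasisOfFinrankEq F M hM)))
  exact (splits_iff F).2 ((h.baseChange F).trans (hAF.baseChange_pow m))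

end Groth.Agent.ASB24.Amitsur

end
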