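import Groth.Agent.CSALib.FactorSet
import Mathlib.RingTheory.MvPolynomial.Basic
import Mathlib.Algebra.MvPolynomial.Nilpotent
import Mathlib.RingTheory.Polynomial.UniqueFactorization
import Mathlib.RingTheory.Localization.FractionRing
import Mathlib.Algebra.GCDMonoid.Basic
import Mathlib.RingTheory.UniqueFactorizationDomain.GCDMonoid

/-!
# The twisted Galois action on the function field of projective space
-/

set_option linter.style.haveILetI false

universe u

open Matrix MvPolynomial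
open scoped TensorProduct

noncomputable section

namespace Groth.Agent.ASB24.Amitsur

variable {k K : Type u} [Field k] [Field K] [Algebra k K] {n : ℕ}

/-- Polynomials in the coordinates. -/
abbrev R (K : Type u) [Field K] (n : ℕ) : Type u := MvPolynomial (Fin n) K

/-- The field of fractions of the polynomials. -/
abbrev L (K : Type u) [Field K] (n : ℕ) : Type u := FractionRing (R K n)

/-- The semilinear substitution by a matrix. -/
def twist₀ (u : Matrix (Fin n) (Fin n) K) (σ : K ≃ₐ[k] K) : R K n →+* R K n :=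
  eval₂Hom ((C : K →+* R K n).comp (σ : K →+* K)) fun i => ∑ j, C (u j i) * X j

theorem twist₀_comp (u u' : Matrix (Fin n) (Fin n) K) (σ τ : K ≃ₐ[k] K) :
    (twist₀ u σ).comp (twist₀ u' τ) = twist₀ (u * u'.map σ) (σ * τ) := by
  refine MvPolynomial.ringHom_ext (fun r => by simp [twist₀]) fun i => ?_
  simp only [twist₀, RingHom.comp_apply, eval₂Hom_X', map_sum, map_mul, eval₂Hom_C, Matrix.mul_apply,
    Matrix.map_apply, Finset.sum_mul, Finset.mul_sum, RingHom.coe_coe, AlgEquiv.coe_ringHom_commutes]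
  rw [Finset.sum_comm]
  refine Finset.sum_congr rfl fun j _ => Finset.sum_congr rfl fun l _ => ?_
  ring

theorem twist₀_one : twist₀ (k := k) (1 : Matrix (Fin n) (Fin n) K) 1 = RingHom.id _ := by
  refine MvPolynomial.ringHom_ext (fun r => by simp [twist₀]) fun i => ?_
  simp [twist₀, Matrix.one_apply, apply_ite C, ite_mul]

/-- The semilinear substitution by an invertible matrix is an automorphism. -/
def twistR (u : GL (Fin n) K) (σ : K ≃ₐ[k] K) : R K n ≃+* R K n :=
  RingEquiv.ofRingHom (twist₀ (u : Matrix (Fin n) (Fin n) K) σ)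
    (twist₀ (((u⁻¹ : GL (Fin n) K) : Matrix (Fin n) (Fin n) K).map ⇑(σ⁻¹ : K ≃ₐ[k] K)) σ⁻¹)
    (by
      rw [twist₀_comp, mul_inv_cancel, Matrix.map_map,
        show ⇑σ ∘ ⇑(σ⁻¹ : K ≃ₐ[k] K) = id from funext fun x => σ.apply_symm_apply x, Matrix.map_id,
        Units.mul_inv, twist₀_one])
    (by
      rw [twist₀_comp, inv_mul_cancel, ← Matrix.map_mul, Units.inv_mul, Matrix.map_one _ (map_zero _) (map_one _),
        twist₀_one])

/-- The extension to the fraction field. -/
def twistL (u : GL (Fin n) K) (σ : K ≃ₐ[k] K) : L K n ≃+* L K n :=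
  IsFractionRing.ringEquivOfRingEquiv (twistR u σ)

theorem twistL_algebraMap (u : GL (Fin n) K) (σ : K ≃ₐ[k] K) (p : R K n) :
    twistL u σ (algebraMap (R K n) (L K n) p) = algebraMap (R K n) (L K n) (twistR u σ p) :=
  IsFractionRing.ringEquivOfRingEquiv_algebraMap _ _

/-- The constants. -/
abbrev cK : K →+* L K n := (algebraMap (R K n) (L K n)).comp C

theorem twistL_const (u : GL (Fin n) K) (σ : K ≃ₐ[k] K) (x : K) :
    twistL u σ (cK x) = cK (σ x) := by
  rw [RingHom.comp_apply, twistL_algebraMap]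
  simp [twistR, twist₀]

section Eigen

/-- A relation of scalings determines the scalar as a power. -/
theorem exists_eigen {G Q : R K n} (hG : G ≠ 0) (hQ : Q ≠ 0) :
    ∃ e₁ e₂ : ℕ, ∀ a l : K, bind₁ (fun i => C a * X i) G * Q = C l * G * bind₁ (fun i => C a * X i) Q →
      a ^ e₁ = l * a ^ e₂ := by
  let sc : R K n →ₐ[K] Polynomial (R K n) := aeval fun i => Polynomial.X * Polynomial.C (X i)
  have hinj : Function.Injective sc := by
    have h : ((Polynomial.aeval (1 : R K n)).restrictScalars K).comp sc = AlgHom.id K (R K n) :=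
      MvPolynomial.algHom_ext fun i => by simp [sc]
    exact fun x y e => by simpa [← AlgHom.comp_apply, h] using congrArg ((Polynomial.aeval (1 : R K n)).restrictScalars K) e
  have hsc : ∀ (a : K) (P : R K n), sc (bind₁ (fun i => C a * X i) P) =
      (sc P).comp (Polynomial.C (C a) * Polynomial.X) := by
    intro a P
    have hc : ∀ x : K, sc (C x) = Polynomial.C (C x) := fun x => by
      simp [sc, IsScalarTower.algebraMap_apply K (R K n) (Polynomial (R K n))]
    have h : (sc : R K n →+* Polynomial (R K n)).comp (bind₁ (fun i => C a * X i : Fin n → R K n)).toRingHom =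
        (Polynomial.compRingHom (Polynomial.C (C a) * Polynomial.X)).comp (sc : R K n →+* Polynomial (R K n)) := by
      refine MvPolynomial.ringHom_ext (fun x => by simp [hc]) fun i => ?_
      simp [sc, hc, IsScalarTower.algebraMap_apply K (R K n) (Polynomial (R K n))]
      ring
    exact congr($h P)
  have hG' : (sc G).leadingCoeff ≠ 0 := Polynomial.leadingCoeff_ne_zero.2 ((map_ne_zero_iff sc hinj).2 hG)
  have hQ' : (sc Q).leadingCoeff ≠ 0 := Polynomial.leadingCoeff_ne_zero.2 ((map_ne_zero_iff sc hinj).2 hQ)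
  refine ⟨(sc G).natDegree, (sc Q).natDegree, fun a l h => ?_⟩
  have h' := congrArg (fun P => (P : Polynomial (R K n)).coeff ((sc G).natDegree + (sc Q).natDegree)) (congrArg sc h)
  have hc : sc (C l) = Polynomial.C (C l) := by
    simp [sc, IsScalarTower.algebraMap_apply K (R K n) (Polynomial (R K n))]
  simp only [map_mul, hsc, hc, mul_assoc, Polynomial.coeff_C_mul] at h'
  have hcomp : ∀ P : Polynomial (R K n),
      (P.comp (Polynomial.C (C a) * Polynomial.X)).natDegree ≤ P.natDegree ∧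
        (P.comp (Polynomial.C (C a) * Polynomial.X)).coeff P.natDegree = C a ^ P.natDegree * P.leadingCoeff :=
    fun P => ⟨Polynomial.natDegree_comp_le.trans
        ((Nat.mul_le_mul_left _ ((Polynomial.natDegree_C_mul_le _ _).trans Polynomial.natDegree_X_le)).trans (by simp)),
      by rw [Polynomial.comp_C_mul_X_coeff, Polynomial.coeff_natDegree, mul_comm]⟩
  rw [Polynomial.coeff_mul_add_eq_of_natDegree_le (hcomp _).1 le_rfl, (hcomp _).2,
    Polynomial.coeff_mul_add_eq_of_natDegree_le le_rfl (hcomp _).1, (hcomp _).2, Polynomial.coeff_natDegree,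
    Polynomial.coeff_natDegree] at h'
  have h2 : (C a ^ (sc G).natDegree : R K n) = C l * C a ^ (sc Q).natDegree := by
    refine mul_right_cancel₀ (mul_ne_zero hG' hQ') ?_
    linear_combination h'
  rw [← map_pow, ← map_pow, ← map_mul] at h2
  exact C_injective _ _ h2

end Eigen

/-- Least common multiples of finite families in a factorial ring. -/
theorem exists_lcm {S : Type u} [CommRing S] [IsDomain S] [UniqueFactorizationMonoid S] {ι : Type*} [Fintype ι]
    (p : ι → S) (hp : ∀ i, p i ≠ 0) : ∃ G : S, G ≠ 0 ∧ ∀ z, G ∣ z ↔ ∀ i, p i ∣ z := by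
  classical
  letI : GCDMonoid S := UniqueFactorizationMonoid.toGCDMonoid S
  suffices h : ∀ s : Finset ι, ∃ G : S, G ≠ 0 ∧ ∀ z, G ∣ z ↔ ∀ i ∈ s, p i ∣ z by
    obtain ⟨G, hG, h⟩ := h Finset.univ
    exact ⟨G, hG, fun z => (h z).trans (by simp)⟩
  intro s
  induction s using Finset.induction with
  | empty => exact ⟨1, one_ne_zero, by simp⟩
  | insert a s ha ih =>
    obtain ⟨G, hG, h⟩ := ih
    exact ⟨lcm (p a) G, fun h0 => ((lcm_eq_zero_iff _ _).1 h0).elim (hp a) hG,
      fun z => (lcm_dvd_iff).trans (by simp [h])⟩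

variable [FiniteDimensional k K] (u : (K ≃ₐ[k] K) → GL (Fin n) K)
  {a c : (K ≃ₐ[k] K) → (K ≃ₐ[k] K) → K}
  (hu : ∀ σ τ, (u σ : Matrix (Fin n) (Fin n) K) * (u τ : Matrix (Fin n) (Fin n) K).map σ =
    a σ τ • (u (σ * τ) : Matrix (Fin n) (Fin n) K))

theorem a_ne_zero (hn : 0 < n) (σ τ : K ≃ₐ[k] K)
    (hu : ∀ σ τ, (u σ : Matrix (Fin n) (Fin n) K) * (u τ : Matrix (Fin n) (Fin n) K).map σ =
      a σ τ • (u (σ * τ) : Matrix (Fin n) (Fin n) K)) : a σ τ ≠ 0 := by
  intro h0
  haveI : Nonempty (Fin n) := ⟨⟨0, hn⟩⟩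
  have h := congrArg Matrix.det (hu σ τ)
  rw [Matrix.det_mul, h0, zero_smul, Matrix.det_zero] at h
  rcases mul_eq_zero.1 h with h1 | h1
  · exact (Matrix.GeneralLinearGroup.det (u σ)).ne_zero h1
  · rw [show (u τ : Matrix (Fin n) (Fin n) K).map σ = (σ : K →+* K).mapMatrix (u τ : Matrix (Fin n) (Fin n) K) from rfl,
      ← RingHom.map_det] at h1
    exact (Matrix.GeneralLinearGroup.det (u τ)).ne_zero ((map_eq_zero_iff _ σ.injective).1 h1)

include hu

/-- A cocycle with values in the fraction field, up to constants, is a power of the class. -/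
theorem exists_pow_coboundary (hn : 0 < n) (b : (K ≃ₐ[k] K) → L K n) (hb : ∀ σ, b σ ≠ 0)
    (hc : ∀ σ τ, cK (c σ τ) * b σ * twistL (u σ) σ (b τ) = b (σ * τ)) :
    ∃ (e : ℕ) (f : (K ≃ₐ[k] K) → Kˣ), ∀ σ τ, (f σ : K) * σ (f τ : K) = c σ τ * a σ τ ^ e * f (σ * τ) := by
  classical
  let ι := algebraMap (R K n) (L K n)
  have hι : Function.Injective ι := IsFractionRing.injective (R K n) (L K n)
  have hcK : Function.Injective (cK : K →+* L K n) := (cK : K →+* L K n).injective
  obtain ⟨⟨Q, hQ⟩, hint⟩ := IsLocalization.exist_integer_multiples_of_finite (nonZeroDivisors (R K n)) b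
  choose p hp using hint
  have hQ0 : Q ≠ 0 := nonZeroDivisors.ne_zero hQ
  have hιQ : ι Q ≠ 0 := (map_ne_zero_iff ι hι).2 hQ0
  have hpb : ∀ σ, ι (p σ) = ι Q * b σ := fun σ => (hp σ).trans (Algebra.smul_def _ _)
  have hp0 : ∀ σ, p σ ≠ 0 := fun σ h0 => by
    have h := hpb σ
    rw [h0, map_zero] at h
    exact mul_ne_zero hιQ (hb σ) h.symm
  obtain ⟨G, hG0, hG⟩ := exists_lcm p hp0
  have hc0 : ∀ σ τ, c σ τ ≠ 0 := fun σ τ h0 => hb (σ * τ) (by rw [← hc σ τ, h0, map_zero, zero_mul, zero_mul])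
  have hrel : ∀ σ τ, C (c σ τ) * (twistR (u σ) σ (p τ) * p σ) = p (σ * τ) * twistR (u σ) σ Q := fun σ τ => by
    refine hι ?_
    simp only [map_mul, ← twistL_algebraMap, hpb, ι, ← hc σ τ, RingHom.comp_apply]
    ring
  have hassoc : ∀ σ, ∃ l : Kˣ, twistR (u σ) σ G * p σ = C (l : K) * (G * twistR (u σ) σ Q) := by
    intro σ
    let t := twistR (u σ) σ
    have hC : ∀ τ, IsUnit (C (c σ τ) : R K n) := fun τ => (IsUnit.mk0 _ (hc0 σ τ)).map C
    have h1 : ∀ z, t G * p σ ∣ z ↔ ∀ τ, t (p τ) * p σ ∣ z := fun z => by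
      refine ⟨fun h τ => (mul_dvd_mul_right (map_dvd t ((hG G).1 dvd_rfl τ)) _).trans h, fun h => ?_⟩
      obtain ⟨z', rfl⟩ := (dvd_mul_left (p σ) (t (p σ))).trans (h σ)
      rw [mul_comm (p σ) z', mul_dvd_mul_iff_right (hp0 σ), ← map_dvd_iff t.symm, RingEquiv.symm_apply_apply, hG]
      intro τ
      rw [← map_dvd_iff t, RingEquiv.apply_symm_apply]
      have := h τ
      rwa [mul_comm (p σ) z', mul_dvd_mul_iff_right (hp0 σ)] at this
    have hQt : t Q ≠ 0 := (map_ne_zero_iff t t.injective).2 hQ0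
    have h2 : ∀ z, G * t Q ∣ z ↔ ∀ τ, t (p τ) * p σ ∣ z := fun z => by
      have e : (∀ τ, t (p τ) * p σ ∣ z) ↔ ∀ τ, p τ * t Q ∣ z := by
        refine ⟨fun h τ => ?_, fun h τ => ?_⟩
        · have h' := h (σ⁻¹ * τ)
          rwa [← (hC (σ⁻¹ * τ)).mul_left_dvd, hrel, mul_inv_cancel_left] at h'
        · rw [← (hC τ).mul_left_dvd, hrel]
          exact h _
      rw [e]
      refine ⟨fun h τ => (mul_dvd_mul_right ((hG G).1 dvd_rfl τ) _).trans h, fun h => ?_⟩
      obtain ⟨z', rfl⟩ := (dvd_mul_left (t Q) (p 1)).trans (h 1)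
      rw [mul_comm (t Q) z', mul_dvd_mul_iff_right hQt, hG]
      intro τ
      have := h τ
      rwa [mul_comm (t Q) z', mul_dvd_mul_iff_right hQt] at this
    obtain ⟨w, hw⟩ : Associated (G * t Q) (t G * p σ) :=
      associated_of_dvd_dvd ((h2 _).2 ((h1 _).1 dvd_rfl)) ((h1 _).2 ((h2 _).1 dvd_rfl))
    obtain ⟨h0, hdeg⟩ := MvPolynomial.isUnit_iff_totalDegree_of_isReduced.1 w.isUnit
    exact ⟨h0.unit, by rw [← hw, IsUnit.unit_spec, ← MvPolynomial.totalDegree_eq_zero_iff_eq_C.1 hdeg, mul_comm]⟩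
  choose l hl using hassoc
  have hιt : ∀ σ P, twistL (u σ) σ (ι P) = ι (twistR (u σ) σ P) := fun σ P => twistL_algebraMap _ _ _
  let g : L K n := ι G / ι Q
  have hg : g ≠ 0 := div_ne_zero ((map_ne_zero_iff ι hι).2 hG0) hιQ
  have hgσ : ∀ σ, twistL (u σ) σ g * b σ = cK (l σ : K) * g := fun σ => by
    have h := congrArg ι (hl σ)
    simp only [map_mul, hpb] at h
    have hQσ : ι (twistR (u σ) σ Q) ≠ 0 :=
      (map_ne_zero_iff ι hι).2 ((map_ne_zero_iff _ (twistR (u σ) σ).injective).2 hQ0)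
    simp only [g, map_div₀, hιt, RingHom.comp_apply]
    change _ = ι (C (l σ : K)) * _
    field_simp
    linear_combination h
  obtain ⟨e₁, e₂, he⟩ := exists_eigen hG0 hQ0
  have ha : ∀ σ τ, a σ τ ≠ 0 := fun σ τ => a_ne_zero u hn σ τ hu
  have key : ∀ σ τ, a σ τ ^ e₁ * (l (σ * τ) : K) = σ (l τ : K) * (l σ : K) * c σ τ * a σ τ ^ e₂ := by
    intro σ τ
    let a' := (σ * τ).symm (a σ τ)
    have hT : ∀ P : R K n, twistR (u σ) σ (twistR (u τ) τ P) =
        twistR (u (σ * τ)) (σ * τ) (bind₁ (fun i => C a' * X i) P) := fun P => by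
      have h : (twist₀ (u σ : Matrix (Fin n) (Fin n) K) σ).comp (twist₀ (u τ : Matrix (Fin n) (Fin n) K) τ) =
          (twist₀ (u (σ * τ) : Matrix (Fin n) (Fin n) K) (σ * τ)).comp
            (bind₁ (fun i => C a' * X i : Fin n → R K n)).toRingHom := by
        rw [twist₀_comp, hu]
        refine MvPolynomial.ringHom_ext (fun r => by simp [twist₀]) fun i => ?_
        simp [twist₀, a', Finset.mul_sum, mul_assoc, map_mul]
      exact congr($h P)
    let T := twistL (u (σ * τ)) (σ * τ)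
    have h1 : twistL (u σ) σ (twistL (u τ) τ g) * b (σ * τ) = cK (σ (l τ : K) * (l σ : K) * c σ τ) * g := by
      have h := congrArg (twistL (u σ) σ) (hgσ τ)
      simp only [map_mul, twistL_const] at h
      have h' := hgσ σ
      rw [← hc σ τ]
      simp only [map_mul]
      linear_combination (cK (c σ τ) * b σ) * h + (cK (σ (l τ : K)) * cK (c σ τ)) * h'
    have h2 := hgσ (σ * τ)
    let μ := σ (l τ : K) * (l σ : K) * c σ τ / (l (σ * τ) : K)
    have h3 : twistL (u σ) σ (twistL (u τ) τ g) = cK μ * T g := by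
      refine mul_right_cancel₀ (hb (σ * τ)) ?_
      show _ = cK μ * twistL (u (σ * τ)) (σ * τ) g * b (σ * τ)
      rw [h1, mul_assoc (cK μ), h2, ← mul_assoc (cK μ), ← map_mul, div_mul_cancel₀ _ (l (σ * τ)).ne_zero]
    have h4 : bind₁ (fun i => C a' * X i) G * Q = C ((σ * τ).symm μ) * G * bind₁ (fun i => C a' * X i) Q := by
      refine (twistR (u (σ * τ)) (σ * τ)).injective (hι ?_)
      have hC' : twistR (u (σ * τ)) (σ * τ) (C ((σ * τ).symm μ)) = C μ := by simp [twistR, twist₀]
      simp only [map_mul, ← hT, hC']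
      have hx : ∀ P : R K n, P ≠ 0 → ι (twistR (u σ) σ (twistR (u τ) τ P)) ≠ 0 := fun P hP =>
        (map_ne_zero_iff ι hι).2 ((map_ne_zero_iff _ (twistR (u σ) σ).injective).2
          ((map_ne_zero_iff _ (twistR (u τ) τ).injective).2 hP))
      have hy : ι (twistR (u (σ * τ)) (σ * τ) Q) ≠ 0 :=
        (map_ne_zero_iff ι hι).2 ((map_ne_zero_iff _ (twistR (u (σ * τ)) (σ * τ)).injective).2 hQ0)
      simp only [g, T, map_div₀, hιt, RingHom.comp_apply] at h3
      change _ = ι (C μ) * _ at h3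
      have hx' := hx Q hQ0
      field_simp at h3
      linear_combination h3
    have h5 := congrArg (σ * τ) (he a' _ h4)
    simp only [map_pow, map_mul, a', AlgEquiv.apply_symm_apply] at h5
    rw [h5]
    simp only [μ]
    field_simp
  have hdet : ∀ σ τ, (Matrix.GeneralLinearGroup.det (u σ) : K) * σ (Matrix.GeneralLinearGroup.det (u τ) : K) =
      a σ τ ^ n * (Matrix.GeneralLinearGroup.det (u (σ * τ)) : K) := fun σ τ => by
    have h := congrArg Matrix.det (hu σ τ)
    rw [Matrix.det_mul, Matrix.det_smul, Fintype.card_fin] at h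
    refine Eq.trans ?_ h
    simp only [Matrix.GeneralLinearGroup.val_det_apply]
    congr 1
    exact RingHom.map_det (σ : K →+* K) _
  refine ⟨e₂ + (n - 1) * e₁, fun σ => (Matrix.GeneralLinearGroup.det (u σ)) ^ e₁ * (l σ)⁻¹, fun σ τ => ?_⟩
  have k1 := key σ τ
  have k2 : ((Matrix.GeneralLinearGroup.det (u σ) : K) * σ (Matrix.GeneralLinearGroup.det (u τ) : K)) ^ e₁ =
      (a σ τ ^ ((n - 1) * e₁) * a σ τ ^ e₁) * (Matrix.GeneralLinearGroup.det (u (σ * τ)) : K) ^ e₁ := by
    rw [hdet, mul_pow, ← pow_mul, ← pow_add, show n * e₁ = (n - 1) * e₁ + e₁ by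
      obtain ⟨m, rfl⟩ : ∃ m, n = m + 1 := ⟨n - 1, by omega⟩
      rw [Nat.add_sub_cancel]; ring]
  simp only [Units.val_mul, Units.val_pow_eq_pow_val, map_mul, map_pow, Units.val_inv_eq_inv_val, map_inv₀, pow_add]
  rw [mul_pow] at k2
  have := (l σ).ne_zero
  have : σ (l τ : K) ≠ 0 := by simpa using (l τ).ne_zero
  have := (l (σ * τ)).ne_zero
  field_simp
  linear_combination ((l (σ * τ) : K)) * k2 +
    (a σ τ ^ ((n - 1) * e₁) * (Matrix.GeneralLinearGroup.det (u (σ * τ)) : K) ^ e₁) * k1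

end Groth.Agent.ASB24.Amitsur

end
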