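import Groth.Agent.ASB24.SBCor
import Groth.Agent.ASB24.SevBrauer
import Groth.Agent.EtFound.Descent
import Groth.Agent.S14209
import Groth.Agent.S7797
import Groth.Agent.H28.KvbModel

/-!
# Splittings and decompositions on Severi–Brauer varieties
-/

set_option linter.style.haveILetI false
set_option backward.isDefEq.respectTransparency false
set_option backward.isDefEq.respectTransparency.types false

universe u

open CategoryTheory CategoryTheory.Limits AlgebraicGeometry TensorProduct

namespace Groth.Agent.ASB24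

open Groth.Agent W4c1astiltbs12

attribute [local instance] Abelian.hasFiniteBiproducts

variable {k : Type u} [Field k] {X : Scheme.{u}} {p : X ⟶ Spec (CommRingCat.of k)}
  {K : Type u} [Field K] [Algebra k K] {n : ℕ}

/-- A scheme with a splitting is proper. -/
theorem isProper_of_splitting (e : BrSev.Splitting p K n) : IsProper p := by
  haveI : IsProper (CohB1.ProjSpace.toSpec n K) := PnCoh.Chow.isProper_toSpec n _
  haveI := EtFound.fpqc_isProper
  refine MorphismProperty.of_pullback_snd_of_descendsAlong (P := @IsProper)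
    (Q := (@Surjective ⊓ @Flat ⊓ @QuasiCompact : MorphismProperty Scheme.{u}))
    (f := p) (g := Spec.map (CommRingCat.ofHom (algebraMap k K))) ⟨⟨⟨fun _ => ⟨(⟨⊥, Ideal.isPrime_bot⟩ : PrimeSpectrum K),
      Subsingleton.elim (α := PrimeSpectrum k) _ _⟩⟩, ?_⟩, inferInstance⟩ ?_
  · exact (HasRingHomProperty.Spec_iff (P := @Flat)).2 (RingHom.flat_algebraMap_iff.2 inferInstance)
  · show IsProper (BrSev.bcTo p K)
    rw [← e.comm]
    infer_instance

/-- Isotypical modules stay isotypical in a larger field. -/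
theorem isTwPow_trans {k' : Type u} [Field k'] [Algebra k k'] (e' : BrSev.Splitting p k' n)
    (e : BrSev.Splitting p K n) (σ : k' →ₐ[k] K) {j : ℤ} {r : ℕ} {W : X.Modules}
    (h : BrSev.IsTwPow e' j r W) : BrSev.IsTwPow e j r W := by
  obtain ⟨a⟩ := h
  obtain ⟨t⟩ := pullback_splitting_twist e' e σ j
  let q := qe p K σ
  haveI := (Scheme.Modules.pullbackPushforwardAdjunction q).isLeftAdjoint
  exact ⟨(Scheme.Modules.pullbackCongr (qe_proj p K σ).symm).app W ≪≫
    ((Scheme.Modules.pullbackComp q (proj p k')).app W).symm ≪≫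
    (Scheme.Modules.pullback q).mapIso a ≪≫
    PreservesCoproduct.iso (Scheme.Modules.pullback q) (fun _ : Fin r => e'.twist j) ≪≫
    Sigma.mapIso fun _ => t⟩

/-- A coproduct along an equivalence with a sum of index types. -/
theorem sigma_partition {C : Type*} [Category C] [Abelian C] [HasFiniteCoproducts C] {t s u : ℕ}
    (M : Fin t → C) (e : Fin s ⊕ Fin u ≃ Fin t) :
    Nonempty (∐ M ≅ (∐ fun i => M (e (Sum.inl i))) ⊞ (∐ fun i => M (e (Sum.inr i)))) := by
  let w : (∐ M) ≅ ∐ fun x => M (e x) := (Sigma.whiskerEquiv e fun _ => Iso.refl _).symm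
  refine ⟨w ≪≫
    { hom := Sigma.desc fun x => match x with
        | .inl i => Sigma.ι (fun i => M (e (Sum.inl i))) i ≫ biprod.inl
        | .inr i => Sigma.ι (fun i => M (e (Sum.inr i))) i ≫ biprod.inr
      inv := biprod.desc (Sigma.desc fun i => Sigma.ι (fun x => M (e x)) (Sum.inl i))
        (Sigma.desc fun i => Sigma.ι (fun x => M (e x)) (Sum.inr i))
      hom_inv_id := Sigma.hom_ext _ _ fun x => by rcases x with i | i <;> simp
      inv_hom_id := biprod.hom_ext' _ _ (Sigma.hom_ext _ _ fun i => by simp) (Sigma.hom_ext _ _ fun i => by simp) }⟩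

/-- Bundles on a split conic split. -/
theorem exists_split_conic (e : BrSev.Splitting p K 1) {E : X.Modules} (hE : FlatMod.IsFinLocFree E) :
    ∃ (s : ℕ) (Ls : Fin s → (BrSev.bc p K).Modules), (∀ i, PicF.IsInvertible (Ls i)) ∧
      Nonempty (BrSev.bcMod p K E ≅ ∐ Ls) := by
  let M := (Scheme.Modules.pullback e.iso.inv).obj (BrSev.bcMod p K E)
  have hM : FlatMod.IsFinLocFree M :=
    SeesawX.isFinLocFree_pullback e.iso.inv (SeesawX.isFinLocFree_pullback (BrSev.proj p K) hE)
  haveI := H23.PnChart.isIntegral_projSpace 1 K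
  obtain ⟨r, hr⟩ := H28.KvbModel.exists_rank (X := CohB1.ProjSpace 1 K) hM
  obtain ⟨d, ⟨-, ⟨φ⟩⟩, -⟩ := S7797.result K r M hr
  haveI := (Scheme.Modules.pullbackPushforwardAdjunction e.iso.hom).isLeftAdjoint
  exact ⟨r, fun i => e.twist (d i), fun i => isInvertible_twist e _,
    ⟨((Scheme.Modules.pullbackId _).app _).symm ≪≫ (Scheme.Modules.pullbackCongr e.iso.hom_inv_id.symm).app _ ≪≫
      ((Scheme.Modules.pullbackComp e.iso.hom e.iso.inv).app _).symm ≪≫
      (Scheme.Modules.pullback e.iso.hom).mapIso φ ≪≫ PreservesCoproduct.iso (Scheme.Modules.pullback e.iso.hom) _⟩⟩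

end Groth.Agent.ASB24
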