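import Groth.Agent.ASB24.AmitsurAlg
import Groth.Agent.SBAut.ProjIso
import Groth.Agent.H23.PnChart
import Groth.Agent.CSALib.Index
import Groth.Prelude.Def_CurvBase
import Mathlib.AlgebraicGeometry.FunctionField
import Mathlib.RingTheory.Spectrum.Prime.Topology

/-!
# The generic point of a Severi–Brauer variety in the twisted coordinates
-/

set_option linter.style.haveILetI false
set_option backward.isDefEq.respectTransparency false
set_option backward.isDefEq.respectTransparency.types false

universe u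

open CategoryTheory CategoryTheory.Limits AlgebraicGeometry MvPolynomial Matrix
open scoped TensorProduct

noncomputable section

namespace Groth.Agent.ASB24.Amitsur

open Groth.Agent Groth.Agent.SBAut

variable {k K : Type u} [Field k] [Field K] [Algebra k K]

theorem cK_eq {n : ℕ} : (cK : K →+* L K n) = algebraMap K (L K n) :=
  (IsScalarTower.algebraMap_eq K (R K n) (L K n)).symm

/-- The twisted action as algebra automorphisms over the base. -/
def act {n : ℕ} (u : GL (Fin n) K) (σ : K ≃ₐ[k] K) : L K n →ₐ[k] L K n :=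
  { (twistL u σ).toRingHom with
    commutes' := fun r => by
      show twistL u σ (algebraMap k (L K n) r) = algebraMap k (L K n) r
      rw [IsScalarTower.algebraMap_apply k K (L K n), ← cK_eq, twistL_const, AlgEquiv.commutes] }

theorem act_apply {n : ℕ} (u : GL (Fin n) K) (σ : K ≃ₐ[k] K) (z : L K n) : act u σ z = twistL u σ z := rfl

theorem act_X {n : ℕ} (u : GL (Fin n) K) (σ : K ≃ₐ[k] K) (i : Fin n) :
    act u σ (algebraMap (R K n) (L K n) (X i)) =
      ∑ j, algebraMap K (L K n) ((u : Matrix (Fin n) (Fin n) K) j i) * algebraMap (R K n) (L K n) (X j) := by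
  rw [act_apply, twistL_algebraMap]
  simp [twistR, twist₀, ← cK_eq]

variable {A : Type u} [Ring A] [Algebra k A]

section Ideal

variable {n : ℕ} (Φ : K ⊗[k] A ≃ₐ[K] Matrix (Fin n) (Fin n) K)
  (hA : Module.finrank k A = n * n) (hn : 0 < n)

/-- The generic vector. -/
def vX (K : Type u) [Field K] (n : ℕ) (i : Fin n) : L K n := algebraMap (R K n) (L K n) (X i)

theorem vX_ne_zero (i : Fin n) : vX K n i ≠ 0 :=
  (map_ne_zero_iff _ (IsFractionRing.injective (R K n) (L K n))).2 (X_ne_zero i)

include hn in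
theorem isUni_vX : IsUni (vX K n) := isUni_of_ne_zero (i := ⟨0, hn⟩) (vX_ne_zero _)

/-- The generic left ideal is invariant under the twisted action. -/
theorem sbMap_act {u : GL (Fin n) K} {σ : K ≃ₐ[k] K}
    (hu : ∀ a, Φ (1 ⊗ₜ[k] a) * (u : Matrix (Fin n) (Fin n) K) = (u : Matrix (Fin n) (Fin n) K) * (Φ (1 ⊗ₜ[k] a)).map σ) :
    sbMap (act u σ) (pPt Φ hA hn (vX K n) (isUni_vX hn)) = pPt Φ hA hn (vX K n) (isUni_vX hn) := by
  haveI : Module.Finite k A := Module.finite_of_finrank_pos (by rw [hA]; positivity)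
  let U : Matrix (Fin n) (Fin n) (L K n) := (u : Matrix (Fin n) (Fin n) K).map (algebraMap K (L K n))
  have hσ : ∀ r : K, act u σ (algebraMap K (L K n) r) = algebraMap K (L K n) (σ r) := fun r => by
    rw [← cK_eq, act_apply, twistL_const]
  have key : ∀ x : L K n ⊗[k] A,
      splitHom Φ (L K n) (bc (act u σ) x) * U = U * (splitHom Φ (L K n) x).map (act u σ) := by
    intro x
    induction x using TensorProduct.induction_on with
    | zero => simp [Matrix.map_zero]
    | tmul r a =>
      rw [bc_tmul, splitHom_tmul, splitHom_tmul, Matrix.smul_mul,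
        ← Matrix.map_mul, hu a, Matrix.map_mul, ← Matrix.mul_smul]
      congr 1
      refine Matrix.ext fun i j => ?_
      simp [hσ]
    | add x y hx hy => rw [map_add, map_add, add_mul, hx, hy, map_add, Matrix.map_add _ (map_add _), mul_add]
  refine SBAut.eq_of_le ?_
  show (Module.Grassmannian.map (act u σ) (pPt Φ hA hn (vX K n) (isUni_vX hn)).1).toSubmodule ≤ _
  rw [map_toSubmodule_span, Submodule.span_le]
  rintro _ ⟨x, hx, rfl⟩
  rw [SetLike.mem_coe, mem_pPt]
  obtain ⟨w, hw⟩ := isUni_vX (K := K) hn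
  have hM := eq_vecMulVec hw ((mem_pPt Φ hA hn _ x).1 hx)
  set r := fun a => ∑ i, w i * splitHom Φ (L K n) x a i
  have h1 : (splitHom Φ (L K n) x).map (act u σ) =
      vecMulVec (fun a => act u σ (r a)) (fun i => ∑ j, U j i * vX K n j) := by
    refine Matrix.ext fun a i => ?_
    rw [Matrix.map_apply, congrFun (congrFun hM a) i, vecMulVec_apply, vecMulVec_apply, map_mul]
    show _ * act u σ (algebraMap (R K n) (L K n) (X i)) = _
    rw [act_X]
    rfl
  have h2 : splitHom Φ (L K n) (bc (act u σ) x) = vecMulVec (U *ᵥ fun a => act u σ (r a)) (vX K n) := by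
    have hU : IsUnit U := (u.isUnit).map (algebraMap K (L K n)).mapMatrix
    refine hU.mul_left_injective ?_
    show _ * U = _ * U
    rw [key, h1, Matrix.mul_vecMulVec, Matrix.vecMulVec_mul]
    congr 1
    funext i
    simp [vecMul, dotProduct, mul_comm]
  intro a
  exact rel_of_smul_eq (c := (U *ᵥ fun a => act u σ (r a)) a) (by rw [h2]; rfl)

end Ideal

section Point

variable {N : ℕ} (Φ : K ⊗[k] A ≃ₐ[K] Matrix (Fin (N + 1)) (Fin (N + 1)) K)
  (hA : Module.finrank k A = (N + 1) * (N + 1)) {X₀ : Scheme.{u}} [X₀.Over (Spec (CommRingCat.of k))] [IsIntegral X₀]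
  (s : BrSev.SBStr k A ((N + 1) * (N + 1) - (N + 1)) (X₀ ↘ Spec (CommRingCat.of k)))

/-- The affine coordinates of the generic point. -/
def vA (K : Type u) [Field K] (N : ℕ) (i : Fin (N + 1)) : L K (N + 1) := vX K (N + 1) i / vX K (N + 1) 0

theorem vA_zero : vA K N 0 = 1 := div_self (vX_ne_zero _)

set_option backward.isDefEq.respectTransparency true in
set_option backward.isDefEq.respectTransparency.types true in
set_option maxHeartbeats 400000 in
theorem injective_chartHom :
    Function.Injective (ProjPt.coordHom (CohB1.polyGrading N K) (ProjIso.ev (K := K) (vA K N))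
      (ProjIso.ev_X (i := 0) (vA_zero (K := K) ▸ isUnit_one))) := by
  let AW := HomogeneousLocalization.Away (CohB1.polyGrading N K) (X (0 : Fin (N + 1)) : MvPolynomial (Fin (N + 1)) K)
  let ι := algebraMap (R K (N + 1)) (L K (N + 1))
  let w₀ : Localization.Away (X (0 : Fin (N + 1)) : MvPolynomial (Fin (N + 1)) K) →+* L K (N + 1) :=
    IsLocalization.Away.lift (X (0 : Fin (N + 1))) (g := ι) (IsUnit.mk0 _ (vX_ne_zero 0))
  have hw₀ : Function.Injective w₀ :=
    IsLocalization.lift_injective_iff _ |>.2 fun a b => ⟨fun h => by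
      have := IsLocalization.injective (M := Submonoid.powers (X (0 : Fin (N + 1)) : MvPolynomial (Fin (N + 1)) K))
        (Localization.Away (X (0 : Fin (N + 1)) : MvPolynomial (Fin (N + 1)) K))
        (powers_le_nonZeroDivisors_of_noZeroDivisors (X_ne_zero _)) h
      exact congrArg ι this, fun h => congrArg _ (IsFractionRing.injective (R K (N + 1)) (L K (N + 1)) h)⟩
  let w : AW →+* L K (N + 1) := w₀.comp (algebraMap AW (Localization.Away (X (0 : Fin (N + 1)))))
  have hw : Function.Injective w := hw₀.comp (HomogeneousLocalization.val_injective _)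
  have hk : ∀ j, w (ProjPt.crd (R := K) (n := N) 0 j) = vA K N j := fun j => by
    show w₀ (ProjPt.crd (R := K) (n := N) 0 j).val = _
    rw [ProjPt.crd, HomogeneousLocalization.Away.val_mk, Localization.mk_eq_mk', vA, eq_div_iff (vX_ne_zero _)]
    show _ * ι (X 0) = ι (X j)
    rw [← IsLocalization.Away.lift_eq (S := Localization.Away (X (0 : Fin (N + 1)) : MvPolynomial (Fin (N + 1)) K))
      (X (0 : Fin (N + 1))) (IsUnit.mk0 (ι (X 0)) (vX_ne_zero 0)) (X 0), ← IsLocalization.Away.lift_eq
      (S := Localization.Away (X (0 : Fin (N + 1)) : MvPolynomial (Fin (N + 1)) K))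
      (X (0 : Fin (N + 1))) (IsUnit.mk0 (ι (X 0)) (vX_ne_zero 0)) (X j), ← map_mul]
    congr 1
    exact (congrArg _ (congrArg _ (pow_one _).symm)).trans (IsLocalization.mk'_spec _ _ _)
  have hc : w.comp (ProjPt.cst (R := K) (n := N) 0) = algebraMap K (L K (N + 1)) := by
    refine RingHom.ext fun r => ?_
    show w₀ (ProjPt.cst (R := K) (n := N) 0 r).val = _
    rw [show (ProjPt.cst (R := K) (n := N) 0 r).val = Localization.mk (C r) 1 from rfl,
      Localization.mk_one_eq_algebraMap, IsLocalization.Away.lift_eq, ← cK_eq]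
    rfl
  have hev : eval₂Hom (w.comp (ProjPt.cst (R := K) (n := N) 0)) (fun j => w (ProjPt.crd (R := K) (n := N) 0 j)) =
      ProjIso.ev (K := K) (vA K N) := by rw [hc, funext hk]
  have h := ProjPt.eq_coordHom (R := K) (n := N) 0 w (by rw [hev]; exact ProjIso.ev_X (vA_zero (K := K) ▸ isUnit_one))
  simp only [hev] at h
  exact h ▸ hw

/-- The morphism from the fraction field to the scheme. -/
def gpt : Spec (CommRingCat.of (L K (N + 1))) ⟶ X₀ :=
  ((s.bij (L K (N + 1))).symm (pPt Φ hA N.succ_pos (vX K (N + 1)) (isUni_vX N.succ_pos))).1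

theorem gpt_w : gpt Φ hA s ≫ (X₀ ↘ Spec (CommRingCat.of k)) =
    Spec.map (CommRingCat.ofHom (algebraMap k (L K (N + 1)))) :=
  ((s.bij (L K (N + 1))).symm (pPt Φ hA N.succ_pos (vX K (N + 1)) (isUni_vX N.succ_pos))).2

theorem gpt_generic : gpt Φ hA s (IsLocalRing.closedPoint (L K (N + 1))) = genericPoint X₀ := by
  haveI := ProjIso.isIso_toProj (Φ := Φ) (hA := hA) (s := s)
  let f := X₀ ↘ Spec (CommRingCat.of k)
  let a : Spec (CommRingCat.of (L K (N + 1))) ⟶ BrSev.bc f K :=
    pullback.lift (gpt Φ hA s) (Spec.map (CommRingCat.ofHom (algebraMap K (L K (N + 1)))))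
      (by rw [gpt_w, ← Spec.map_comp, ← CommRingCat.ofHom_comp, ← IsScalarTower.algebraMap_eq])
  have hvA : IsUni (vA K N) := isUni_of_isUnit (i := 0) (vA_zero (K := K) ▸ isUnit_one)
  have hrel : Rel (vX K (N + 1)) (vA K N) := fun i j => by simp [vA]; ring
  have ha : ProjIso.IsVec Φ hA s a (vA K N) := ⟨pullback.lift_snd _ _ _, hvA, by
    rw [show ProjIso.toPt a (pullback.lift_snd _ _ _) =
      (s.bij (L K (N + 1))).symm (pPt Φ hA N.succ_pos (vX K (N + 1)) (isUni_vX N.succ_pos)) from
        Subtype.ext (pullback.lift_fst _ _ _), Equiv.apply_symm_apply,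
      (pPt_eq_iff Φ hA N.succ_pos _ hvA).2 hrel]⟩
  haveI := H23.PnChart.isIntegral_projSpace N K
  haveI : IsIntegral (Proj (CohB1.polyGrading N K)) := H23.PnChart.isIntegral_projSpace N K
  haveI : Nonempty ↥(BrSev.bc f K) := ⟨a (IsLocalRing.closedPoint (L K (N + 1)))⟩
  haveI : IsIntegral (BrSev.bc f K) := isIntegral_of_isOpenImmersion (ProjIso.toProj Φ hA s)
  have h1 : ProjIso.toProj Φ hA s (a (IsLocalRing.closedPoint (L K (N + 1)))) = genericPoint (CohB1.ProjSpace N K) := by
    rw [← Scheme.Hom.comp_apply, ProjIso.comp_toProj ha (i := 0) (vA_zero (K := K) ▸ isUnit_one), ProjIso.ppt,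
      Scheme.Hom.comp_apply]
    haveI : IsDomain (HomogeneousLocalization.Away (CohB1.polyGrading N K) (X (0 : Fin (N + 1)))) :=
      (injective_chartHom (K := K) (N := N)).isDomain _
    refine Eq.trans ?_ (genericPoint_eq_of_isOpenImmersion
      (Proj.awayι (CohB1.polyGrading N K) (X (0 : Fin (N + 1))) (ProjPt.X_mem 0) one_pos))
    congr 1
    rw [genericPoint_eq_bot_of_affine]
    refine PrimeSpectrum.ext ?_
    show Ideal.comap _ (IsLocalRing.maximalIdeal (L K (N + 1))) = ⊥
    rw [IsLocalRing.maximalIdeal_eq_bot]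
    exact (RingHom.injective_iff_ker_eq_bot _).1 injective_chartHom
  have h2 : a (IsLocalRing.closedPoint (L K (N + 1))) = genericPoint (BrSev.bc f K) :=
    (ProjIso.toProj Φ hA s).isOpenEmbedding.injective
      (h1.trans (genericPoint_eq_of_isOpenImmersion _).symm)
  have h3 : gpt Φ hA s = a ≫ BrSev.proj f K := (pullback.lift_fst _ _ _).symm
  rw [h3, Scheme.Hom.comp_apply, h2]
  haveI : Surjective (Spec.map (CommRingCat.ofHom (algebraMap k K))) :=
    ⟨fun _ => ⟨(⟨⊥, Ideal.isPrime_bot⟩ : PrimeSpectrum K), Subsingleton.elim (α := PrimeSpectrum k) _ _⟩⟩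
  haveI : Surjective (BrSev.proj f K) := MorphismProperty.pullback_fst _ _ ‹_›
  obtain ⟨y, hy⟩ := (BrSev.proj f K).surjective (genericPoint X₀)
  have h4 : BrSev.proj f K (genericPoint (BrSev.bc f K)) ⤳ genericPoint X₀ :=
    hy ▸ ((genericPoint_spec _).specializes trivial).map (BrSev.proj f K).continuous
  exact ((genericPoint_spec X₀).specializes trivial).antisymm h4 |>.eq.symm

attribute [local instance] Curv2.stalkAlgebra

include hA s in
/-- An algebra embedding of the function field invariant under all twisted actions. -/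
theorem exists_funField_hom :
    ∃ ι : X₀.functionField →ₐ[k] L K (N + 1), ∀ (u : GL (Fin (N + 1)) K) (σ : K ≃ₐ[k] K),
      (∀ a, Φ (1 ⊗ₜ[k] a) * (u : Matrix (Fin (N + 1)) (Fin (N + 1)) K) =
        (u : Matrix (Fin (N + 1)) (Fin (N + 1)) K) * (Φ (1 ⊗ₜ[k] a)).map σ) →
        (act u σ).comp ι = ι := by
  let η := genericPoint X₀
  let i₀ : X₀.presheaf.stalk η ⟶ CommRingCat.of (L K (N + 1)) :=
    (X₀.presheaf.stalkCongr (.of_eq (gpt_generic Φ hA s).symm)).hom ≫ Scheme.stalkClosedPointTo (gpt Φ hA s)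
  have hfac : Spec.map i₀ ≫ X₀.fromSpecStalk η = gpt Φ hA s := by
    have gen : ∀ (y z : X₀) (h : y = z) (i : X₀.presheaf.stalk y ⟶ CommRingCat.of (L K (N + 1))),
        Spec.map ((X₀.presheaf.stalkCongr (.of_eq h.symm)).hom ≫ i) ≫ X₀.fromSpecStalk z =
          Spec.map i ≫ X₀.fromSpecStalk y := by
      rintro y _ rfl i
      simp [TopCat.Presheaf.stalkCongr]
    exact (gen _ _ (gpt_generic Φ hA s) _).trans (Scheme.Spec_stalkClosedPointTo_fromSpecStalk _)
  have hk : i₀.hom.comp (Curv2.stalkMap k X₀ η) = algebraMap k (L K (N + 1)) := by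
    have hf : X₀.fromSpecStalk η ≫ (X₀ ↘ Spec (CommRingCat.of k)) =
        Spec.map (CommRingCat.ofHom (Curv2.stalkMap k X₀ η)) := by
      have h : (X₀ ↘ Spec (CommRingCat.of k)) = X₀.toSpecΓ ≫
          Spec.map ((Scheme.ΓSpecIso (CommRingCat.of k)).inv ≫ (X₀ ↘ Spec (CommRingCat.of k)).appTop) := by
        rw [Spec.map_comp, ← Scheme.toSpecΓ_naturality_assoc, toSpecΓ_SpecMap_ΓSpecIso_inv, Category.comp_id]
      conv_lhs => rw [h]
      rw [← Category.assoc, Scheme.fromSpecStalk_toSpecΓ, ← Spec.map_comp]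
      rfl
    have h := gpt_w Φ hA s
    rw [← hfac, Category.assoc, hf, ← Spec.map_comp] at h
    exact congrArg CommRingCat.Hom.hom (Spec.map_injective h)
  let ι : X₀.functionField →ₐ[k] L K (N + 1) := { i₀.hom with commutes' := fun r => congr($hk r) }
  refine ⟨ι, fun u σ hu => ?_⟩
  have hfix : BrSev.Pts.map (X₀ ↘ Spec (CommRingCat.of k)) (act u σ)
      ((s.bij (L K (N + 1))).symm (pPt Φ hA N.succ_pos (vX K (N + 1)) (isUni_vX N.succ_pos))) =
      (s.bij (L K (N + 1))).symm (pPt Φ hA N.succ_pos (vX K (N + 1)) (isUni_vX N.succ_pos)) := by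
    rw [← bij_symm_map, sbMap_act Φ hA N.succ_pos hu]
  have h : Spec.map (CommRingCat.ofHom (act u σ : L K (N + 1) →+* L K (N + 1))) ≫ gpt Φ hA s = gpt Φ hA s :=
    congrArg Subtype.val hfix
  rw [← hfac, ← Category.assoc, ← Spec.map_comp, cancel_mono] at h
  exact AlgHom.ext fun z => congr($(Spec.map_injective h) z)

end Point

end Groth.Agent.ASB24.Amitsur

end
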