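import Groth.Agent.ASB24.BcHom
import Mathlib.CategoryTheory.Abelian.Basic
import Mathlib.RingTheory.Norm.Defs
import Mathlib.RingTheory.IntegralClosure.IsIntegral.Basic
import Mathlib.RingTheory.Flat.Basic

/-!
# Descending morphisms along algebraic field extensions
-/

set_option linter.style.haveILetI false
set_option backward.isDefEq.respectTransparency false
set_option backward.isDefEq.respectTransparency.types false

universe u

open CategoryTheory CategoryTheory.Limits AlgebraicGeometry Opposite TopologicalSpace TensorProduct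

namespace Groth.Agent.ASB24

open Groth.Agent

attribute [local instance] Abelian.hasFiniteBiproducts

section Alg

variable {k K : Type u} [Field k] [CommRing K] [Algebra k K] {X X' : Scheme.{u}}
  [X.Over (Spec (CommRingCat.of k))] [X'.Over (Spec (CommRingCat.of K))] {q : X' ⟶ X}
  (hq : IsPullback q (X' ↘ Spec (CommRingCat.of K)) (X ↘ Spec (CommRingCat.of k))
    (Spec.map (CommRingCat.ofHom (algebraMap k K))))

include hq in
theorem pull_map_smul {F G : X.Modules} (a : k) (f : F ⟶ G) :
    (Scheme.Modules.pullback q).map (a • f) = algebraMap k K a • (Scheme.Modules.pullback q).map f := by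
  refine hom_ext_eta fun V x => ?_
  rw [smulK_app, eta_map, eta_map, KLin.smul_app_apply, eta_smul, QCoh.app_topRes]
  congr 1
  exact congrArg (X'.presheaf.map (homOfLE le_top).op) (QCoh.toGlobal_comm _ _ q hq.w a).symm

/-- The comparison of morphisms with morphisms of inverse images. -/
noncomputable def beta (F G : X.Modules) :
    K ⊗[k] (F ⟶ G) →+ ((Scheme.Modules.pullback q).obj F ⟶ (Scheme.Modules.pullback q).obj G) :=
  TensorProduct.liftAddHom
    { toFun := fun c =>
        { toFun := fun φ => c • (Scheme.Modules.pullback q).map φ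
          map_zero' := by rw [Functor.map_zero]; exact smul_zero c
          map_add' := fun φ ψ => by rw [Functor.map_add, smul_add] }
      map_zero' := AddMonoidHom.ext fun φ => zero_smul K ((Scheme.Modules.pullback q).map φ)
      map_add' := fun c c' => AddMonoidHom.ext fun φ => add_smul c c' ((Scheme.Modules.pullback q).map φ) }
    (fun a c φ => by
      show (a • c) • _ = c • (Scheme.Modules.pullback q).map (a • φ)
      rw [pull_map_smul hq, smul_smul, Algebra.smul_def, mul_comm])

theorem beta_tmul {F G : X.Modules} (c : K) (φ : F ⟶ G) :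
    beta hq F G (c ⊗ₜ φ) = c • (Scheme.Modules.pullback q).map φ := rfl

theorem beta_bijective [CompactSpace X] {F G : X.Modules} (hF : Coh.IsCoh F) (hG : Coh.IsQCoh G) :
    Function.Bijective (beta hq F G) := by
  classical
  let b := Module.Free.chooseBasis k K
  have h : (combHom (q := q) b (F := F) (G := G)) = fun y => beta hq F G ((TensorProduct.equivFinsuppOfBasisLeft b).symm y) := by
    funext y
    rw [TensorProduct.equivFinsuppOfBasisLeft_symm_apply, map_finsuppSum]
    rfl
  have hb : Function.Bijective (combHom (q := q) b (F := F) (G := G)) :=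
    ⟨combHom_injective hq b hG, combHom_surjective hq b hF hG⟩
  rw [h] at hb
  exact (Function.Bijective.of_comp_iff _ (TensorProduct.equivFinsuppOfBasisLeft b).symm.bijective).1 hb

end Alg

section Finite

variable {k : Type u} [Field k] {X : Scheme.{u}} [X.Over (Spec (CommRingCat.of k))]
  {L : Type u} [CommRing L] [Algebra k L] {d : ℕ} (l : Module.Basis (Fin d) k L)

/-- Replacing scalars by multiplication matrices. -/
noncomputable def theta (F G : X.Modules) :
    L ⊗[k] (F ⟶ G) →ₗ[k] ((⨁ fun _ : Fin d => F) ⟶ ⨁ fun _ : Fin d => G) :=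
  TensorProduct.lift (LinearMap.mk₂ k
    (fun c φ => biproduct.matrix fun i j => Algebra.leftMulMatrix l c i j • φ)
    (fun c c' φ => by
      refine biproduct.hom_ext' _ _ fun i => biproduct.hom_ext _ _ fun j => ?_
      simp [map_add, add_smul])
    (fun a c φ => by
      refine biproduct.hom_ext' _ _ fun i => biproduct.hom_ext _ _ fun j => ?_
      simp [map_smul, mul_smul])
    (fun c φ φ' => by
      refine biproduct.hom_ext' _ _ fun i => biproduct.hom_ext _ _ fun j => ?_
      simp [smul_add])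
    (fun a c φ => by
      refine biproduct.hom_ext' _ _ fun i => biproduct.hom_ext _ _ fun j => ?_
      simp only [Category.assoc, biproduct.matrix_π, biproduct.ι_desc, Linear.smul_comp, Linear.comp_smul]; exact smul_comm _ a _))

theorem theta_tmul {F G : X.Modules} (c : L) (φ : F ⟶ G) :
    theta l F G (c ⊗ₜ φ) = biproduct.matrix fun i j => Algebra.leftMulMatrix l c i j • φ := rfl

theorem theta_one (F : X.Modules) : theta l F F (1 ⊗ₜ 𝟙 F) = 𝟙 _ := by
  rw [theta_tmul]
  refine biproduct.hom_ext' _ _ fun i => biproduct.hom_ext _ _ fun j => ?_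
  simp only [Category.assoc, biproduct.matrix_π, biproduct.ι_matrix_assoc, biproduct.ι_desc, Category.comp_id,
    map_one, Matrix.one_apply]
  by_cases h : i = j
  · subst h; rw [if_pos rfl, one_smul, biproduct.ι_π_self]
  · rw [if_neg h, zero_smul, biproduct.ι_π_ne (fun _ : Fin d => F) h]

theorem theta_comp {F G H : X.Modules} (c c' : L) (φ : F ⟶ G) (ψ : G ⟶ H) :
    theta l F G (c ⊗ₜ φ) ≫ theta l G H (c' ⊗ₜ ψ) = theta l F H ((c * c') ⊗ₜ (φ ≫ ψ)) := by
  rw [theta_tmul, theta_tmul, theta_tmul, map_mul]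
  refine biproduct.hom_ext' _ _ fun i => biproduct.hom_ext _ _ fun j => ?_
  simp only [Category.assoc, biproduct.matrix_π, biproduct.ι_matrix_assoc, biproduct.lift_desc,
    Matrix.mul_apply, Finset.sum_smul, Linear.smul_comp, Linear.comp_smul, smul_smul]
  simp only [biproduct.ι_desc]
  exact Finset.sum_congr rfl fun m _ => by rw [mul_comm]

end Finite

variable {k K : Type u} [Field k] [Field K] [Algebra k K] {X X' : Scheme.{u}}
  [X.Over (Spec (CommRingCat.of k))] [X'.Over (Spec (CommRingCat.of K))] {q : X' ⟶ X}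
  (hq : IsPullback q (X' ↘ Spec (CommRingCat.of K)) (X ↘ Spec (CommRingCat.of k))
    (Spec.map (CommRingCat.ofHom (algebraMap k K))))

include hq in
/-- Modules which become isomorphic over an algebraic extension have isomorphic finite powers. -/
theorem exists_pow_iso [CompactSpace X] [Algebra.IsAlgebraic k K] {F G : X.Modules} (hF : Coh.IsCoh F) (hG : Coh.IsCoh G)
    (e : (Scheme.Modules.pullback q).obj F ≅ (Scheme.Modules.pullback q).obj G) :
    ∃ d : ℕ, d ≠ 0 ∧ Nonempty ((⨁ fun _ : Fin d => F) ≅ ⨁ fun _ : Fin d => G) := by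
  classical
  obtain ⟨x, hx⟩ := (beta_bijective hq hF hG.1).2 e.hom
  obtain ⟨y, hy⟩ := (beta_bijective hq hG hF.1).2 e.inv
  obtain ⟨S, rfl⟩ := TensorProduct.exists_finset x
  obtain ⟨T, rfl⟩ := TensorProduct.exists_finset y
  let s : Set K := (S.image Prod.fst : Set K) ∪ (T.image Prod.fst : Set K)
  let L := Algebra.adjoin k s
  haveI : Module.Finite k L := Algebra.finite_adjoin_of_finite_of_isIntegral
    ((S.image Prod.fst).finite_toSet.union (T.image Prod.fst).finite_toSet) fun c _ => Algebra.IsIntegral.isIntegral c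
  let l : Module.Basis (Fin (Module.finrank k L)) k L := Module.finBasis k L
  have hS : ∀ p ∈ S, p.1 ∈ L := fun p hp => Algebra.subset_adjoin (Or.inl (by simpa using ⟨p.2, hp⟩))
  have hT : ∀ p ∈ T, p.1 ∈ L := fun p hp => Algebra.subset_adjoin (Or.inr (by simpa using ⟨p.2, hp⟩))
  let inc : ∀ (A B : X.Modules), L ⊗[k] (A ⟶ B) →ₗ[k] K ⊗[k] (A ⟶ B) := fun A B => L.val.toLinearMap.rTensor _
  have hinc : ∀ A B, Function.Injective (inc A B) := fun A B =>
    Module.Flat.rTensor_preserves_injective_linearMap _ Subtype.val_injective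
  let bL : ∀ (A B : X.Modules), L ⊗[k] (A ⟶ B) →+ ((Scheme.Modules.pullback q).obj A ⟶ (Scheme.Modules.pullback q).obj B) :=
    fun A B => (beta hq A B).comp (inc A B).toAddMonoidHom
  have hbt : ∀ (A B : X.Modules) (c : L) (φ : A ⟶ B), bL A B (c ⊗ₜ φ) = (c : K) • (Scheme.Modules.pullback q).map φ :=
    fun A B c φ => rfl
  have hmul : ∀ (A B C : X.Modules) (a : L ⊗[k] (A ⟶ B)) (b : L ⊗[k] (B ⟶ C)),
      ∃ w : L ⊗[k] (A ⟶ C), bL A C w = bL A B a ≫ bL B C b ∧ theta l A C w = theta l A B a ≫ theta l B C b := by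
    intro A B C a b
    induction a with
    | zero => exact ⟨0, by simp, by simp⟩
    | add a₁ a₂ h₁ h₂ =>
      obtain ⟨w₁, h₁, h₁'⟩ := h₁
      obtain ⟨w₂, h₂, h₂'⟩ := h₂
      exact ⟨w₁ + w₂, by simp [h₁, h₂], by simp [h₁', h₂']⟩
    | tmul c φ =>
      induction b with
      | zero => exact ⟨0, by simp, by simp⟩
      | add b₁ b₂ h₁ h₂ =>
        obtain ⟨w₁, h₁, h₁'⟩ := h₁
        obtain ⟨w₂, h₂, h₂'⟩ := h₂
        exact ⟨w₁ + w₂, by simp [h₁, h₂], by simp [h₁', h₂']⟩
      | tmul c' ψ =>
        refine ⟨(c * c') ⊗ₜ (φ ≫ ψ), ?_, (theta_comp l c c' φ ψ).symm⟩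
        rw [hbt, hbt, hbt, Functor.map_comp, Linear.smul_comp, Linear.comp_smul, smul_smul]
        rfl
  let a : L ⊗[k] (F ⟶ G) := ∑ p ∈ S.attach, (⟨p.1.1, hS _ p.2⟩ : L) ⊗ₜ p.1.2
  let b : L ⊗[k] (G ⟶ F) := ∑ p ∈ T.attach, (⟨p.1.1, hT _ p.2⟩ : L) ⊗ₜ p.1.2
  have ha : bL F G a = e.hom := by
    refine Eq.trans (congrArg (beta hq F G) ?_) hx
    show inc F G a = _
    rw [map_sum, ← Finset.sum_attach S]
    rfl
  have hb : bL G F b = e.inv := by
    refine Eq.trans (congrArg (beta hq G F) ?_) hy
    show inc G F b = _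
    rw [map_sum, ← Finset.sum_attach T]
    rfl
  have hone : ∀ (A : X.Modules), bL A A (1 ⊗ₜ 𝟙 A) = 𝟙 _ := fun A => by
    rw [hbt, CategoryTheory.Functor.map_id]
    exact one_smul K _
  have key : ∀ (A B : X.Modules), Coh.IsCoh A → ∀ (u : L ⊗[k] (A ⟶ B)) (v : L ⊗[k] (B ⟶ A)),
      bL A B u ≫ bL B A v = 𝟙 _ → theta l A B u ≫ theta l B A v = 𝟙 _ := fun A B hA u v h => by
    obtain ⟨w, hw, hw'⟩ := hmul A B A u v
    have : w = 1 ⊗ₜ 𝟙 A := hinc A A ((beta_bijective hq hA hA.1).1 (hw.trans (h.trans (hone A).symm)))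
    rw [← hw', this, theta_one]
  refine ⟨Module.finrank k L, Module.finrank_pos.ne', ⟨⟨theta l F G a, theta l G F b, ?_, ?_⟩⟩⟩
  · exact key F G hF a b (by rw [ha, hb, e.hom_inv_id])
  · exact key G F hG b a (by rw [ha, hb, e.inv_hom_id])

end Groth.Agent.ASB24
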