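import Groth.Prelude.Def_KLin
import Groth.Agent.FFun.Basic
import Groth.Agent.QCoh.FlatBC
import Groth.Agent.ASB24.AffineHom
import Groth.Agent.QCoh.Stalk
import Groth.Agent.QCoh.Support
import Mathlib.LinearAlgebra.TensorProduct.Basis

/-!
# Morphisms between base changes to an algebra over a field
-/

set_option linter.style.haveILetI false
set_option backward.isDefEq.respectTransparency false
set_option backward.isDefEq.respectTransparency.types false

universe u

open CategoryTheory CategoryTheory.Limits AlgebraicGeometry Opposite TopologicalSpace TensorProduct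

namespace Groth.Agent.ASB24

open Groth.Agent

variable {k K : Type u} [Field k] [CommRing K] [Algebra k K] {X X' : Scheme.{u}}
  [X.Over (Spec (CommRingCat.of k))] [X'.Over (Spec (CommRingCat.of K))] {q : X' ⟶ X}

variable (q) in
/-- The canonical map on sections to the inverse image. -/
noncomputable def eta (G : X.Modules) (V : X.Opens) (x : Γ(G, V)) : Γ((Scheme.Modules.pullback q).obj G, q ⁻¹ᵁ V) :=
  ((Scheme.Modules.pullbackPushforwardAdjunction q).unit.app G).app V x

theorem eta_add (G : X.Modules) (V : X.Opens) (x y : Γ(G, V)) :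
    eta q G V (x + y) = eta q G V x + eta q G V y :=
  map_add (((Scheme.Modules.pullbackPushforwardAdjunction q).unit.app G).app V).hom x y

theorem eta_zero (G : X.Modules) (V : X.Opens) : eta q G V 0 = 0 :=
  map_zero (((Scheme.Modules.pullbackPushforwardAdjunction q).unit.app G).app V).hom

theorem eta_smul (G : X.Modules) (V : X.Opens) (r : Γ(X, V)) (x : Γ(G, V)) :
    eta q G V (r • x) = q.app V r • eta q G V x :=
  ((Scheme.Modules.pullbackPushforwardAdjunction q).unit.app G).app_smul r x

theorem eta_res (G : X.Modules) {V W : X.Opens} (i : W ≤ V) (x : Γ(G, V)) :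
    eta q G W (G.presheaf.map (homOfLE i).op x) =
      ((Scheme.Modules.pullback q).obj G).presheaf.map ((Opens.map q.base).map (homOfLE i)).op (eta q G V x) :=
  congr($(((Scheme.Modules.pullbackPushforwardAdjunction q).unit.app G).mapPresheaf.naturality (homOfLE i).op) x)

theorem eta_map {F G : X.Modules} (φ : F ⟶ G) (V : X.Opens) (x : Γ(F, V)) :
    ((Scheme.Modules.pullback q).map φ).app (q ⁻¹ᵁ V) (eta q F V x) = eta q G V (φ.app V x) :=
  (congr(($((Scheme.Modules.pullbackPushforwardAdjunction q).unit.naturality φ)).app V x)).symm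

/-- Morphisms out of an inverse image agree if they agree on the canonical sections over affines. -/
theorem hom_ext_eta {F : X.Modules} {P : X'.Modules} {ψ ψ' : (Scheme.Modules.pullback q).obj F ⟶ P}
    (h : ∀ (V : X.affineOpens) (x : Γ(F, V.1)),
      ψ.app (q ⁻¹ᵁ V.1) (eta q F V.1 x) = ψ'.app (q ⁻¹ᵁ V.1) (eta q F V.1 x)) : ψ = ψ' := by
  apply ((Scheme.Modules.pullbackPushforwardAdjunction q).homEquiv F P).injective
  rw [Adjunction.homEquiv_unit, Adjunction.homEquiv_unit]
  exact hom_ext_affine h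

variable (X') in
/-- A scalar as a function on an open. -/
noncomputable def scal (c : K) (W : X'.Opens) : Γ(X', W) :=
  X'.presheaf.map (homOfLE (le_top : W ≤ ⊤)).op (Coh.toGlobal (X' ↘ Spec (CommRingCat.of K)) c)

theorem scal_res (c : K) {V W : X'.Opens} (i : W ⟶ V) : X'.presheaf.map i.op (scal X' c V) = scal X' c W :=
  congr($((X'.presheaf.map_comp (homOfLE (le_top : V ≤ ⊤)).op i.op).symm) (Coh.toGlobal (X' ↘ Spec (CommRingCat.of K)) c))

theorem smulK_app {P Q : X'.Modules} (c : K) (f : P ⟶ Q) (W : X'.Opens) (m : Γ(P, W)) :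
    (c • f).app W m = scal X' c W • f.app W m := KLin.smul_app_apply c f W m

omit [X.Over (Spec (CommRingCat.of k))] in
/-- A morphism out of a quasi-coherent module vanishes if it kills the sections over an affine cover. -/
theorem eq_zero_of_cover {F G : X.Modules} (hF : Coh.IsQCoh F) (φ : F ⟶ G)
    (h : ∀ y : X, ∃ U : X.affineOpens, y ∈ U.1 ∧ ∀ z : Γ(F, U.1), φ.app U.1 z = 0) : φ = 0 := by
  refine hom_ext_affine fun V x => ?_
  refine TopCat.Presheaf.section_ext ⟨G.presheaf, G.isSheaf⟩ V.1 _ _ fun y hy => ?_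
  obtain ⟨U, hyU, hU⟩ := h y
  haveI := QCoh.isLocalizedModule_germLin hF U.2 hyU
  letI := TopCat.Presheaf.algebra_section_stalk X.presheaf (⟨y, hyU⟩ : U.1)
  obtain ⟨⟨z, a⟩, hz⟩ := IsLocalizedModule.surj (U.2.primeIdealOf ⟨y, hyU⟩).asIdeal.primeCompl
    (QCoh.germLin F hyU) (F.presheaf.germ V.1 y hy x)
  have hu : IsUnit (X.presheaf.germ U.1 y hyU a.1) := by
    haveI := QCoh.isLocalization_stalk' U.2 hyU
    exact IsLocalization.map_units (X.presheaf.stalk y) a
  let r : Γ(X, U.1 ⊓ V.1) := X.presheaf.map (homOfLE (inf_le_left : U.1 ⊓ V.1 ≤ U.1)).op a.1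
  let x' : Γ(F, U.1 ⊓ V.1) := F.presheaf.map (homOfLE (inf_le_right : U.1 ⊓ V.1 ≤ V.1)).op x
  have hg : F.presheaf.germ (U.1 ⊓ V.1) y ⟨hyU, hy⟩ (r • x') = F.presheaf.germ U.1 y hyU z := by
    rw [QCoh.germ_smul']
    refine Eq.trans (congrArg₂ (· • ·) ?_ ?_) hz
    · exact TopCat.Presheaf.germ_res_apply X.presheaf _ y _ a.1
    · exact TopCat.Presheaf.germ_res_apply F.presheaf _ y _ x
  obtain ⟨W, hyW, i₁, i₂, e₀⟩ := TopCat.Presheaf.germ_eq F.presheaf y _ _ _ _ hg
  have e : X.presheaf.map i₁.op r • F.presheaf.map i₁.op x' = F.presheaf.map i₂.op z :=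
    (Scheme.Modules.map_smul F i₁ r x').symm.trans e₀
  have e' := congrArg (φ.app W) e
  rw [Scheme.Modules.Hom.app_smul] at e'
  have e1 : ∀ {A : X.Opens} (i : W ⟶ A) (t : Γ(F, A)), φ.app W (F.presheaf.map i.op t) = G.presheaf.map i.op (φ.app A t) :=
    fun i t => congr($(φ.mapPresheaf.naturality i.op) t)
  have e2 : φ.app (U.1 ⊓ V.1) x' = G.presheaf.map (homOfLE (inf_le_right : U.1 ⊓ V.1 ≤ V.1)).op (φ.app V.1 x) :=
    congr($(φ.mapPresheaf.naturality (homOfLE (inf_le_right : U.1 ⊓ V.1 ≤ V.1)).op) x)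
  rw [e1, e1, e2, hU, map_zero] at e'
  have e'' := congrArg (G.presheaf.germ W y hyW) e'
  rw [QCoh.germ_smul', map_zero] at e''
  erw [TopCat.Presheaf.germ_res_apply, TopCat.Presheaf.germ_res_apply, TopCat.Presheaf.germ_res_apply,
    TopCat.Presheaf.germ_res_apply] at e''
  exact ((hu.smul_eq_zero).1 e'').trans (map_zero (G.presheaf.germ V.1 y hy).hom).symm

section Sections

variable (hq : IsPullback q (X' ↘ Spec (CommRingCat.of K)) (X ↘ Spec (CommRingCat.of k)) (Spec.map (CommRingCat.ofHom (algebraMap k K))))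
  {ι : Type u} (b : Module.Basis ι k K)

/-- Combinations of canonical sections with basis scalars. -/
noncomputable def comb (G : X.Modules) (V : X.Opens) (y : ι →₀ Γ(G, V)) : Γ((Scheme.Modules.pullback q).obj G, q ⁻¹ᵁ V) :=
  y.sum fun i m => scal X' (b i) (q ⁻¹ᵁ V) • eta q G V m

theorem comb_add (G : X.Modules) (V : X.Opens) (y z : ι →₀ Γ(G, V)) :
    comb (q := q) b G V (y + z) = comb b G V y + comb b G V z :=
  Finsupp.sum_add_index' (fun i => by rw [eta_zero, smul_zero]) (fun i m n => by rw [eta_add, smul_add])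

include hq in
theorem bijective_comb {G : X.Modules} (hG : Coh.IsQCoh G) {V : X.Opens} (hV : IsAffineOpen V) :
    Function.Bijective (comb (q := q) b G V) := by
  classical
  let ρ := Coh.toGlobal (X ↘ Spec (CommRingCat.of k))
  let ρ' := Coh.toGlobal (X' ↘ Spec (CommRingCat.of K))
  let M' := (Scheme.Modules.pullback q).obj G
  letI := QCoh.secModule ρ G V
  letI := QCoh.secModule ρ' M' (q ⁻¹ᵁ V)
  letI := QCoh.secModule (ρ'.comp (algebraMap k K)) M' (q ⁻¹ᵁ V)
  haveI : IsScalarTower k K Γ(M', q ⁻¹ᵁ V) := .of_algebraMap_smul fun _ _ => rfl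
  have hbc : IsBaseChange K (show Γ(G, V) →ₗ[k] Γ(M', q ⁻¹ᵁ V) from _) :=
    QCoh.isAffineBC_of_isPullback (pA := (X ↘ Spec (CommRingCat.of k))) (pB := (X' ↘ Spec (CommRingCat.of K))) (φ := q) hq hG V hV
  let e := (TensorProduct.equivFinsuppOfBasisLeft b).symm.toEquiv.trans hbc.equiv.toEquiv
  refine (show comb (q := q) b G V = e from funext fun y => ?_) ▸ e.bijective
  show _ = hbc.equiv ((TensorProduct.equivFinsuppOfBasisLeft b).symm y)
  rw [TensorProduct.equivFinsuppOfBasisLeft_symm_apply, map_finsuppSum]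
  refine Finsupp.sum_congr fun i _ => ?_
  rw [IsBaseChange.equiv_tmul]
  refine congrArg (scal X' (b i) (q ⁻¹ᵁ V) • ·) ?_
  exact (congr(($(M'.presheaf.map_id (op (q ⁻¹ᵁ V)))) (eta q G V (y i)))).symm

theorem comb_res (G : X.Modules) {V W : X.Opens} (i : W ≤ V) (y : ι →₀ Γ(G, V)) :
    ((Scheme.Modules.pullback q).obj G).presheaf.map ((Opens.map q.base).map (homOfLE i)).op (comb (q := q) b G V y) =
      comb b G W (y.mapRange (G.presheaf.map (homOfLE i).op) (map_zero (G.presheaf.map (homOfLE i).op).hom)) := by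
  unfold comb
  rw [map_finsuppSum, Finsupp.sum_mapRange_index (fun j => by rw [eta_zero, smul_zero])]
  refine Finsupp.sum_congr fun j _ => ?_
  rw [eta_res, Scheme.Modules.map_smul, scal_res]

theorem comb_smul (G : X.Modules) (V : X.Opens) (r : Γ(X, V)) (y : ι →₀ Γ(G, V)) :
    comb (q := q) b G V (y.mapRange (r • ·) (smul_zero r)) = q.app V r • comb b G V y := by
  unfold comb
  rw [Finsupp.sum_mapRange_index (fun j => by rw [eta_zero, smul_zero]), Finsupp.smul_sum]
  refine Finsupp.sum_congr fun j _ => ?_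
  rw [eta_smul, smul_comm]

variable {F G : X.Modules}

/-- A combination of inverse images of morphisms. -/
noncomputable def combHom (y : ι →₀ (F ⟶ G)) : (Scheme.Modules.pullback q).obj F ⟶ (Scheme.Modules.pullback q).obj G :=
  y.sum fun i φ => b i • (Scheme.Modules.pullback q).map φ

theorem combHom_app (y : ι →₀ (F ⟶ G)) (V : X.Opens) (x : Γ(F, V)) :
    (combHom (q := q) b y).app (q ⁻¹ᵁ V) (eta q F V x) =
      comb b G V (y.mapRange (fun φ => φ.app V x) rfl) := by
  classical
  unfold combHom comb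
  rw [Finsupp.sum_mapRange_index (fun j => by rw [eta_zero, smul_zero])]
  refine Finsupp.induction y ?_ fun i φ z hi hφ ih => ?_
  · rw [Finsupp.sum_zero_index, Finsupp.sum_zero_index]; rfl
  · rw [Finsupp.sum_add_index' (fun j => by simp) (fun j a c => by rw [Functor.map_add, smul_add]),
      Finsupp.sum_single_index (by simp),
      Finsupp.sum_add_index' (fun j => by simp [eta_zero])
        (fun j a c => by rw [Scheme.Modules.Hom.add_app]; exact (congrArg (_ • ·) (eta_add G V _ _)).trans (smul_add _ _ _)),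
      Finsupp.sum_single_index (by simp [eta_zero])]
    rw [Scheme.Modules.Hom.add_app]
    refine congrArg₂ (· + ·) ?_ ih
    rw [smulK_app, eta_map]

include hq in
theorem combHom_injective (hG : Coh.IsQCoh G) : Function.Injective (combHom (q := q) b (F := F) (G := G)) := by
  intro y z h
  ext i : 1
  refine hom_ext_affine fun V x => ?_
  have h1 := congrArg (fun t => t.app (q ⁻¹ᵁ V.1) (eta q F V.1 x)) h
  simp only [combHom_app] at h1
  exact congr($((bijective_comb hq b hG V.2).1 h1) i)

include hq in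
/-- Every morphism of inverse images is a combination of inverse images of morphisms. -/
theorem combHom_surjective [CompactSpace X] (hF : Coh.IsCoh F) (hG : Coh.IsQCoh G) :
    Function.Surjective (combHom (q := q) b (F := F) (G := G)) := by
  classical
  intro ψ
  let co : ∀ V : X.affineOpens, Γ(F, V.1) → ι →₀ Γ(G, V.1) := fun V x =>
    (Equiv.ofBijective _ (bijective_comb hq b hG V.2)).symm (ψ.app (q ⁻¹ᵁ V.1) (eta q F V.1 x))
  have hco : ∀ (V : X.affineOpens) x, comb b G V.1 (co V x) = ψ.app (q ⁻¹ᵁ V.1) (eta q F V.1 x) := fun V x =>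
    Equiv.ofBijective_apply_symm_apply _ (bijective_comb hq b hG V.2) _
  have hadd : ∀ (V : X.affineOpens) x y, co V (x + y) = co V x + co V y := fun V x y => by
    apply (bijective_comb hq b hG V.2).1
    rw [comb_add, hco, hco, hco, eta_add]
    exact map_add (ψ.app (q ⁻¹ᵁ V.1)).hom _ _
  have hsmul : ∀ (V : X.affineOpens) (r : Γ(X, V.1)) x, co V (r • x) = (co V x).mapRange (r • ·) (smul_zero r) := fun V r x => by
    apply (bijective_comb hq b hG V.2).1
    rw [comb_smul, hco, hco, eta_smul, Scheme.Modules.Hom.app_smul]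
  have hres : ∀ (V W : X.affineOpens) (i : W.1 ≤ V.1) x,
      co W (F.presheaf.map (homOfLE i).op x) =
        (co V x).mapRange (G.presheaf.map (homOfLE i).op) (map_zero (G.presheaf.map (homOfLE i).op).hom) := fun V W i x => by
    apply (bijective_comb hq b hG W.2).1
    rw [← comb_res, hco, hco, eta_res]
    exact congr($(ψ.mapPresheaf.naturality ((Opens.map q.base).map (homOfLE i)).op) (eta q F V.1 x))
  have hex : ∀ j, ∃ φ : F ⟶ G, ∀ (V : X.affineOpens) x, φ.app V.1 x = co V x j := fun j =>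
    exists_hom_of_affine (fun V => AddMonoidHom.mk' (fun x => co V x j) fun x y => by rw [hadd]; rfl)
      (fun V r x => by show co V (r • x) j = _; rw [hsmul]; rfl)
      (fun V W i x => by show co W _ j = _; rw [hres V W i x]; rfl)
  choose φ hφ using hex
  obtain ⟨s, hs⟩ : ∃ s : Finset X.affineOpens, ∀ y : X, ∃ U ∈ s, y ∈ U.1 := by
    obtain ⟨s, hs⟩ := isCompact_univ.elim_finite_subcover (fun U : X.affineOpens => (U.1 : Set X))
      (fun U => U.1.2) (fun y _ => by
        obtain ⟨_, ⟨W, hW, rfl⟩, hyW, -⟩ := X.isBasis_affineOpens.exists_subset_of_mem_open (Set.mem_univ y) isOpen_univ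
        exact Set.mem_iUnion.2 ⟨⟨W, hW⟩, hyW⟩)
    refine ⟨s, fun y => ?_⟩
    simpa using hs (Set.mem_univ y)
  have hfin : ∀ V : X.affineOpens, ∃ T : Finset ι, ∀ (x : Γ(F, V.1)) j, j ∉ T → co V x j = 0 := fun V => by
    haveI := QCoh.finite_sections hF V.2
    obtain ⟨S, hS⟩ := Module.Finite.fg_top (R := Γ(X, V.1)) (M := Γ(F, V.1))
    refine ⟨S.biUnion fun x => (co V x).support, fun x j hj => ?_⟩
    induction hS ▸ (Submodule.mem_top : x ∈ (⊤ : Submodule Γ(X, V.1) Γ(F, V.1))) using Submodule.span_induction with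
    | mem x hx => exact Finsupp.notMem_support_iff.1 fun h => hj (Finset.mem_biUnion.2 ⟨x, hx, h⟩)
    | zero =>
      have : co V 0 = 0 := by simpa using hadd V 0 0
      rw [this]; rfl
    | add x y _ _ hx hy => rw [hadd, Finsupp.add_apply, hx, hy, add_zero]
    | smul r x _ hx => rw [hsmul, Finsupp.mapRange_apply, hx, smul_zero]
  choose T hT using hfin
  have hzero : ∀ j, j ∉ s.biUnion T → φ j = 0 := fun j hj => by
    refine eq_zero_of_cover hF.1 (φ j) fun y => ?_
    obtain ⟨U, hU, hyU⟩ := hs y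
    exact ⟨U, hyU, fun z => (hφ j U z).trans (hT U z j fun h => hj (Finset.mem_biUnion.2 ⟨U, hU, h⟩))⟩
  refine ⟨Finsupp.onFinset (s.biUnion T) φ fun j h => by_contra fun h' => h (hzero j h'), hom_ext_eta fun V x => ?_⟩
  rw [combHom_app, ← hco]
  congr 1
  ext j
  rw [Finsupp.mapRange_apply, Finsupp.onFinset_apply, hφ]

end Sections

end Groth.Agent.ASB24
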