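import Groth.Agent.ASB24.TwPow2

/-!
# Split bundles over an extension and their indecomposable models
-/

set_option linter.style.haveILetI false
set_option backward.isDefEq.respectTransparency false
set_option backward.isDefEq.respectTransparency.types false

universe u

open CategoryTheory CategoryTheory.Limits AlgebraicGeometry W4c1astiltbs12

namespace Groth.Agent.ASB24

open Groth.Agent

attribute [local instance] Abelian.hasFiniteBiproducts

section Inv

variable {Y : Scheme.{u}}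

theorem finrank_stalk_biprod {A B : Y.Modules} (hA : FlatMod.IsFinLocFree A) (hB : FlatMod.IsFinLocFree B) (y : Y) :
    Module.finrank (Y.presheaf.stalk y) ((A ⊞ B).presheaf.stalk y) =
      Module.finrank (Y.presheaf.stalk y) (A.presheaf.stalk y) +
        Module.finrank (Y.presheaf.stalk y) (B.presheaf.stalk y) := by
  haveI : PreservesBinaryBiproduct A B (DerSch.stalkFunctor Y y) := preservesBinaryBiproduct_of_preservesBiproduct _ _ _
  haveI := QCoh.finite_stalk_of_isFT (H28.PushLocFree.isCoh_of_isFinLocFree hA).1 (H28.PushLocFree.isCoh_of_isFinLocFree hA).2 y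
  haveI := QCoh.finite_stalk_of_isFT (H28.PushLocFree.isCoh_of_isFinLocFree hB).1 (H28.PushLocFree.isCoh_of_isFinLocFree hB).2 y
  haveI := QCoh.free_stalk_of_isFinLocFree hA y
  haveI := QCoh.free_stalk_of_isFinLocFree hB y
  have e := ((DerSch.stalkFunctor Y y).mapBiprod A B ≪≫ ModuleCat.biprodIsoProd _ _).toLinearEquiv
  exact e.finrank_eq.trans (Module.finrank_prod (R := Y.presheaf.stalk y) (M := A.presheaf.stalk y) (M' := B.presheaf.stalk y))

theorem isZero_of_rank_zero {M : Y.Modules} (h : FlatMod.IsFinLocFreeOfRank 0 M) : IsZero M := by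
  choose U hU e using h
  refine (IsZero.iff_id_eq_zero M).2 (SheafHomX.eq_zero_of_restrict (fun x => (U x).ι)
    (fun x => ⟨x, ⟨x, hU x⟩, rfl⟩) _ fun x => ?_)
  have hz : IsZero (M.restrict (U x).ι) :=
    IsZero.of_iso ((IsZero.iff_id_eq_zero _).2 (Sigma.hom_ext _ _ fun i => Fin.elim0 i)) (e x).some
  exact hz.eq_of_src _ _

/-- Invertible modules on connected schemes are indecomposable. -/
theorem indec_invertible [ConnectedSpace Y] {L : Y.Modules} (hL : PicF.IsInvertible L) : KSLib.Indec L := by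
  have h1 : FlatMod.IsFinLocFreeOfRank 1 L := H23.Chern.rank_of_iso
    (show pow L 1 ≅ L from coproductUniqueIso fun _ : Fin 1 => L) (rank_pow hL 1)
  have hf := (ConsPropLib.isFinLocFreeOfRank_iff.1 h1)
  refine ⟨fun h => ?_, fun A B ⟨φ⟩ => ?_⟩
  · obtain ⟨y⟩ := (inferInstance : Nonempty Y)
    exact one_ne_zero (SeesawX.rank_unique y h1 (H23.Chern.rank_of_iso
      ((isZero_pow_zero L).iso h) (rank_pow hL 0)))
  · have hA : FlatMod.IsFinLocFree A :=
      UnivThick.isFinLocFree_of_retract (biprod.inl ≫ φ.inv) (φ.hom ≫ biprod.fst) (by simp) hf.1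
    have hB : FlatMod.IsFinLocFree B :=
      UnivThick.isFinLocFree_of_retract (biprod.inr ≫ φ.inv) (φ.hom ≫ biprod.snd) (by simp) hf.1
    have hsum : ∀ y, Module.finrank (Y.presheaf.stalk y) (A.presheaf.stalk y) +
        Module.finrank (Y.presheaf.stalk y) (B.presheaf.stalk y) = 1 := fun y => by
      rw [← finrank_stalk_biprod hA hB y]
      exact (((DerSch.stalkFunctor Y y).mapIso φ).toLinearEquiv.finrank_eq).symm.trans (hf.2 y)
    rcases isClopen_iff.1 (SeesawX.isOpen_rank hA 0) with h | h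
    · refine Or.inr (isZero_of_rank_zero (ConsPropLib.isFinLocFreeOfRank_iff.2 ⟨hB, fun y => ?_⟩))
      have hy : y ∉ {y : Y | Module.finrank (Y.presheaf.stalk y) (A.presheaf.stalk y) = 0} := by rw [h]; exact id
      have := hsum y
      simp only [Set.mem_setOf_eq] at hy
      omega
    · exact Or.inl (isZero_of_rank_zero (ConsPropLib.isFinLocFreeOfRank_iff.2
        ⟨hA, fun y => Set.eq_univ_iff_forall.1 h y⟩))

end Inv

variable {k : Type u} [Field k] {X : Scheme.{u}} (p : X ⟶ Spec (CommRingCat.of k)) [IsProper p]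
  (K : Type u) [Field K] [Algebra k K]

theorem nonempty_sigma_pow {Y : Scheme.{u}} {n : ℕ} (L : Fin n → Y.Modules) (R : ℕ) :
    Nonempty (pow (∐ L) R ≅ ∐ fun i => pow (L i) R) :=
  ⟨sigmaSigmaIso (fun _ : Fin R => Fin n) (fun _ j => L j) ≪≫
    Sigma.whiskerEquiv (g := fun q : Σ _ : Fin n, Fin R => L q.1) ((Equiv.sigmaEquivProd (Fin R) (Fin n)).trans ((Equiv.prodComm _ _).trans
      (Equiv.sigmaEquivProd (Fin n) (Fin R)).symm)) (fun _ => Iso.refl _) ≪≫
    (sigmaSigmaIso (fun _ : Fin n => Fin R) (fun j _ => L j)).symm⟩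

/-- An indecomposable module which becomes a sum of modules having indecomposable models is one of the models. -/
theorem exists_iso_of_bc_decomp [Algebra.IsAlgebraic k K] {E : X.Modules} (hE : Coh.IsCoh E) (hEi : KSLib.Indec E)
    {n : ℕ} (M : Fin n → X.Modules) (hM : ∀ i, Coh.IsCoh (M i)) (hMi : ∀ i, KSLib.Indec (M i)) (r : Fin n → ℕ)
    (hr : ∀ i, 0 < r i) (L : Fin n → (W4bk4gw11416.baseChange p K).Modules)
    (eM : ∀ i, bcMod p K (M i) ≅ pow (L i) (r i)) (e : bcMod p K E ≅ ∐ L) : ∃ i, Nonempty (E ≅ M i) := by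
  classical
  let R := ∏ i, r i
  have hR : 0 < R := Finset.prod_pos fun i _ => hr i
  let c : Fin n → ℕ := fun i => ∏ j ∈ Finset.univ.erase i, r j
  have hc : ∀ i, c i * r i = R := fun i => Finset.prod_erase_mul _ _ (Finset.mem_univ i)
  obtain ⟨a⟩ := nonempty_sigma_pow L R
  let b : ∀ i, pow (L i) R ≅ bcMod p K (pow (M i) (c i)) := fun i =>
    eqToIso (by rw [hc i]) ≪≫ (nonempty_powPow (L i) (r i) (c i)).some.symm ≪≫
      Sigma.mapIso (fun _ => (eM i).symm) ≪≫ (bcPow p K (M i) (c i)).symm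
  let φ : bcMod p K (pow E R) ≅ bcMod p K (∐ fun i => pow (M i) (c i)) :=
    bcPow p K E R ≪≫ Sigma.mapIso (fun _ => e) ≪≫ a ≪≫ Sigma.mapIso b ≪≫
      (PreservesCoproduct.iso (Scheme.Modules.pullback (proj p K)) fun i => pow (M i) (c i)).symm
  have hP : Coh.IsCoh (∐ fun i => pow (M i) (c i)) :=
    SheafHomX.isCoh_of_iso (biproduct.isoCoproduct _) (isCoh_biprod_fin _ fun i => isCoh_pow (hM i) (c i))
  obtain ⟨ψ⟩ := nonempty_iso_of_bc p K (isCoh_pow hE R) hP φ
  let σ : (Σ i : Fin n, Fin (c i)) ≃ Fin (∑ i, c i) := finSigmaFinEquiv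
  let G : Fin (∑ i, c i) → X.Modules := fun m => M (σ.symm m).1
  let χ : (∐ fun i => pow (M i) (c i)) ≅ ∐ G :=
    sigmaSigmaIso (fun i => Fin (c i)) (fun i _ => M i) ≪≫ Sigma.whiskerEquiv σ (fun s => eqToIso (by simp [G]))
  obtain ⟨τ, hτ⟩ := indec_unique p (fun _ : Fin R => hEi) (fun m => hMi (σ.symm m).1) (fun _ => hE)
    (biproduct.isoCoproduct _ ≪≫ ψ ≪≫ χ ≪≫ (biproduct.isoCoproduct G).symm)
  exact ⟨_, hτ ⟨0, hR⟩⟩

end Groth.Agent.ASB24
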