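import Groth.Agent.ASB24.SBSplit
import Groth.Agent.S10960

/-!
# Descent of twists and the period
-/

set_option linter.style.haveILetI false
set_option backward.isDefEq.respectTransparency false
set_option backward.isDefEq.respectTransparency.types false

universe u

open CategoryTheory CategoryTheory.Limits AlgebraicGeometry TensorProduct

namespace Groth.Agent.ASB24

open Groth.Agent

variable {k : Type u} [Field k] {X : Scheme.{u}} {p : X ⟶ Spec (CommRingCat.of k)}

/-- The type of a twist is determined in positive dimension. -/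
theorem twist_inj {K : Type u} [Field K] [Algebra k K] {n : ℕ} (hn : 0 < n) (e : BrSev.Splitting p K n) {a b : ℤ}
    (h : e.twist a ≅ e.twist b) : a = b := by
  let T := fun c => Twist.twistProjSpace n K c
  have back : ∀ c, Nonempty ((Scheme.Modules.pullback e.iso.inv).obj (e.twist c) ≅ T c) := fun c =>
    ⟨(Scheme.Modules.pullbackComp e.iso.inv e.iso.hom).app (T c) ≪≫
      (Scheme.Modules.pullbackCongr e.iso.inv_hom_id).app (T c) ≪≫ (Scheme.Modules.pullbackId _).app (T c)⟩
  let M := (Scheme.Modules.pullback e.iso.inv).obj (e.twist a)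
  obtain ⟨c, hc, huniq⟩ := S10960.result K n hn M
    (PicLoc.isInvertible_pullback e.iso.inv (isInvertible_twist e a))
  exact (huniq a (back a)).trans (huniq b ⟨(Scheme.Modules.pullback e.iso.inv).mapIso h ≪≫ (back b).some⟩).symm

/-- All twists on a point are trivial. -/
theorem twist_zero_dim {K : Type u} [Field K] [Algebra k K] {n : ℕ} (hn : n = 0) (e : BrSev.Splitting p K n) (a b : ℤ) :
    Nonempty (e.twist a ≅ e.twist b) := by
  subst hn
  obtain ⟨s⟩ := twist_trivial K a
  obtain ⟨t⟩ := twist_trivial K b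
  exact ⟨(Scheme.Modules.pullback e.iso.hom).mapIso (s ≪≫ t.symm)⟩

/-- The multiplicity-one types descended to a field with a splitting are the multiples of the period. -/
theorem exists_invertible_iff {A : Type u} [Ring A] [Algebra k A] [Algebra.IsCentral k A] [IsSimpleRing A]
    {n : ℕ} (hn : 0 < n) (hA : Module.finrank k A = n * n) (hX : BrSev.IsSBOf k A (n * n - n) p)
    {d : ℕ} (hd : CSAGal.IsPeriod k A d) {K : Type u} [Field K] [Algebra k K] [FiniteDimensional k K]
    [Algebra.IsSeparable k K] (e : BrSev.Splitting p K (n - 1)) (j : ℤ) :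
    (∃ L : X.Modules, PicF.IsInvertible L ∧ BrSev.IsTwPow e j 1 L) ↔ (d : ℤ) ∣ j := by
  haveI : IsProper p := isProper_of_splitting e
  haveI : Module.Finite k A := Module.finite_of_finrank_pos (by rw [hA]; positivity)
  obtain ⟨m, rfl⟩ : ∃ m, n = m + 1 := ⟨n - 1, by omega⟩
  let Ω := AlgebraicClosure K
  haveI : Algebra.IsAlgebraic k Ω := Algebra.IsAlgebraic.trans k K Ω
  haveI : IsAlgClosure k Ω := ⟨inferInstance, inferInstance⟩
  haveI := CSALib.isCentral_baseChange k A Ω
  haveI := CSALib.isSimpleRing_baseChange k A Ω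
  obtain ⟨l, _, ⟨Φ⟩⟩ := CSALib.exists_algEquiv_matrix_of_isSepClosed Ω (Ω ⊗[k] A)
  have hl : l = m + 1 := by
    have h := Φ.toLinearEquiv.finrank_eq
    rw [Module.finrank_baseChange, hA, Module.finrank_matrix, Module.finrank_self, Fintype.card_fin, mul_one] at h
    exact (Nat.mul_self_inj.1 h).symm
  subst hl
  obtain ⟨s⟩ := id hX
  let eΩ : BrSev.Splitting p Ω (m + 1 - 1) := SBAut.ProjIso.splitting Φ hA s
  let σ : K →ₐ[k] Ω := IsScalarTower.toAlgHom k K Ω
  rw [Int.natCast_dvd]
  constructor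
  · rintro ⟨L, hL, hLt⟩
    haveI : ConnectedSpace X := by
      haveI := connected_bc eΩ
      haveI : Surjective (Spec.map (CommRingCat.ofHom (algebraMap k Ω))) :=
        ⟨fun _ => ⟨(⟨⊥, Ideal.isPrime_bot⟩ : PrimeSpectrum Ω), Subsingleton.elim (α := PrimeSpectrum k) _ _⟩⟩
      haveI : Surjective (BrSev.proj p Ω) := MorphismProperty.pullback_fst _ _ ‹_›
      exact (BrSev.proj p Ω).surjective.connectedSpace (BrSev.proj p Ω).continuous
    have h := isIndex_of_sb hn hA p hX eΩ (KZ.QuasiProj.flf_of_invertible hL) (indec_invertible hL) one_pos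
      (isTwPow_trans e eΩ σ hLt)
    obtain ⟨_, _, _⟩ := CSALib.centralSimple_pow k A j.natAbs
    exact (CSALib.isPeriod_iff hd _).1 (CSALib.similar_of_index_one h)
  · intro hdj
    obtain ⟨W, r, hW, hWi, hr, hWt⟩ := exists_indec_twist e eΩ j
    have h := isIndex_of_sb hn hA p hX eΩ hW hWi hr hWt
    obtain ⟨_, _, _⟩ := CSALib.centralSimple_pow k A j.natAbs
    obtain rfl := index_eq_one_of_similar h ((CSALib.isPeriod_iff hd _).2 hdj)
    have hinv := isInvertible_of_twPow eΩ hW hWt
    refine ⟨W, hinv, ?_⟩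
    obtain ⟨a, ⟨φ⟩⟩ := exists_eq_twist e (PicLoc.isInvertible_pullback (BrSev.proj p K) hinv)
    have ha : BrSev.IsTwPow e a 1 W := ⟨φ ≪≫ (coproductUniqueIso fun _ : Fin 1 => e.twist a).symm⟩
    obtain ⟨α⟩ := isTwPow_trans e eΩ σ ha
    obtain ⟨β⟩ := hWt
    let ψ := (coproductUniqueIso fun _ : Fin 1 => eΩ.twist a).symm ≪≫ α.symm ≪≫ β ≪≫
      coproductUniqueIso fun _ : Fin 1 => eΩ.twist j
    rcases Nat.eq_zero_or_pos m with hm | hm
    · obtain ⟨t⟩ := twist_zero_dim (show m + 1 - 1 = 0 by omega) e a j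
      exact ⟨φ ≪≫ t ≪≫ (coproductUniqueIso fun _ : Fin 1 => e.twist j).symm⟩
    · rw [← twist_inj (show 0 < m + 1 - 1 by omega) eΩ ψ]
      exact ha

end Groth.Agent.ASB24
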