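import Groth.Agent.ASB24.Amitsur
import Groth.Agent.H23.PnChart
import Groth.Agent.SeesawX.PnSpec
import Groth.Agent.SeesawX.PnFibre
import Mathlib.RingTheory.Localization.FractionRing
import Mathlib.RingTheory.Polynomial.Basic

/-!
# Function fields of projective spaces and of base changes to a function field
-/

set_option linter.style.haveILetI false

universe u

open CategoryTheory CategoryTheory.Limits AlgebraicGeometry MvPolynomial
open HomogeneousLocalization
attribute [local instance] Curv2.stalkAlgebra

noncomputable section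

namespace Groth.Agent.ASB24.Stable

open Groth.Agent Groth.Agent.H23

variable {k : Type u} [Field k]

/-- The rational function field in `N` variables. -/
abbrev Rat (N : ℕ) (F : Type u) [Field F] : Type u := FractionRing (MvPolynomial (Fin N) F)

/-- Isomorphic domains have isomorphic fraction fields. -/
theorem exists_fracEquiv {R S K L : Type u} [CommRing R] [IsDomain R] [CommRing S] [IsDomain S] [Algebra k R]
    [Algebra k S] [Field K] [Algebra R K] [IsFractionRing R K] [Algebra k K] [IsScalarTower k R K] [Field L]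
    [Algebra S L] [IsFractionRing S L] [Algebra k L] [IsScalarTower k S L] (e : R ≃ₐ[k] S) :
    Nonempty (K ≃ₐ[k] L) :=
  ⟨AlgEquiv.ofRingEquiv (f := IsFractionRing.ringEquivOfRingEquiv e.toRingEquiv) fun r => by
    rw [IsScalarTower.algebraMap_apply k R K, IsFractionRing.ringEquivOfRingEquiv_algebraMap,
      IsScalarTower.algebraMap_apply k S L]
    exact congrArg _ (e.commutes r)⟩

/-- Adjoining one more variable is functorial in the field of rational functions. -/
theorem exists_rat_succ {F G : Type u} [Field F] [Field G] [Algebra k F] [Algebra k G] {M N : ℕ}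
    (φ : Rat M F ≃ₐ[k] Rat N G) : Nonempty (Rat (M + 1) F ≃ₐ[k] Rat (N + 1) G) := by
  have step : ∀ (E : Type u) [Field E] [Algebra k E] (n : ℕ),
      Nonempty (Rat (n + 1) E ≃ₐ[k] FractionRing (Polynomial (Rat n E))) := by
    intro E _ _ n
    let R := MvPolynomial (Fin n) E
    let L := FractionRing R
    let Q := FractionRing (Polynomial L)
    letI : Algebra (Polynomial R) (Polynomial L) := (Polynomial.mapRingHom (algebraMap R L)).toAlgebra
    haveI : IsLocalization ((nonZeroDivisors R).map Polynomial.C) (Polynomial L) :=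
      Polynomial.isLocalization (nonZeroDivisors R) L
    haveI : FaithfulSMul (Polynomial R) Q := (faithfulSMul_iff_algebraMap_injective _ _).2 <| by
      rw [IsScalarTower.algebraMap_eq (Polynomial R) (Polynomial L) Q, RingHom.coe_comp]
      exact (IsFractionRing.injective (Polynomial L) Q).comp
        (Polynomial.map_injective _ (IsFractionRing.injective R L))
    haveI : IsFractionRing (Polynomial R) Q := by
      refine IsFractionRing.of_field _ _ fun z => ?_
      obtain ⟨p, q, hq, rfl⟩ := IsFractionRing.div_surjective (A := Polynomial L) z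
      obtain ⟨⟨p', s, hs⟩, hp⟩ := IsLocalization.surj ((nonZeroDivisors R).map Polynomial.C) p
      obtain ⟨⟨q', t, ht⟩, hq'⟩ := IsLocalization.surj ((nonZeroDivisors R).map Polynomial.C) q
      refine ⟨p' * t, q' * s, ?_⟩
      simp only [IsScalarTower.algebraMap_apply (Polynomial R) (Polynomial L) Q, map_mul, ← hp, ← hq']
      have hne : ∀ a ∈ (nonZeroDivisors R).map (Polynomial.C : R →+* Polynomial R),
          algebraMap (Polynomial L) Q (algebraMap (Polynomial R) (Polynomial L) a) ≠ 0 := fun a ha =>
        fun h => ((IsLocalization.map_units (Polynomial L) ⟨a, ha⟩).map (algebraMap (Polynomial L) Q)).ne_zero h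
      have h1 := hne s hs
      have h2 := hne t ht
      have h3 : algebraMap (Polynomial L) Q q ≠ 0 :=
        IsFractionRing.to_map_ne_zero_of_mem_nonZeroDivisors hq
      rw [div_eq_div_iff h3 (mul_ne_zero (mul_ne_zero h3 h2) h1)]
      ring
    haveI : IsScalarTower k (Polynomial R) Q := IsScalarTower.of_algebraMap_eq fun r => by
      show _ = algebraMap (Polynomial L) Q (Polynomial.map (algebraMap R L) (algebraMap k (Polynomial R) r))
      rw [IsScalarTower.algebraMap_apply k (Polynomial L) Q]
      congr 1
      rw [Polynomial.algebraMap_apply, Polynomial.algebraMap_apply, Polynomial.map_C]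
      exact congrArg _ (IsScalarTower.algebraMap_apply k R L r)
    exact exists_fracEquiv ((MvPolynomial.finSuccEquiv E n).restrictScalars k)
  obtain ⟨a⟩ := step F M
  obtain ⟨b⟩ := step G N
  obtain ⟨c⟩ : Nonempty (FractionRing (Polynomial (Rat M F)) ≃ₐ[k] FractionRing (Polynomial (Rat N G))) :=
    exists_fracEquiv (Polynomial.mapAlgEquiv φ)
  exact ⟨a.trans (c.trans b.symm)⟩

/-- A morphism of `k`-schemes inducing an isomorphism of local rings induces an isomorphism of algebras. -/
theorem exists_stalk_equiv {P W : Scheme.{u}} [P.Over (Spec (CommRingCat.of k))] [W.Over (Spec (CommRingCat.of k))]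
    (q : P ⟶ W) (hq : q ≫ W ↘ Spec (CommRingCat.of k) = P ↘ Spec (CommRingCat.of k)) (x : P)
    [IsIso (q.stalkMap x)] {w : W} (hw : q x = w) :
    Nonempty (W.presheaf.stalk w ≃ₐ[k] P.presheaf.stalk x) := by
  subst hw
  have key : (W ↘ Spec (CommRingCat.of k)).appTop ≫ W.presheaf.germ ⊤ (q x) trivial ≫ q.stalkMap x =
      (P ↘ Spec (CommRingCat.of k)).appTop ≫ P.presheaf.germ ⊤ x trivial := by
    rw [← hq, Scheme.Hom.comp_appTop, Category.assoc]
    exact congrArg _ (Scheme.Hom.germ_stalkMap q ⊤ x trivial)
  exact ⟨AlgEquiv.ofRingEquiv (f := (asIso (q.stalkMap x)).commRingCatIsoToRingEquiv) fun r =>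
    congr($(congrArg ((Scheme.ΓSpecIso (CommRingCat.of k)).inv ≫ ·) key) r)⟩

/-- An affine dense open computes the function field. -/
theorem exists_funField_affine {Z : Scheme.{u}} [IsIntegral Z] [Z.Over (Spec (CommRingCat.of k))] {R : Type u}
    [CommRing R] [IsDomain R] [Algebra k R] (j : Spec (CommRingCat.of R) ⟶ Z) [IsOpenImmersion j]
    (hj : j ≫ Z ↘ Spec (CommRingCat.of k) = Spec.map (CommRingCat.ofHom (algebraMap k R))) :
    Nonempty (Z.functionField ≃ₐ[k] FractionRing R) := by
  let P := Spec (CommRingCat.of R)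
  letI : P.Over (Spec (CommRingCat.of k)) := ⟨Spec.map (CommRingCat.ofHom (algebraMap k R))⟩
  obtain ⟨e⟩ := exists_stalk_equiv (k := k) j hj (genericPoint P) (genericPoint_eq_of_isOpenImmersion j)
  letI : Algebra R P.functionField :=
    ((P.presheaf.germ ⊤ (genericPoint P) trivial).hom.comp (Scheme.ΓSpecIso (CommRingCat.of R)).inv.hom).toAlgebra
  haveI : IsFractionRing R P.functionField := functionField_isFractionRing_of_affine (CommRingCat.of R)
  haveI : IsScalarTower k R P.functionField := IsScalarTower.of_algebraMap_eq fun r => by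
    exact congrArg (P.presheaf.germ ⊤ (genericPoint P) trivial)
      (congr($(Scheme.ΓSpecIso_inv_naturality (CommRingCat.ofHom (algebraMap k R))) r)).symm
  obtain ⟨g⟩ : Nonempty (P.functionField ≃ₐ[k] FractionRing R) := exists_fracEquiv (AlgEquiv.refl : R ≃ₐ[k] R)
  exact ⟨e.trans g⟩

variable (n : ℕ) (F : Type u) [Field F] [Algebra k F]

/-- The function field of projective space over a `k`-field. -/
theorem exists_funField_projSpace [(CohB1.ProjSpace n F).Over (Spec (CommRingCat.of k))] [IsIntegral (CohB1.ProjSpace n F)]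
    (h : (CohB1.ProjSpace n F) ↘ Spec (CommRingCat.of k) =
      CohB1.ProjSpace.toSpec n F ≫ Spec.map (CommRingCat.ofHom (algebraMap k F))) :
    Nonempty ((CohB1.ProjSpace n F).functionField ≃ₐ[k] Rat n F) := by
  let S := MvPolynomial (PnChart.Idx n (0 : Fin (n + 1))) F
  let E := RingEquiv.ofBijective (PnChart.fromChart n F 0)
    ⟨PnChart.fromChart_injective n F 0, PnChart.fromChart_surjective n F 0⟩
  let j : Spec (CommRingCat.of S) ⟶ CohB1.ProjSpace n F :=
    Spec.map (CommRingCat.ofHom E.symm.toRingHom) ≫ ZetaLib.chart n F 0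
  haveI : IsIso (CommRingCat.ofHom E.symm.toRingHom) :=
    (ConcreteCategory.isIso_iff_bijective _).2 E.symm.bijective
  haveI : IsOpenImmersion j := inferInstanceAs (IsOpenImmersion (_ ≫ _))
  have hj : j ≫ (CohB1.ProjSpace n F) ↘ Spec (CommRingCat.of k) = Spec.map (CommRingCat.ofHom (algebraMap k S)) := by
    rw [h, Category.assoc, ← Category.assoc (ZetaLib.chart n F 0), ZetaLib.chart_toSpec,
      ← Spec.map_comp, ← Spec.map_comp]
    congr 1
    refine CommRingCat.hom_ext (RingHom.ext fun c => ?_)
    show E.symm (ZetaLib.base n F 0 (algebraMap k F c)) = _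
    rw [RingEquiv.symm_apply_eq]
    show _ = PnChart.fromChart n F 0 (MvPolynomial.C (algebraMap k F c))
    rw [PnChart.fromChart, MvPolynomial.eval₂Hom_C]
  obtain ⟨a⟩ := exists_funField_affine (k := k) j hj
  let σ : PnChart.Idx n (0 : Fin (n + 1)) ≃ Fin n :=
    Equiv.ulift.trans (finSuccAboveEquiv (0 : Fin (n + 1))).symm
  obtain ⟨b⟩ : Nonempty (FractionRing S ≃ₐ[k] Rat n F) := exists_fracEquiv ((MvPolynomial.renameEquiv F σ).restrictScalars k)
  exact ⟨a.trans b⟩

/-- Projective space is split in every field. -/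
theorem exists_splitting_projSpace : Nonempty (BrSev.Splitting (CohB1.ProjSpace.toSpec n k) F n) := by
  let y := Spec.map (CommRingCat.ofHom (algebraMap k F))
  obtain ⟨a, ha, -⟩ := SeesawX.PnSpec.exists_iso n k
  obtain ⟨b, hb, -⟩ := SeesawX.PnSpec.exists_iso n F
  have h := (SeesawX.PnFibre.isPullback_ψ (n := n) y).of_iso (Iso.refl _) a (Iso.refl _) (Iso.refl _)
    (fst' := H28.PnBC.ψ (n := n) y ≫ a.hom) (snd' := CohB1.ProjSpaceOver.toBase n (Spec (CommRingCat.of F)))
    (f' := CohB1.ProjSpace.toSpec n k) (g' := y) (by simp) (by simp) (by simp [ha]) (by simp)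
  exact ⟨⟨h.isoPullback.symm ≪≫ b, by rw [Iso.trans_hom, Category.assoc, hb]; exact h.isoPullback_inv_snd⟩⟩

end Groth.Agent.ASB24.Stable

end
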