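import Groth.Agent.AVTate.VeryAmple
import Groth.Agent.CurveVA.Converse
import Groth.Agent.ASB24.SBPeriod
import Groth.Agent.ASB24.StableField
import Groth.Agent.Synt29.PnBott
import Groth.Agent.CurveEmbed.Line
import Groth.Agent.AlgSpLib.CartierDim

/-!
# Embedding a form of projective space by a descended twist
-/

noncomputable section

set_option linter.style.haveILetI false
set_option linter.unusedSectionVars false
set_option backward.isDefEq.respectTransparency false
set_option backward.isDefEq.respectTransparency.types false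
set_option maxHeartbeats 800000

universe u

open CategoryTheory CategoryTheory.Limits AlgebraicGeometry TopologicalSpace Opposite

namespace Groth.Agent.ASB24.Emb

open Groth.Agent Groth.Agent.InvX Groth.Agent.CurveVA

section Sep

variable {X : Scheme.{u}}

/-- Sections separating points and tangent directions at closed points. -/
structure Sep (L : X.Modules) : Prop where
  gg : ∀ {U : X.Opens} {e : Γ(L, U)} (he : IsFrame e) {a : X} (ha : a ∈ U), IsClosed ({a} : Set X) →
    ∃ z : Γ(L, ⊤), coord he ha (L.presheaf.germ ⊤ a trivial z) ∉ IsLocalRing.maximalIdeal (X.presheaf.stalk a)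
  sep : ∀ {U : X.Opens} {e : Γ(L, U)} (he : IsFrame e) {V : X.Opens} {e' : Γ(L, V)} (he' : IsFrame e') {a b : X}
    (ha : a ∈ U) (hb : b ∈ V), IsClosed ({a} : Set X) → IsClosed ({b} : Set X) → b ≠ a →
    ∃ z : Γ(L, ⊤), coord he ha (L.presheaf.germ ⊤ a trivial z) ∈ IsLocalRing.maximalIdeal (X.presheaf.stalk a) ∧
      coord he' hb (L.presheaf.germ ⊤ b trivial z) ∉ IsLocalRing.maximalIdeal (X.presheaf.stalk b)
  tan : ∀ {U : X.Opens} {e : Γ(L, U)} (he : IsFrame e) {a : X} (ha : a ∈ U), IsClosed ({a} : Set X) →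
    ∀ N : Ideal (X.presheaf.stalk a), ¬ IsLocalRing.maximalIdeal (X.presheaf.stalk a) ≤ N →
    ∃ z : Γ(L, ⊤), coord he ha (L.presheaf.germ ⊤ a trivial z) ∈ IsLocalRing.maximalIdeal (X.presheaf.stalk a) ∧
      coord he ha (L.presheaf.germ ⊤ a trivial z) ∉ N

theorem coord_iso {L M : X.Modules} (φ : L ≅ M) {U : X.Opens} {f : Γ(M, U)} (hf : IsFrame f) {x : X} (hx : x ∈ U)
    (z : Γ(L, ⊤)) : coord hf hx (M.presheaf.germ ⊤ x trivial (φ.hom.app ⊤ z)) =
      coord (IsFrame.map_iso φ.symm hf) hx (L.presheaf.germ ⊤ x trivial z) := by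
  obtain ⟨c, hc⟩ := (IsFrame.map_iso φ.symm hf).exists_coord le_rfl (AModX.res L (le_top : U ≤ ⊤) z)
  rw [AModX.res_self] at hc
  rw [← InvX.germ_res' (le_top : U ≤ ⊤) hx z, ← InvX.germ_res' (le_top : U ≤ ⊤) hx (φ.hom.app ⊤ z), ← AModX.app_res, hc,
    Scheme.Modules.Hom.app_smul, show φ.hom.app U (φ.symm.hom.app U f) = f from congr($(φ.inv_hom_id).app U f),
    QCoh.germ_smul', QCoh.germ_smul', coord_smul_germ, coord_smul_germ]

theorem Sep.of_iso {L M : X.Modules} (h : Sep L) (φ : L ≅ M) : Sep M where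
  gg {U} {e} he {a} ha hac := by
    obtain ⟨z, hz⟩ := h.gg (IsFrame.map_iso φ.symm he) ha hac
    exact ⟨φ.hom.app ⊤ z, by rwa [coord_iso]⟩
  sep {U} {e} he {V} {e'} he' {a b} ha hb hac hbc hne := by
    obtain ⟨z, h1, h2⟩ := h.sep (IsFrame.map_iso φ.symm he) (IsFrame.map_iso φ.symm he') ha hb hac hbc hne
    exact ⟨φ.hom.app ⊤ z, by rwa [coord_iso], by rwa [coord_iso]⟩
  tan {U} {e} he {a} ha hac N hN := by
    obtain ⟨z, h1, h2⟩ := h.tan (IsFrame.map_iso φ.symm he) ha hac N hN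
    exact ⟨φ.hom.app ⊤ z, by rwa [coord_iso], by rwa [coord_iso]⟩

theorem coord_tmul {L M : X.Modules} {U : X.Opens} {f : Γ(L, U)} (hf : IsFrame f) {g : Γ(M, U)} (hg : IsFrame g)
    {x : X} (hx : x ∈ U) (s : Γ(L, ⊤)) (t : Γ(M, ⊤)) :
    coord (isFrame_tmul hf hg) hx ((CohB1.tensorMod L M).presheaf.germ ⊤ x trivial (tmul s t)) =
      coord hf hx (L.presheaf.germ ⊤ x trivial s) * coord hg hx (M.presheaf.germ ⊤ x trivial t) := by
  obtain ⟨c, hc⟩ := hf.exists_coord le_rfl (AModX.res L (le_top : U ≤ ⊤) s)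
  obtain ⟨d, hd⟩ := hg.exists_coord le_rfl (AModX.res M (le_top : U ≤ ⊤) t)
  rw [AModX.res_self] at hc hd
  rw [← InvX.germ_res' (le_top : U ≤ ⊤) hx s, ← InvX.germ_res' (le_top : U ≤ ⊤) hx t,
    ← InvX.germ_res' (le_top : U ≤ ⊤) hx (tmul s t), InvX.res_tmul, hc, hd, tmul_smul_left, tmul_smul_right, smul_smul,
    QCoh.germ_smul', QCoh.germ_smul', QCoh.germ_smul', coord_smul_germ, coord_smul_germ, coord_smul_germ, map_mul]

/-- A product of separating modules separates. -/
theorem Sep.tensor {L M : X.Modules} (hL : Sep L) (hM : Sep M) (iL : PicF.IsInvertible L) (iM : PicF.IsInvertible M) :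
    Sep (CohB1.tensorMod L M) where
  gg {U} {e} he {a} ha hac := by
    obtain ⟨W, haW, f, g, hf, hg⟩ := exists_frame₂ iL iM a
    obtain ⟨s, hs⟩ := hL.gg hf haW hac
    obtain ⟨t, ht⟩ := hM.gg hg haW hac
    refine ⟨tmul s t, fun h => ?_⟩
    have h1 := coord_mem_of_frame he (isFrame_tmul hf hg) ha haW h
    rw [coord_tmul hf hg] at h1
    exact ((IsLocalRing.maximalIdeal.isMaximal _).isPrime.mem_or_mem h1).elim hs ht
  sep {U} {e} he {V} {e'} he' {a b} ha hb hac hbc hne := by
    obtain ⟨W, haW, f, g, hf, hg⟩ := exists_frame₂ iL iM a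
    obtain ⟨W', hbW, f', g', hf', hg'⟩ := exists_frame₂ iL iM b
    obtain ⟨s, hsa, hsb⟩ := hL.sep hf hf' haW hbW hac hbc hne
    obtain ⟨t, ht⟩ := hM.gg hg' hbW hbc
    refine ⟨tmul s t, coord_mem_of_frame (isFrame_tmul hf hg) he haW ha ?_, fun h => ?_⟩
    · rw [coord_tmul hf hg]
      exact Ideal.mul_mem_right _ _ hsa
    · have h1 := coord_mem_of_frame he' (isFrame_tmul hf' hg') hb hbW h
      rw [coord_tmul hf' hg'] at h1
      exact ((IsLocalRing.maximalIdeal.isMaximal _).isPrime.mem_or_mem h1).elim hsb ht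
  tan {U} {e} he {a} ha hac N hN := by
    obtain ⟨W, haW, f, g, hf, hg⟩ := exists_frame₂ iL iM a
    obtain ⟨s, hsa, hsN⟩ := hL.tan hf haW hac N hN
    obtain ⟨t, ht⟩ := hM.gg hg haW hac
    refine ⟨tmul s t, coord_mem_of_frame (isFrame_tmul hf hg) he haW ha ?_, fun h => hsN ?_⟩
    · rw [coord_tmul hf hg]
      exact Ideal.mul_mem_right _ _ hsa
    · have h1 := coord_mem_of_frame he (isFrame_tmul hf hg) ha haW h
      rw [coord_tmul hf hg] at h1
      exact (Ideal.mul_unit_mem_iff_mem _ (not_not.1 fun hu => ht ((IsLocalRing.mem_maximalIdeal _).2 hu))).1 h1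

end Sep

variable {k : Type u} [Field k] {X : Scheme.{u}} {p : X ⟶ Spec (CommRingCat.of k)} {n : ℕ}

/-- Splittings extend to larger fields. -/
theorem exists_splitting_extend {K : Type u} [Field K] [Algebra k K] (e : BrSev.Splitting p K n) {Ω : Type u} [Field Ω]
    [Algebra k Ω] (σ : K →ₐ[k] Ω) : Nonempty (BrSev.Splitting p Ω n) := by
  letI : Algebra K Ω := (σ : K →+* Ω).toAlgebra
  obtain ⟨t⟩ := Stable.exists_splitting_projSpace (k := K) n Ω
  have h : IsPullback (qe p Ω σ ≫ e.iso.hom) (BrSev.bcTo p Ω) (CohB1.ProjSpace.toSpec n K)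
      (Spec.map (CommRingCat.ofHom (algebraMap K Ω))) :=
    (isPullback_qe p Ω σ).of_iso (Iso.refl _) e.iso (Iso.refl _) (Iso.refl _) (by simp) (by simp)
      (by rw [Iso.refl_hom, Category.comp_id]; exact e.comm.symm) (by simp; rfl)
  refine ⟨⟨h.isoPullback ≪≫ t.iso, ?_⟩⟩
  rw [Iso.trans_hom, Category.assoc, t.comm]
  exact h.isoPullback_hom_snd

/-- Twists separate over an algebraically closed field. -/
theorem sep_twist {Ω : Type u} [Field Ω] [Algebra k Ω] [IsAlgClosed Ω] (e : BrSev.Splitting p Ω n) :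
    ∀ a : ℕ, Sep (e.twist ((a + 1 : ℕ) : ℤ)) := by
  letI : (BrSev.bc p Ω).Over (Spec (CommRingCat.of Ω)) := ⟨BrSev.bcTo p Ω⟩
  haveI := H23.PnChart.isIntegral_projSpace n Ω
  haveI : IsIntegral (BrSev.bc p Ω) := IsIntegral.of_isIso e.iso.inv
  haveI : IsProper ((BrSev.bc p Ω) ↘ Spec (CommRingCat.of Ω)) := by
    haveI : IsProper (CohB1.ProjSpace.toSpec n Ω) := PnCoh.Chow.isProper_toSpec n _
    show IsProper (BrSev.bcTo p Ω)
    rw [← e.comm]
    infer_instance
  have G := CurveVA.gen_of_isClosedImmersion Ω e.iso.hom e.comm (L := e.twist 1) (Iso.refl _)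
  have h1 : Sep (e.twist 1) :=
    ⟨fun he _ ha _ => G.exists_not_mem he ha, fun he _ _ he' _ _ ha hb hac hbc hne => G.exists_sep he he' ha hb hac hbc hne,
      fun he _ ha hac N hN => G.exists_tan he ha hac N hN⟩
  intro a
  induction a with
  | zero => exact h1
  | succ a ih =>
    obtain ⟨t⟩ := twist_tensor e ((a + 1 : ℕ) : ℤ) 1
    rw [show ((a + 1 + 1 : ℕ) : ℤ) = ((a + 1 : ℕ) : ℤ) + 1 by push_cast; rfl]
    exact (ih.tensor h1 (isInvertible_twist e _) (isInvertible_twist e _)).of_iso t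

/-- The dimension of the sections of a twist. -/
theorem finrank_twist {Ω : Type u} [Field Ω] [Algebra k Ω] (e : BrSev.Splitting p Ω n)
    [(BrSev.bc p Ω).Over (Spec (CommRingCat.of Ω))] (hΩ : BrSev.bc p Ω ↘ Spec (CommRingCat.of Ω) = BrSev.bcTo p Ω) (d : ℕ) :
    Module.finrank Ω (Coh.HH (BrSev.bc p Ω) (e.twist (d : ℤ)) 0) = (n + d).choose d := by
  haveI : IsProper (CohB1.ProjSpace.toSpec n Ω) := PnCoh.Chow.isProper_toSpec n _
  letI : (CohB1.ProjSpace n Ω).Over (Spec (CommRingCat.of Ω)) := ⟨CohB1.ProjSpace.toSpec n Ω⟩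
  have hpb : IsPullback e.iso.hom (BrSev.bc p Ω ↘ Spec (CommRingCat.of Ω))
      ((CohB1.ProjSpace n Ω) ↘ Spec (CommRingCat.of Ω)) (Spec.map (CommRingCat.ofHom (algebraMap Ω Ω))) := by
    have h1 : CommRingCat.ofHom (algebraMap Ω Ω) = 𝟙 (CommRingCat.of Ω) := rfl
    haveI : IsIso (Spec.map (CommRingCat.ofHom (algebraMap Ω Ω))) := by rw [h1]; infer_instance
    refine IsPullback.of_horiz_isIso ⟨?_⟩
    rw [h1, Spec.map_id, Category.comp_id, hΩ]
    exact e.comm
  have hN : PicF.IsInvertible (Twist.twistProjSpace n Ω (d : ℤ)) :=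
    PnCoh.Finite.isInvertible_twist (fun j : ULift.{u} (Fin (n + 1)) => MvPolynomial.X j.down)
      (fun j => ProjPt.X_mem j.down) (by
        refine top_le_iff.1 ((AmpleEmbed.iSup_basicOpen_X n Ω).ge.trans (iSup_le fun j => ?_))
        exact le_iSup_of_le (ULift.up j) le_rfl) (d : ℤ)
  haveI : CompactSpace ↥(CohB1.ProjSpace n Ω) := QuasiCompact.compactSpace_of_compactSpace (CohB1.ProjSpace.toSpec n Ω)
  haveI := quasiSeparatedSpace_of_quasiSeparated (CohB1.ProjSpace.toSpec n Ω)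
  refine (CurveBC.finrank_hh Ω Ω e.iso.hom hpb _ (ProjUPX.isQCoh_of_isInvertible hN) 0).trans ?_
  exact (Synt29.PnBott.h0_line n Ω d).2

/-- A descended positive twist gives an embedding by its sections. -/
theorem exists_embedding {K : Type u} [Field K] [Algebra k K] [Algebra.IsAlgebraic k K] (e : BrSev.Splitting p K n)
    {L : X.Modules} (hL : PicF.IsInvertible L) {d : ℕ} (hd : 0 < d) (hLt : BrSev.IsTwPow e (d : ℤ) 1 L) :
    ∃ (N : ℕ) (ρ : X ⟶ CohB1.ProjSpace N k), N + 1 = (n + d).choose d ∧ IsClosedImmersion ρ ∧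
      ρ ≫ CohB1.ProjSpace.toSpec N k = p ∧
      Nonempty ((Scheme.Modules.pullback ρ).obj (Twist.twistProjSpace N k 1) ≅ L) := by
  let Ω := AlgebraicClosure k
  obtain ⟨a, rfl⟩ : ∃ a, d = a + 1 := ⟨d - 1, by omega⟩
  let σ : K →ₐ[k] Ω := IsAlgClosed.lift
  obtain ⟨eΩ⟩ := exists_splitting_extend e σ
  obtain ⟨α⟩ := isTwPow_trans e eΩ σ hLt
  let γ := α ≪≫ coproductUniqueIso fun _ : Fin 1 => eΩ.twist ((a + 1 : ℕ) : ℤ)
  haveI := isProper_of_splitting e
  letI : X.Over (Spec (CommRingCat.of k)) := ⟨p⟩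
  haveI : IsProper (X ↘ Spec (CommRingCat.of k)) := ‹IsProper p›
  letI : (BrSev.bc p Ω).Over (Spec (CommRingCat.of Ω)) := ⟨BrSev.bcTo p Ω⟩
  haveI := H23.PnChart.isIntegral_projSpace n Ω
  haveI : IsIntegral (BrSev.bc p Ω) := IsIntegral.of_isIso eΩ.iso.inv
  haveI : IsProper ((BrSev.bc p Ω) ↘ Spec (CommRingCat.of Ω)) :=
    inferInstanceAs (IsProper (pullback.snd p (Spec.map (CommRingCat.ofHom (algebraMap k Ω)))))
  haveI : CompactSpace X := QuasiCompact.compactSpace_of_compactSpace p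
  haveI := quasiSeparatedSpace_of_quasiSeparated p
  let π := BrSev.proj p Ω
  have hpb : IsPullback π ((BrSev.bc p Ω) ↘ Spec (CommRingCat.of Ω)) (X ↘ Spec (CommRingCat.of k))
      (Spec.map (CommRingCat.ofHom (algebraMap k Ω))) := IsPullback.of_hasPullback _ _
  have h0 : Module.finrank k (Coh.HH X (Coh.structureModule X) 0) = 1 := by
    rw [← CurveBC.finrank_hh_unit k Ω π hpb 0]
    obtain ⟨z⟩ := twist_zero eΩ
    rw [← (CurveCohLib.hhEquiv (k := Ω) z 0).finrank_eq, show (0 : ℤ) = ((0 : ℕ) : ℤ) from rfl, finrank_twist eΩ rfl 0]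
    simp
  have hS := (sep_twist eΩ a).of_iso γ.symm
  obtain ⟨N, ρ, hN, hcl, hρ, hτ⟩ := AVTate.exists_embedding_of_bar_rank k X h0 hL π hpb
    (fun he _ ha hac => hS.gg he ha hac) (fun he _ _ ha hb hac hbc hne => hS.sep he he ha hb hac hbc hne)
    (fun he _ ha hac N _ hN => hS.tan he ha hac N hN)
  refine ⟨N, ρ, ?_, hcl, hρ, hτ⟩
  rw [← hN, ← CurveBC.finrank_hh k Ω π hpb L (ProjUPX.isQCoh_of_isInvertible hL) 0,
    (CurveCohLib.hhEquiv (k := Ω) γ 0).finrank_eq, finrank_twist eΩ rfl (a + 1)]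

/-- A closed immersion of a form of projective space into projective space of the same dimension is an isomorphism. -/
theorem isIso_of_closedImmersion {K : Type u} [Field K] [Algebra k K] (e : BrSev.Splitting p K n)
    (ρ : X ⟶ CohB1.ProjSpace n k) [IsClosedImmersion ρ] (hρ : ρ ≫ CohB1.ProjSpace.toSpec n k = p) : IsIso ρ := by
  obtain ⟨t⟩ := Stable.exists_splitting_projSpace (k := k) n K
  let φ := Spec.map (CommRingCat.ofHom (algebraMap k K))
  let g : BrSev.bc p K ⟶ BrSev.bc (CohB1.ProjSpace.toSpec n k) K :=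
    pullback.map p φ (CohB1.ProjSpace.toSpec n k) φ ρ (𝟙 _) (𝟙 _) (by simp [hρ]) (by simp)
  have hsq : IsPullback g (pullback.fst p φ) (pullback.fst (CohB1.ProjSpace.toSpec n k) φ) ρ := by
    refine IsPullback.of_right ?_ (pullback.lift_fst _ _ _) (IsPullback.of_hasPullback _ φ).flip
    have h := (IsPullback.of_hasPullback p φ).flip
    simpa [g, hρ] using h
  haveI : IsClosedImmersion g := MorphismProperty.of_isPullback hsq.flip ‹IsClosedImmersion ρ›
  let i : CohB1.ProjSpace n K ⟶ CohB1.ProjSpace n K := e.iso.inv ≫ g ≫ t.iso.hom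
  haveI : IsIntegral (CohB1.ProjSpace n K) := H23.PnChart.isIntegral_projSpace n K
  haveI : Surjective i := by
    by_contra hns
    have hdim : topologicalKrullDim ↥(CohB1.ProjSpace n K) = (n : WithBot ℕ∞) := S10829.result K n
    exact hns (surjective_of_closed_self i hdim)
  haveI : IsIso i := isIso_of_isClosedImmersion_of_surjective i
  haveI : IsIso g := by
    rw [show g = e.iso.hom ≫ i ≫ t.iso.inv by simp [i]]
    infer_instance
  haveI : MorphismProperty.DescendsAlong (MorphismProperty.isomorphisms Scheme.{u})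
      (@Surjective ⊓ @Flat ⊓ @QuasiCompact : MorphismProperty Scheme.{u}) := inferInstance
  have hQ : (@Surjective ⊓ @Flat ⊓ @QuasiCompact : MorphismProperty Scheme.{u})
      (pullback.fst (CohB1.ProjSpace.toSpec n k) φ) :=
    ⟨⟨MorphismProperty.pullback_fst _ _ (GrpSchLib.surjective_spec_map_field (algebraMap k K)),
      MorphismProperty.pullback_fst _ _ (GrpSchLib.flat_spec_map_field (algebraMap k K))⟩,
      MorphismProperty.pullback_fst _ _ inferInstance⟩
  exact MorphismProperty.of_isPullback_of_descendsAlong (P := MorphismProperty.isomorphisms Scheme.{u}) hsq hQ ‹IsIso g›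
where
  surjective_of_closed_self {P : Scheme.{u}} [IsIntegral P] (i : P ⟶ P) [IsClosedImmersion i] {m : ℕ}
      (hdim : topologicalKrullDim P = (m : WithBot ℕ∞)) : Surjective i := by
    by_cases hη : genericPoint P ∈ Set.range i
    · exact ⟨fun y => (show y ∈ Set.range i from
        (genericPoint_specializes y).mem_closed i.isClosedEmbedding.isClosed_range hη)⟩
    · exfalso
      have hlt := AlgSpLib.CartierDim.topologicalKrullDim_lt i.isClosedEmbedding.isClosed_range
        (fun z _ => ⟨genericPoint P, hη, genericPoint_specializes z⟩) (by rw [hdim, ← WithBot.coe_natCast]; exact fun h => ENat.natCast_ne_top m (WithBot.coe_eq_coe.1 h))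
      have he : IsHomeomorph (Set.rangeFactorization i) :=
        (i.isClosedEmbedding.toIsEmbedding.toHomeomorph).isHomeomorph
      rw [← IsHomeomorph.topologicalKrullDim_eq _ he] at hlt
      exact lt_irrefl _ hlt

/-- A descended hyperplane class splits the form. -/
theorem exists_splitting_self {K : Type u} [Field K] [Algebra k K] [Algebra.IsAlgebraic k K] (e : BrSev.Splitting p K n)
    {L : X.Modules} (hL : PicF.IsInvertible L) (hLt : BrSev.IsTwPow e 1 1 L) :
    Nonempty (BrSev.Splitting p k n) := by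
  obtain ⟨N, ρ, hN, hcl, hρ, -⟩ := exists_embedding e hL (d := 1) one_pos hLt
  rw [Nat.choose_one_right, Nat.succ.injEq] at hN
  subst hN
  haveI := isIso_of_closedImmersion e ρ hρ
  haveI : IsIso (Spec.map (CommRingCat.ofHom (algebraMap k k))) := by
    rw [show CommRingCat.ofHom (algebraMap k k) = 𝟙 (CommRingCat.of k) from rfl]; infer_instance
  refine ⟨⟨asIso (pullback.fst p _) ≪≫ asIso ρ, ?_⟩⟩
  rw [Iso.trans_hom, asIso_hom, asIso_hom, Category.assoc, hρ, pullback.condition]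
  exact (congrArg (_ ≫ ·) (show Spec.map (CommRingCat.ofHom (algebraMap k k)) = 𝟙 _ from Spec.map_id _)).trans (Category.comp_id _)

end Groth.Agent.ASB24.Emb

end
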