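import Groth.Agent.ASB24.EndSimple
import Groth.Agent.ASB24.CyclicPic
import Groth.Agent.CSALib.BrauerRel
import Groth.Agent.SheafHomX.Smul

/-!
# Endomorphism algebras of isotypical modules
-/

set_option linter.style.haveILetI false
set_option backward.isDefEq.respectTransparency false
set_option backward.isDefEq.respectTransparency.types false

universe u v w

open CategoryTheory CategoryTheory.Limits AlgebraicGeometry W4c1astiltbs12 TensorProduct

namespace Groth.Agent.ASB24

open Groth.Agent

attribute [local instance] Abelian.hasFiniteBiproducts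

section Cat

variable {R : Type u} [CommRing R] {C : Type w} [Category.{v} C] [Abelian C] [Linear R C]

/-- Endomorphisms of a power as matrices, linearly. -/
noncomputable def endPowAlg (L : C) (r : ℕ) :
    End (⨁ fun _ : Fin r => L) ≃ₐ[R] Matrix (Fin r) (Fin r) (End L) :=
  AlgEquiv.ofRingEquiv (f := endPowEquiv L r) fun c => by
    refine Matrix.ext fun i j => ?_
    rw [Matrix.algebraMap_matrix_apply]
    show biproduct.ι (fun _ : Fin r => L) j ≫ (c • 𝟙 _) ≫ biproduct.π (fun _ : Fin r => L) i = _
    rw [Linear.smul_comp, Category.id_comp, Linear.comp_smul]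
    by_cases h : i = j
    · subst h; rw [if_pos rfl, biproduct.ι_π_self]; rfl
    · rw [if_neg h, biproduct.ι_π_ne _ (Ne.symm h), smul_zero]

/-- Conjugation by an isomorphism, linearly. -/
noncomputable def endConjAlg {A B : C} (e : A ≅ B) : End A ≃ₐ[R] End B :=
  AlgEquiv.ofRingEquiv (f := endConj e) fun c => by
    show e.inv ≫ (c • 𝟙 A) ≫ e.hom = c • 𝟙 B
    rw [Linear.smul_comp, Category.id_comp, Linear.comp_smul, e.inv_hom_id]

end Cat

/-- Endomorphisms of a coproduct power. -/
noncomputable def endPowAlg' {R : Type u} [CommRing R] {Y : Scheme.{u}} [Y.Over (Spec (CommRingCat.of R))]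
    (L : Y.Modules) (r : ℕ) : End (pow L r) ≃ₐ[R] Matrix (Fin r) (Fin r) (End L) :=
  (endConjAlg (biproduct.isoCoproduct fun _ : Fin r => L).symm).trans (endPowAlg L r)

section Ten

variable {k : Type u} [Field k] {X : Scheme.{u}} [X.Over (Spec (CommRingCat.of k))]

/-- Tensoring endomorphisms on the left. -/
noncomputable def tenLAlg (W W' : X.Modules) : End W →ₐ[k] End (CohB1.tensorMod W W') where
  toFun f := (SheafHomX.ten W').map f
  map_one' := (SheafHomX.ten W').map_id W
  map_mul' f g := (SheafHomX.ten W').map_comp (g : W ⟶ W) (f : W ⟶ W)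
  map_zero' := by
    show (DCoh.tensorBi.map (0 : W ⟶ W)).app W' = 0
    rw [Functor.map_zero]; rfl
  map_add' f g := by
    show (DCoh.tensorBi.map ((f : W ⟶ W) + g)).app W' = _
    rw [Functor.map_add]
    rfl
  commutes' c := by
    show (SheafHomX.ten W').map (c • 𝟙 W) = c • 𝟙 _
    rw [KLin.smul_id, KLin.smul_id, SheafHomX.ten_map_smulMod]

/-- Tensoring endomorphisms on the right. -/
noncomputable def tenRAlg (W W' : X.Modules) : End W' →ₐ[k] End (CohB1.tensorMod W W') where
  toFun f := ((DCoh.tensorBi (X := X)).obj W).map f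
  map_one' := ((DCoh.tensorBi (X := X)).obj W).map_id W'
  map_mul' f g := ((DCoh.tensorBi (X := X)).obj W).map_comp (g : W' ⟶ W') (f : W' ⟶ W')
  map_zero' := ((DCoh.tensorBi (X := X)).obj W).map_zero _ _
  map_add' f g := ((DCoh.tensorBi (X := X)).obj W).map_add
  commutes' c := by
    show ((DCoh.tensorBi (X := X)).obj W).map (c • 𝟙 W') = c • 𝟙 ((DCoh.tensorBi.obj W).obj W')
    rw [KLin.smul_id, KLin.smul_id]
    refine SheafHomX.tensor_hom_ext fun U s t => ?_
    refine (KFlatLib.tmSh_naturality_right W (Formal.smulMod k W' c) (U := U) s t).trans ?_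
    rw [FFun.smulMod_app]
    exact (congrArg (fun z => QCoh.tmS W W' s z) (FFun.smulMod_app W' c U t)).trans (QCoh.tmS_smul_right W W' _ s t)

/-- The tensor product of endomorphism algebras acts on the tensor product. -/
noncomputable def tenEnd (W W' : X.Modules) : End W ⊗[k] End W' →ₐ[k] End (CohB1.tensorMod W W') :=
  Algebra.TensorProduct.lift (tenLAlg W W') (tenRAlg W W') fun f g => by
    show ((DCoh.tensorBi (X := X)).obj W).map (g : W' ⟶ W') ≫ (DCoh.tensorBi.map (f : W ⟶ W)).app W' =
      (DCoh.tensorBi.map (f : W ⟶ W)).app W' ≫ ((DCoh.tensorBi (X := X)).obj W).map (g : W' ⟶ W')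
    exact (DCoh.tensorBi.map (f : W ⟶ W)).naturality (g : W' ⟶ W')

end Ten

section Bc

variable {k : Type u} [Field k] {X : Scheme.{u}} [X.Over (Spec (CommRingCat.of k))]
  [IsProper (X ↘ Spec (CommRingCat.of k))] {K : Type u} [Field K] [Algebra k K] {X' : Scheme.{u}}
  [X'.Over (Spec (CommRingCat.of K))] {q : X' ⟶ X}
  (hq : IsPullback q (X' ↘ Spec (CommRingCat.of K)) (X ↘ Spec (CommRingCat.of k))
    (Spec.map (CommRingCat.ofHom (algebraMap k K))))

/-- The comparison, linear over the extension. -/
noncomputable def betaLin {F G : X.Modules} (hF : Coh.IsCoh F) (hG : Coh.IsQCoh G) :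
    K ⊗[k] (F ⟶ G) ≃ₗ[K] ((Scheme.Modules.pullback q).obj F ⟶ (Scheme.Modules.pullback q).obj G) :=
  haveI : CompactSpace X := QuasiCompact.compactSpace_of_compactSpace (X ↘ Spec (CommRingCat.of k))
  LinearEquiv.ofBijective
    { toFun := beta hq F G
      map_add' := map_add _
      map_smul' := fun c z => by
        induction z with
        | zero => simp
        | add a b ha hb => rw [smul_add, map_add, map_add, ha, hb, smul_add]
        | tmul d φ =>
          rw [smul_tmul', beta_tmul, beta_tmul, smul_eq_mul, mul_smul]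
          rfl }
    (beta_bijective hq hF hG)

theorem betaLin_tmul {F G : X.Modules} (hF : Coh.IsCoh F) (hG : Coh.IsQCoh G) (c : K) (φ : F ⟶ G) :
    betaLin hq hF hG (c ⊗ₜ φ) = c • (Scheme.Modules.pullback q).map φ := rfl

end Bc

section Inv

variable {K : Type u} [Field K] [IsAlgClosed K] {Y : Scheme.{u}} [Y.Over (Spec (CommRingCat.of K))]
  [IsIntegral Y] [IsProper (Y ↘ Spec (CommRingCat.of K))]

/-- Endomorphisms of an invertible module are scalars. -/
theorem bijective_algebraMap_end {L : Y.Modules} (hL : PicF.IsInvertible L) :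
    Function.Bijective (algebraMap K (End L)) := by
  have h := InvEnd.exists_scalar (k := K) hL
  convert h using 1
  funext c
  show c • 𝟙 L = CurveEnd.smulMod L (Coh.toGlobal (Y ↘ Spec (CommRingCat.of K)) c)
  refine Scheme.Modules.hom_ext _ _ fun W => ?_
  ext m
  rw [KLin.smul_app_apply, CurveEnd.smulMod_app]
  rfl

/-- Endomorphisms of a power of an invertible module. -/
noncomputable def endPowInv {L : Y.Modules} (hL : PicF.IsInvertible L) (r : ℕ) :
    End (pow L r) ≃ₐ[K] Matrix (Fin r) (Fin r) K :=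
  (endPowAlg' L r).trans (AlgEquiv.ofBijective (Algebra.ofId K (End L)) (bijective_algebraMap_end hL)).symm.mapMatrix

end Inv

section Iso

variable {k : Type u} [Field k] {X : Scheme.{u}} [X.Over (Spec (CommRingCat.of k))]
  [IsProper (X ↘ Spec (CommRingCat.of k))] (K : Type u) [Field K] [Algebra k K] [IsAlgClosed K]
  [IsIntegral (W4bk4gw11416.baseChange (X ↘ Spec (CommRingCat.of k)) K)]
  {W : X.Modules} (hW : FlatMod.IsFinLocFree W)
  {L : (W4bk4gw11416.baseChange (X ↘ Spec (CommRingCat.of k)) K).Modules} (hL : PicF.IsInvertible L)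
  {r : ℕ} (e : bcMod (X ↘ Spec (CommRingCat.of k)) K W ≅ pow L r)

include hW hL e

/-- The endomorphism algebra of an isotypical module is finite of square dimension with centre the base field. -/
theorem end_finrank : Module.Finite k (End W) ∧ Module.finrank k (End W) = r * r ∧
    (0 < r → Algebra.IsCentral k (End W) ∧ IsSimpleRing (End W)) := by
  let p := X ↘ Spec (CommRingCat.of k)
  letI := overBC p K
  haveI : IsProper (W4bk4gw11416.baseChange p K ↘ Spec (CommRingCat.of K)) :=
    MorphismProperty.pullback_snd p (Spec.map (CommRingCat.ofHom (algebraMap k K))) ‹_›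
  have hc := H28.PushLocFree.isCoh_of_isFinLocFree hW
  haveI : Module.Finite k (End W) := finite_hom hc hc
  let Φ : End (bcMod p K W) ≃ₐ[K] Matrix (Fin r) (Fin r) K := (endConjAlg e).trans (endPowInv hL r)
  let β : K ⊗[k] (W ⟶ W) ≃ₗ[K] (bcMod p K W ⟶ bcMod p K W) := betaLin
    (show IsPullback (proj p K) (W4bk4gw11416.baseChange p K ↘ Spec (CommRingCat.of K)) (X ↘ Spec (CommRingCat.of k))
      (Spec.map (CommRingCat.ofHom (algebraMap k K))) from isPullback_proj p K) hc hc.1
  refine ⟨inferInstance, ?_, fun hr => ⟨⟨fun z hz => ?_⟩, ?_⟩⟩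
  · have h := (β.trans Φ.toLinearEquiv).finrank_eq
    rw [Module.finrank_baseChange, Module.finrank_matrix, Module.finrank_self, Fintype.card_fin, mul_one] at h
    exact h
  · rw [Subalgebra.mem_center_iff] at hz
    let F := Scheme.Modules.pullback (proj p K)
    let zK : End (bcMod p K W) := F.map (z : W ⟶ W)
    have hcen : ∀ a : End (bcMod p K W), a * zK = zK * a := by
      intro a
      obtain ⟨t, rfl⟩ := β.surjective a
      induction t with
      | zero => rw [map_zero]; exact (zero_mul (_ : End (bcMod p K W))).trans (mul_zero (_ : End (bcMod p K W))).symm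
      | add t₁ t₂ h₁ h₂ =>
        rw [map_add]
        exact (add_mul (R := End (bcMod p K W)) _ _ _).trans ((congrArg₂ (· + ·) h₁ h₂).trans (mul_add (R := End (bcMod p K W)) _ _ _).symm)
      | tmul c φ =>
        show F.map (z : W ⟶ W) ≫ (c • F.map φ) = (c • F.map φ) ≫ F.map (z : W ⟶ W)
        rw [Linear.comp_smul, Linear.smul_comp, ← F.map_comp, ← F.map_comp]
        congr 2
        exact hz (φ : End W)
    haveI : Nonempty (Fin r) := ⟨⟨0, hr⟩⟩
    have hmem : Φ zK ∈ Subalgebra.center K (Matrix (Fin r) (Fin r) K) :=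
      Subalgebra.mem_center_iff.2 fun M => by
        obtain ⟨a, rfl⟩ := Φ.surjective M
        rw [← map_mul, ← map_mul, hcen]
    rw [Algebra.IsCentral.center_eq_bot, Algebra.mem_bot] at hmem
    obtain ⟨c, hc'⟩ := hmem
    have h1 : zK = algebraMap K (End (bcMod p K W)) c := Φ.injective (by rw [← hc', AlgEquiv.commutes])
    have h2 : (1 : K) ⊗ₜ[k] (z : W ⟶ W) = c ⊗ₜ[k] 𝟙 W := by
      refine β.injective ?_
      show (1 : K) • F.map (z : W ⟶ W) = c • F.map (𝟙 W)
      rw [one_smul, F.map_id]
      exact h1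
    have hne : (𝟙 W : W ⟶ W) ≠ 0 := fun h0 => by
      have h3 : (1 : End (bcMod p K W)) = 0 := by
        show 𝟙 (F.obj W) = 0
        rw [← F.map_id, h0, F.map_zero]
      have h4 := congrArg Φ h3
      rw [map_one, map_zero] at h4
      exact one_ne_zero h4
    obtain ⟨lam, hlam⟩ : ∃ lam : Module.Dual k (W ⟶ W), lam (𝟙 W) ≠ 0 := by
      by_contra! hall
      exact hne ((Module.forall_dual_apply_eq_zero_iff k _).1 hall)
    have h5 := congrArg (fun t => TensorProduct.rid k K (LinearMap.lTensor K lam t)) h2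
    simp only [LinearMap.lTensor_tmul, TensorProduct.rid_tmul] at h5
    let a : k := lam z / lam (𝟙 W)
    have hca : c = algebraMap k K a := by
      rw [Algebra.smul_def, Algebra.smul_def, mul_one] at h5
      have hne' : algebraMap k K (lam (𝟙 W)) ≠ 0 := (map_ne_zero _).2 hlam
      rw [show a = lam z / lam (𝟙 W) from rfl, map_div₀, eq_div_iff hne', h5, mul_comm]
    refine Algebra.mem_bot.2 ⟨a, ?_⟩
    have hinj : Function.Injective fun x : W ⟶ W => (1 : K) ⊗ₜ[k] x := fun x y hxy => by
      obtain ⟨π, hπ⟩ := LinearMap.exists_leftInverse_of_injective (Algebra.linearMap k K)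
        (LinearMap.ker_eq_bot.2 (algebraMap k K).injective)
      have h4 := congrArg (fun t => TensorProduct.lid k (W ⟶ W) (LinearMap.rTensor (W ⟶ W) π t)) hxy
      have h5 := LinearMap.congr_fun hπ 1
      simp only [LinearMap.comp_apply, Algebra.linearMap_apply, map_one, LinearMap.id_apply] at h5
      simpa [LinearMap.rTensor_tmul, h5] using h4
    refine hinj ?_
    show (1 : K) ⊗ₜ[k] (a • 𝟙 W) = (1 : K) ⊗ₜ[k] (z : W ⟶ W)
    rw [h2, hca, ← smul_tmul, Algebra.smul_def, mul_one]
  · haveI : Nonempty (Fin r) := ⟨⟨0, hr⟩⟩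
    haveI : IsSimpleRing (End (bcMod p K W)) := IsSimpleRing.of_ringEquiv Φ.toRingEquiv.symm inferInstance
    exact isSimpleRing_of_bc p K hc

/-- The endomorphisms of an indecomposable isotypical module form a division ring. -/
theorem isUnit_of_indec (hWi : KSLib.Indec W) {f : End W} (hf : f ≠ 0) : IsUnit f := by
  obtain ⟨hfin, -, hcs⟩ := end_finrank K hW hL e
  haveI := hfin
  haveI : IsSimpleRing (End W) :=
    (hcs (pos_of_bc_pow (X ↘ Spec (CommRingCat.of k)) K (H28.PushLocFree.isCoh_of_isFinLocFree hW) hWi.1 e)).2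
  refine isUnit_of_simple (fun x => ?_) hf
  exact CurveEnd.isUnit_or_isNilpotent (k := k) (CurveEnd.isNilpotent_zero_or_one_idem hWi.2) x (minpoly k x)
    (minpoly.ne_zero (IsIntegral.of_finite k x)) (minpoly.aeval k x)

end Iso

end Groth.Agent.ASB24
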