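import Groth.Agent.ASB24.Isotypical
import Groth.Agent.Lib.InvEnd
import Mathlib.RingTheory.SimpleRing.Matrix
import Mathlib.RingTheory.SimpleRing.Congr
import Mathlib.RingTheory.SimpleRing.Field
import Mathlib.AlgebraicGeometry.Geometrically.Integral

/-!
# Endomorphisms of isotypical modules
-/

set_option linter.style.haveILetI false
set_option backward.isDefEq.respectTransparency false
set_option backward.isDefEq.respectTransparency.types false

universe u v w

open CategoryTheory CategoryTheory.Limits AlgebraicGeometry W4c1astiltbs12 TensorProduct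

namespace Groth.Agent.ASB24

attribute [local instance] Abelian.hasFiniteBiproducts

section Cat

variable {C : Type w} [Category.{v} C] [Abelian C]

/-- Endomorphisms of a power as matrices. -/
noncomputable def endPowEquiv (L : C) (r : ℕ) : End (⨁ fun _ : Fin r => L) ≃+* Matrix (Fin r) (Fin r) (End L) where
  toFun f := Matrix.of fun i j => biproduct.components f j i
  invFun M := biproduct.matrix fun j i => M i j
  left_inv f := by
    refine biproduct.hom_ext' _ _ fun i => biproduct.hom_ext _ _ fun j => ?_
    simp [biproduct.components]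
  right_inv M := by
    ext i j
    simp [biproduct.components]
  map_mul' f g := by
    ext i j
    rw [Matrix.mul_apply]
    show biproduct.ι (fun _ : Fin r => L) j ≫ (g ≫ f) ≫ biproduct.π (fun _ : Fin r => L) i =
      ∑ m, (biproduct.ι (fun _ : Fin r => L) j ≫ g ≫ biproduct.π (fun _ : Fin r => L) m) ≫
        (biproduct.ι (fun _ : Fin r => L) m ≫ f ≫ biproduct.π (fun _ : Fin r => L) i)
    simp only [Category.assoc, ← Preadditive.comp_sum]
    congr 2
    simp only [← Category.assoc]
    rw [← Preadditive.sum_comp, ← Preadditive.sum_comp, biproduct.total, Category.id_comp]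
  map_add' f g := by
    ext i j
    show biproduct.ι (fun _ : Fin r => L) j ≫ (f + g) ≫ biproduct.π (fun _ : Fin r => L) i = _
    rw [Preadditive.add_comp, Preadditive.comp_add]
    rfl

/-- Conjugation by an isomorphism. -/
noncomputable def endConj {A B : C} (e : A ≅ B) : End A ≃+* End B where
  toFun f := e.inv ≫ f ≫ e.hom
  invFun f := e.hom ≫ f ≫ e.inv
  left_inv f := by simp
  right_inv f := by simp
  map_mul' f g := by simp [End.mul_def]
  map_add' f g := by
    show e.inv ≫ (f + g) ≫ e.hom = _
    rw [Preadditive.add_comp, Preadditive.comp_add]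

/-- In a simple ring of units and nilpotents everything nonzero is a unit. -/
theorem isUnit_of_simple {R : Type*} [Ring R] [IsSimpleRing R] (h : ∀ x : R, IsUnit x ∨ IsNilpotent x)
    {f : R} (hf : f ≠ 0) : IsUnit f := by
  have hmul : ∀ a b : R, IsUnit (a * b) → IsUnit a ∧ IsUnit b := fun a b hab => by
    rcases h a with ha | ⟨n, hn⟩
    · refine ⟨ha, ?_⟩
      obtain ⟨u, rfl⟩ := ha
      exact (Units.isUnit_units_mul u b).1 hab
    · exfalso
      obtain ⟨v, hv⟩ := hab.exists_right_inv
      rw [mul_assoc] at hv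
      have : ∀ m, a ^ m * (b * v) ^ m = 1 := fun m => by
        induction m with
        | zero => simp
        | succ m ih =>
          rw [pow_succ, pow_succ' (b * v), mul_assoc, ← mul_assoc a, hv, one_mul, ih]
      exact one_ne_zero ((this n).symm.trans (by rw [hn, zero_mul]))
  have hadd : ∀ a b : R, IsUnit (a + b) → IsUnit a ∨ IsUnit b := fun a b hab => by
    obtain ⟨u, hu⟩ := hab
    rcases h (a * ↑u⁻¹) with h1 | h1
    · exact Or.inl (hmul _ _ h1).1
    · refine Or.inr (hmul b ↑u⁻¹ ?_).1
      have : b * ↑u⁻¹ = 1 - a * ↑u⁻¹ := by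
        rw [eq_sub_iff_add_eq', ← add_mul, ← hu, Units.mul_inv]
      rw [this]
      exact h1.isUnit_one_sub
  by_contra hnu
  let J : TwoSidedIdeal R := TwoSidedIdeal.mk' {x | ¬ IsUnit x}
    (not_isUnit_zero) (fun {x y} hx hy hxy => (hadd x y hxy).elim hx hy)
    (fun {x} hx hx' => hx (by simpa using hx'.neg))
    (fun {x y} hy hxy => hy (hmul x y hxy).2) (fun {x y} hx hxy => hx (hmul x y hxy).1)
  have hmem : ∀ x, x ∈ J ↔ ¬ IsUnit x := fun x => by simp [J]
  rcases IsSimpleRing.simple.eq_bot_or_eq_top J with hJ | hJ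
  · have : f ∈ J := (hmem f).2 hnu
    rw [hJ] at this
    exact hf ((TwoSidedIdeal.mem_bot R).1 this)
  · have : (1 : R) ∈ J := hJ ▸ TwoSidedIdeal.mem_top R
    exact (hmem 1).1 this isUnit_one

end Cat

variable {k : Type u} [Field k] {X : Scheme.{u}} (p : X ⟶ Spec (CommRingCat.of k)) [IsProper p]
  (K : Type u) [Field K] [Algebra k K]

/-- A coherent module whose base change has simple endomorphisms has simple endomorphisms. -/
theorem isSimpleRing_of_bc {E : X.Modules} (hE : Coh.IsCoh E) [IsSimpleRing (End (bcMod p K E))] :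
    IsSimpleRing (End E) := by
  classical
  letI : X.Over (Spec (CommRingCat.of k)) := ⟨p⟩
  haveI : CompactSpace X := QuasiCompact.compactSpace_of_compactSpace p
  letI := overBC p K
  let q := proj p K
  let F := Scheme.Modules.pullback q
  have hbij := beta_bijective (isPullback_proj p K) hE hE.1
  haveI : Nontrivial (End E) := by
    refine ⟨⟨1, 0, fun h => ?_⟩⟩
    refine one_ne_zero (α := End (bcMod p K E)) ?_
    show 𝟙 (F.obj E) = 0
    rw [← F.map_id, show (𝟙 E) = 0 from h, F.map_zero]
  refine IsSimpleRing.of_eq_bot_or_eq_top fun I => ?_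
  by_cases hI : I = ⊥
  · exact Or.inl hI
  obtain ⟨f, hfI, hf⟩ : ∃ f ∈ I, f ≠ 0 := by
    by_contra h
    push Not at h
    exact hI (eq_bot_iff.2 fun x hx => (TwoSidedIdeal.mem_bot _).2 (h x hx))
  let S : Submodule K (F.obj E ⟶ F.obj E) := Submodule.span K {y | ∃ g : E ⟶ E, (g : End E) ∈ I ∧ F.map g = y}
  have hgen : ∀ (a : F.obj E ⟶ F.obj E) (x : F.obj E ⟶ F.obj E), x ∈ S → a ≫ x ∈ S ∧ x ≫ a ∈ S := by
    intro a x hx
    obtain ⟨t, rfl⟩ := hbij.2 a
    induction t with
    | zero => rw [map_zero, Limits.zero_comp, Limits.comp_zero]; exact ⟨S.zero_mem, S.zero_mem⟩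
    | add t₁ t₂ h₁ h₂ =>
      rw [map_add, Preadditive.add_comp, Preadditive.comp_add]
      exact ⟨S.add_mem h₁.1 h₂.1, S.add_mem h₁.2 h₂.2⟩
    | tmul c α =>
      rw [beta_tmul, Linear.smul_comp, Linear.comp_smul]
      refine ⟨S.smul_mem c ?_, S.smul_mem c ?_⟩
      · induction hx using Submodule.span_induction with
        | mem y hy =>
          obtain ⟨g, hg, rfl⟩ := hy
          rw [← F.map_comp]
          exact Submodule.subset_span ⟨_, I.mul_mem_right (g : End E) (α : End E) hg, rfl⟩
        | zero => rw [Limits.comp_zero]; exact S.zero_mem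
        | add y z _ _ hy hz => rw [Preadditive.comp_add]; exact S.add_mem hy hz
        | smul d y _ hy => rw [Linear.comp_smul]; exact S.smul_mem d hy
      · induction hx using Submodule.span_induction with
        | mem y hy =>
          obtain ⟨g, hg, rfl⟩ := hy
          rw [← F.map_comp]
          exact Submodule.subset_span ⟨_, I.mul_mem_left (α : End E) (g : End E) hg, rfl⟩
        | zero => rw [Limits.zero_comp]; exact S.zero_mem
        | add y z _ _ hy hz => rw [Preadditive.add_comp]; exact S.add_mem hy hz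
        | smul d y _ hy => rw [Linear.smul_comp]; exact S.smul_mem d hy
  let J : TwoSidedIdeal (End (bcMod p K E)) := TwoSidedIdeal.mk' (S : Set (F.obj E ⟶ F.obj E))
    S.zero_mem (fun hx hy => S.add_mem hx hy) (fun hx => S.neg_mem hx)
    (fun {x y} hy => (hgen x y hy).2) (fun {x y} hx => (hgen y x hx).1)
  have hmem : ∀ x, x ∈ J ↔ (x : F.obj E ⟶ F.obj E) ∈ S := fun x => by simp [J]
  have hone : 𝟙 (F.obj E) ∈ S := by
    rcases IsSimpleRing.simple.eq_bot_or_eq_top J with hJ | hJ
    · exfalso
      have h1 : (F.map f : End (bcMod p K E)) ∈ J := (hmem _).2 (Submodule.subset_span ⟨f, hfI, rfl⟩)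
      rw [hJ, TwoSidedIdeal.mem_bot] at h1
      have h2 : beta (isPullback_proj p K) E E (1 ⊗ₜ f) = beta (isPullback_proj p K) E E (1 ⊗ₜ 0) := by
        rw [beta_tmul, beta_tmul, F.map_zero, smul_zero]
        show (1 : K) • F.map f = 0
        rw [one_smul]
        exact h1
      have h3 := hbij.1 h2
      rw [tmul_zero] at h3
      obtain ⟨π, hπ⟩ := LinearMap.exists_leftInverse_of_injective (Algebra.linearMap k K)
        (LinearMap.ker_eq_bot.2 (algebraMap k K).injective)
      have h4 := congrArg (TensorProduct.lid k (E ⟶ E)) (congrArg (LinearMap.rTensor (E ⟶ E) π) h3)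
      have h5 := LinearMap.congr_fun hπ 1
      simp only [LinearMap.comp_apply, Algebra.linearMap_apply, map_one, LinearMap.id_apply] at h5
      rw [LinearMap.rTensor_tmul, TensorProduct.lid_tmul, h5, one_smul, map_zero, map_zero] at h4
      exact hf h4
    · exact (hmem _).1 (hJ ▸ TwoSidedIdeal.mem_top (R := End (bcMod p K E)))
  let Ik : Submodule k (E ⟶ E) :=
    { carrier := {g | (g : End E) ∈ I}
      add_mem' := fun ha hb => I.add_mem ha hb
      zero_mem' := I.zero_mem
      smul_mem' := fun a g hg => by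
        have h : I.ringCon _ _ := I.mul_mem_right (g : End E) (Formal.smulMod k E a : End E) hg
        exact h }
  refine Or.inr ((TwoSidedIdeal.one_mem_iff I).1 ?_)
  by_contra h1
  obtain ⟨lam, hl1, hl2⟩ := Submodule.exists_dual_map_eq_bot_of_notMem (p := Ik) (x := 𝟙 E) h1 inferInstance
  have key : ∀ x ∈ S, ∃ y : K ⊗[k] (E ⟶ E), beta (isPullback_proj p K) E E y = x ∧ lam.lTensor K y = 0 := by
    intro x hx
    induction hx using Submodule.span_induction with
    | mem y hy =>
      obtain ⟨g, hg, rfl⟩ := hy
      refine ⟨1 ⊗ₜ g, by rw [beta_tmul]; exact one_smul K (F.map g), ?_⟩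
      have : lam g ∈ Submodule.map lam Ik := ⟨g, hg, rfl⟩
      rw [hl2, Submodule.mem_bot] at this
      rw [LinearMap.lTensor_tmul, this, tmul_zero]
    | zero => exact ⟨0, map_zero _, map_zero _⟩
    | add y z _ _ hy hz =>
      obtain ⟨y', hy, hy'⟩ := hy
      obtain ⟨z', hz, hz'⟩ := hz
      exact ⟨y' + z', by rw [map_add, hy, hz], by rw [map_add, hy', hz', add_zero]⟩
    | smul d y _ hy =>
      obtain ⟨y', rfl, hy'⟩ := hy
      refine ⟨d • y', ?_, ?_⟩
      · clear hy'
        rename_i hx'
        clear hx'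
        induction y' with
        | zero => simp
        | add a b ha hb => rw [smul_add, map_add, map_add, ha, hb, smul_add]
        | tmul c α => rw [smul_tmul', beta_tmul, beta_tmul, smul_smul]; rfl
      · rw [← LinearMap.baseChange_eq_ltensor, map_smul, LinearMap.baseChange_eq_ltensor, hy', smul_zero]
  obtain ⟨y, hy, hy'⟩ := key _ hone
  have : y = 1 ⊗ₜ 𝟙 E := hbij.1 (hy.trans (by rw [beta_tmul, F.map_id]; exact (one_smul K (𝟙 (F.obj E))).symm))
  rw [this, LinearMap.lTensor_tmul] at hy'
  have h2 := congrArg (TensorProduct.rid k K) hy'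
  rw [TensorProduct.rid_tmul, map_zero] at h2
  exact hl1 ((smul_eq_zero.1 h2).resolve_right one_ne_zero)

variable [GeometricallyIntegral p] [IsAlgClosure k K]

/-- The endomorphisms of a module which becomes a power of an invertible module form a simple ring. -/
theorem isSimpleRing_end {E : X.Modules} (hE : Coh.IsCoh E) (hE0 : ¬ IsZero E)
    {L : (W4bk4gw11416.baseChange p K).Modules} (hL : PicF.IsInvertible L) {r : ℕ} (e : bcMod p K E ≅ pow L r) :
    IsSimpleRing (End E) := by
  haveI : IsAlgClosed K := IsAlgClosure.isAlgClosed k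
  letI := overBC p K
  haveI : IsProper (W4bk4gw11416.baseChange p K ↘ Spec (CommRingCat.of K)) :=
    MorphismProperty.pullback_snd p (Spec.map (CommRingCat.ofHom (algebraMap k K))) ‹IsProper p›
  haveI : IsIntegral (W4bk4gw11416.baseChange p K) :=
    GeometricallyIntegral.geometrically_isIntegral (f := p) _ _ _ (IsPullback.of_hasPullback p (Spec.map (CommRingCat.ofHom (algebraMap k K))))
  rcases Nat.eq_zero_or_pos r with rfl | hr
  · exact absurd (isZero_of_bc p K hE (IsZero.of_iso (isZero_pow_zero L) e)) hE0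
  haveI : Nonempty (Fin r) := ⟨⟨0, hr⟩⟩
  letI := CurveEnd.kAlgebra (k := K) L
  let eL : K ≃+* End L := RingEquiv.ofBijective _ (InvEnd.exists_scalar (k := K) hL)
  haveI : IsSimpleRing (End L) := IsSimpleRing.of_ringEquiv eL inferInstance
  haveI : IsSimpleRing (Matrix (Fin r) (Fin r) (End L)) := inferInstance
  haveI : IsSimpleRing (End (bcMod p K E)) := IsSimpleRing.of_ringEquiv
    ((endPowEquiv L r).symm.trans (endConj (biproduct.isoCoproduct _ ≪≫ e.symm))) inferInstance
  exact isSimpleRing_of_bc p K hE

end Groth.Agent.ASB24
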