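import Groth.Prelude.Def_KLin
import Groth.Agent.S0002
import Groth.Agent.SheafHomX.Main
import Groth.Agent.SheafHomX.Smul
import Groth.Agent.SheafHomX.Coherent
import Groth.Agent.PnCoh.Finite.SerreVanishing

/-!
# Morphisms of coherent modules on a proper scheme form finite modules
-/

set_option linter.style.haveILetI false
set_option backward.isDefEq.respectTransparency false
set_option backward.isDefEq.respectTransparency.types false

universe u

open CategoryTheory CategoryTheory.Limits AlgebraicGeometry

namespace Groth.Agent.ASB24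

open Groth.Agent

variable {A : Type u} [CommRing A] {X : Scheme.{u}} [X.Over (Spec (CommRingCat.of A))]

theorem cls_add {F : X.Modules} (y y' : Coh.structureModule X ⟶ F) :
    SheafHomX.cls (y + y') = SheafHomX.cls y + SheafHomX.cls y' :=
  map_add (Sheaf.H.equiv₀ (Coh.toAb F) CategoryTheory.Limits.isTerminalTop).symm (InvX.one y) (InvX.one y')

theorem smul_cls {F : X.Modules} (a : A) (y : Coh.structureModule X ⟶ F) :
    a • SheafHomX.cls y = SheafHomX.cls (y ≫ Formal.smulMod A F a) :=
  SheafHomX.map_cls y (Formal.smulMod A F a)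

variable [IsNoetherianRing A] [IsProper (X ↘ Spec (CommRingCat.of A))]

/-- Morphisms between coherent modules on a proper scheme over `A` form a finite `A`-module. -/
theorem finite_hom {M N : X.Modules} (hM : Coh.IsCoh M) (hN : Coh.IsCoh N) : Module.Finite A (M ⟶ N) := by
  haveI : IsLocallyNoetherian X := LocallyOfFiniteType.isLocallyNoetherian (X ↘ Spec (CommRingCat.of A))
  haveI : Module.Finite A (Coh.HH X ((SheafHomX.hom M).obj N) 0) :=
    S0002.result A X _ (SheafHomX.isCoh_hom hM hN) 0
  refine Module.Finite.of_injective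
    ({ toFun := fun φ => SheafHomX.cls ((SheafHomX.ev M N).symm φ)
       map_add' := fun φ ψ => by rw [map_add, cls_add]
       map_smul' := fun a φ => ?_ } : (M ⟶ N) →ₗ[A] Coh.HH X ((SheafHomX.hom M).obj N) 0)
    (SheafHomX.cls_injective.comp (SheafHomX.ev M N).symm.injective)
  rw [RingHom.id_apply, smul_cls]
  congr 1
  apply (SheafHomX.ev M N).injective
  rw [AddEquiv.apply_symm_apply, ← SheafHomX.hom_map_smulMod, SheafHomX.ev_naturality,
    AddEquiv.apply_symm_apply, KLin.smul_def, FFun.smulMod_naturality]

theorem isCoh_of_biprod {M N : X.Modules} (h : Coh.IsCoh (M ⊞ N)) : Coh.IsCoh M ∧ Coh.IsCoh N :=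
  ⟨QCoh.isCoh_of_epi biprod.fst h (PnCoh.Finite.isQCoh_of_retract h.1 biprod.inl biprod.fst biprod.inl_fst),
    QCoh.isCoh_of_epi biprod.snd h (PnCoh.Finite.isQCoh_of_retract h.1 biprod.inr biprod.snd biprod.inr_snd)⟩

end Groth.Agent.ASB24
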