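import Groth.Agent.ASB24.Setup
import Groth.Agent.ZClosLib.CohDescent
import Groth.Agent.UnivThick.Lci
import Groth.Agent.H28.PushLocFree

/-!
# Isotypical modules under base change
-/

set_option linter.style.haveILetI false
set_option backward.isDefEq.respectTransparency false
set_option backward.isDefEq.respectTransparency.types false

universe u

open CategoryTheory CategoryTheory.Limits AlgebraicGeometry W4c1astiltbs12

namespace Groth.Agent.ASB24

attribute [local instance] Abelian.hasFiniteBiproducts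

section Proper

variable {k : Type u} [Field k] {X : Scheme.{u}} (p : X ⟶ Spec (CommRingCat.of k)) [IsProper p]

include p in
/-- Existence of decompositions of coherent modules. -/
theorem exists_indec {F : X.Modules} (hF : Coh.IsCoh F) :
    ∃ (n : ℕ) (Fs : Fin n → X.Modules), (∀ i, KSLib.Indec (Fs i)) ∧ Nonempty (F ≅ ⨁ Fs) := by
  letI : X.Over (Spec (CommRingCat.of k)) := ⟨p⟩
  haveI : IsProper (X ↘ Spec (CommRingCat.of k)) := ‹IsProper p›
  exact KSLib.exists_decomposition k (fun A : X.Modules => Coh.IsCoh A) (fun h => isCoh_of_biprod h)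
    (fun e h => SheafHomX.isCoh_of_iso e h) (fun A hA => finite_hom hA hA) _ F hF le_rfl

include p in
theorem indec_unique {n m : ℕ} {F : Fin n → X.Modules} {G : Fin m → X.Modules} (hF : ∀ i, KSLib.Indec (F i))
    (hG : ∀ j, KSLib.Indec (G j)) (hc : ∀ i, Coh.IsCoh (F i)) (φ : (⨁ F) ≅ ⨁ G) :
    ∃ e : Fin n ≃ Fin m, ∀ i, Nonempty (F i ≅ G (e i)) := by
  letI : X.Over (Spec (CommRingCat.of k)) := ⟨p⟩
  haveI : IsProper (X ↘ Spec (CommRingCat.of k)) := ‹IsProper p›
  exact KSLib.unique k n m F G hF hG (fun i => finite_hom (hc i) (hc i)) φ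

end Proper

variable {X : Scheme.{u}}

theorem isCoh_component {n : ℕ} (F : Fin n → X.Modules) (h : Coh.IsCoh (⨁ F)) (i : Fin n) : Coh.IsCoh (F i) := by
  rcases n with _ | n
  · exact i.elim0
  obtain ⟨s, -, -⟩ := KSLib.exists_splitOff F i
  exact (isCoh_of_biprod (SheafHomX.isCoh_of_iso s h)).1

theorem isCoh_biprod_fin {n : ℕ} (F : Fin n → X.Modules) (h : ∀ i, Coh.IsCoh (F i)) : Coh.IsCoh (⨁ F) :=
  SheafHomX.isCoh_of_iso (biproduct.whiskerEquiv Equiv.ulift (fun _ => Iso.refl _))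
    (QCoh.isCoh_biproduct (fun i : ULift.{u} (Fin n) => F i.down) fun i => h i.down)

/-- Iterated powers. -/
theorem nonempty_powPow (W : X.Modules) (r s : ℕ) : Nonempty (pow (pow W r) s ≅ pow W (s * r)) :=
  ⟨sigmaSigmaIso (fun _ : Fin s => Fin r) (fun _ _ => W) ≪≫
    Sigma.whiskerEquiv ((Equiv.sigmaEquivProd (Fin s) (Fin r)).trans finProdFinEquiv) (fun _ => Iso.refl W)⟩

theorem isCoh_pow {F : X.Modules} (h : Coh.IsCoh F) (n : ℕ) : Coh.IsCoh (pow F n) :=
  SheafHomX.isCoh_of_iso (biproduct.isoCoproduct _) (isCoh_biprod_fin _ fun _ => h)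

theorem isZero_pow_zero (W : X.Modules) : IsZero (pow W 0) :=
  (IsZero.iff_id_eq_zero _).2 (Sigma.hom_ext _ _ fun i => Fin.elim0 i)

theorem isZero_pow {W : X.Modules} (h : IsZero W) (n : ℕ) : IsZero (pow W n) :=
  (IsZero.iff_id_eq_zero _).2 (Sigma.hom_ext _ _ fun _ => h.eq_of_src _ _)

variable {k : Type u} [Field k] (p : X ⟶ Spec (CommRingCat.of k)) [IsProper p] (K : Type u) [Field K] [Algebra k K]

/-- Base change commutes with powers. -/
noncomputable def bcPow (F : X.Modules) (n : ℕ) : bcMod p K (pow F n) ≅ pow (bcMod p K F) n :=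
  PreservesCoproduct.iso (Scheme.Modules.pullback (proj p K)) fun _ : Fin n => F

theorem isZero_of_bc {F : X.Modules} (hF : Coh.IsCoh F) (h : IsZero (bcMod p K F)) : IsZero F := by
  letI : X.Over (Spec (CommRingCat.of k)) := ⟨p⟩
  haveI : CompactSpace X := QuasiCompact.compactSpace_of_compactSpace p
  letI := overBC p K
  have h1 : beta (isPullback_proj p K) F F (1 ⊗ₜ 𝟙 F) = beta (isPullback_proj p K) F F 0 := h.eq_of_src _ _
  have h2 := congrArg (TensorProduct.lid k (F ⟶ F)) (congrArg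
    (LinearMap.rTensor (F ⟶ F) (Classical.choose (LinearMap.exists_leftInverse_of_injective (Algebra.linearMap k K)
      (LinearMap.ker_eq_bot.2 (algebraMap k K).injective)))) ((beta_bijective (isPullback_proj p K) hF hF.1).1 h1))
  have hs := Classical.choose_spec (LinearMap.exists_leftInverse_of_injective (Algebra.linearMap k K)
    (LinearMap.ker_eq_bot.2 (algebraMap k K).injective))
  have h3 := LinearMap.congr_fun hs 1
  simp only [LinearMap.comp_apply, Algebra.linearMap_apply, map_one, LinearMap.id_apply] at h3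
  rw [LinearMap.rTensor_tmul, TensorProduct.lid_tmul, h3, one_smul, map_zero, map_zero] at h2
  exact (IsZero.iff_id_eq_zero F).2 h2

variable [Algebra.IsAlgebraic k K]

/-- Indecomposables isotypical of the same type are isomorphic. -/
theorem iso_of_bc_pow {E E' : X.Modules} (hE : Coh.IsCoh E) (hE' : Coh.IsCoh E') (hEi : KSLib.Indec E)
    (hE'i : KSLib.Indec E') {W : (W4bk4gw11416.baseChange p K).Modules} {r s : ℕ}
    (e : bcMod p K E ≅ pow W r) (e' : bcMod p K E' ≅ pow W s) : Nonempty (E ≅ E') := by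
  rcases Nat.eq_zero_or_pos r with rfl | hr
  · exact absurd (isZero_of_bc p K hE (IsZero.of_iso (isZero_pow_zero W) e)) hEi.1
  rcases Nat.eq_zero_or_pos s with rfl | hs
  · exact absurd (isZero_of_bc p K hE' (IsZero.of_iso (isZero_pow_zero W) e')) hE'i.1
  obtain ⟨a⟩ := nonempty_powPow W r s
  obtain ⟨b⟩ := nonempty_powPow W s r
  have φ : bcMod p K (pow E s) ≅ bcMod p K (pow E' r) :=
    bcPow p K E s ≪≫ Sigma.mapIso (fun _ => e) ≪≫ a ≪≫ eqToIso (by rw [Nat.mul_comm]) ≪≫ b.symm ≪≫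
      Sigma.mapIso (fun _ => e'.symm) ≪≫ (bcPow p K E' r).symm
  obtain ⟨ψ⟩ := nonempty_iso_of_bc p K (isCoh_pow hE s) (isCoh_pow hE' r) φ
  obtain ⟨σ, hσ⟩ := indec_unique p (fun _ : Fin s => hEi) (fun _ : Fin r => hE'i) (fun _ => hE)
    (biproduct.isoCoproduct _ ≪≫ ψ ≪≫ (biproduct.isoCoproduct _).symm)
  exact hσ ⟨0, hs⟩

/-- A module which becomes isotypical of indecomposable type is a power of an indecomposable. -/
theorem exists_eq_pow' {E : X.Modules} (hE : Coh.IsCoh E) (hE0 : ¬ IsZero E)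
    {L : (W4bk4gw11416.baseChange p K).Modules} (hLi : KSLib.Indec L) {r : ℕ} (e : bcMod p K E ≅ pow L r) :
    ∃ (G : X.Modules) (n : ℕ) (f : G ⟶ E) (g : E ⟶ G),
      KSLib.Indec G ∧ f ≫ g = 𝟙 G ∧ Nonempty (E ≅ pow G n) ∧ ∃ a, Nonempty (bcMod p K G ≅ pow L a) := by
  obtain ⟨n, Fs, hFs, ⟨φ⟩⟩ := exists_indec p hE
  rcases n with _ | n
  · exact absurd (IsZero.of_iso ((IsZero.iff_id_eq_zero _).2 (biproduct.hom_ext _ _ fun i => Fin.elim0 i)) φ) hE0
  have hc : ∀ i, Coh.IsCoh (Fs i) := isCoh_component Fs (SheafHomX.isCoh_of_iso φ hE)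
  haveI : IsProper (pullback.snd p (Spec.map (CommRingCat.ofHom (algebraMap k K)))) :=
    MorphismProperty.pullback_snd _ _ ‹IsProper p›
  let pK := pullback.snd p (Spec.map (CommRingCat.ofHom (algebraMap k K)))
  let F := Scheme.Modules.pullback (proj p K)
  have hpow : ∀ i, ∃ a, Nonempty (bcMod p K (Fs i) ≅ pow L a) := fun i => by
    obtain ⟨s, -, -⟩ := KSLib.exists_splitOff Fs i
    let R := ⨁ fun j => Fs (i.succAbove j)
    haveI : PreservesColimitsOfShape (Discrete WalkingPair) F := (Scheme.Modules.pullbackPushforwardAdjunction (proj p K)).leftAdjoint_preservesColimits.preservesColimitsOfShape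
    haveI : PreservesBinaryBiproduct (Fs i) R F := preservesBinaryBiproduct_of_preservesBinaryCoproduct F
    have hbr : Coh.IsCoh (Fs i ⊞ R) := SheafHomX.isCoh_of_iso s (SheafHomX.isCoh_of_iso φ hE)
    have hA : Coh.IsCoh (F.obj (Fs i)) := ZClosLib.isCoh_pullback _ (hc i)
    have hB : Coh.IsCoh (F.obj R) := ZClosLib.isCoh_pullback _ (isCoh_of_biprod hbr).2
    obtain ⟨a, As, hAs, ⟨α⟩⟩ := exists_indec pK hA
    obtain ⟨b, Bs, hBs, ⟨β⟩⟩ := exists_indec pK hB
    obtain ⟨ψ⟩ := KSLib.nonempty_append_iso As Bs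
    have hAB : ∀ j, KSLib.Indec (Fin.append As Bs j) := fun j => by
      induction j using Fin.addCases with
      | left j => simpa using hAs j
      | right j => simpa using hBs j
    have hABc : ∀ j, Coh.IsCoh (Fin.append As Bs j) := fun j => by
      induction j using Fin.addCases with
      | left j => simpa using isCoh_component As (SheafHomX.isCoh_of_iso α hA) j
      | right j => simpa using isCoh_component Bs (SheafHomX.isCoh_of_iso β hB) j
    obtain ⟨σ, hσ⟩ := indec_unique pK hAB (fun _ : Fin r => hLi) hABc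
      (ψ.symm ≪≫ (biprod.mapIso α β).symm ≪≫ (F.mapBiprod (Fs i) R).symm ≪≫ F.mapIso s.symm ≪≫
        F.mapIso φ.symm ≪≫ e ≪≫ (biproduct.isoCoproduct _).symm)
    refine ⟨a, ⟨α ≪≫ biproduct.mapIso (fun j => ?_) ≪≫ biproduct.isoCoproduct _⟩⟩
    exact eqToIso (Fin.append_left As Bs j).symm ≪≫ Classical.choice (hσ (Fin.castAdd b j))
  have hiso : ∀ i, Nonempty (Fs i ≅ Fs 0) := fun i => by
    obtain ⟨a, ⟨α⟩⟩ := hpow i
    obtain ⟨b, ⟨β⟩⟩ := hpow 0
    exact iso_of_bc_pow p K (hc i) (hc 0) (hFs i) (hFs 0) α β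
  exact ⟨Fs 0, n + 1, biproduct.ι Fs 0 ≫ φ.inv, φ.hom ≫ biproduct.π Fs 0, hFs 0, by simp,
    ⟨φ ≪≫ biproduct.mapIso (fun i => Classical.choice (hiso i)) ≪≫ biproduct.isoCoproduct _⟩, hpow 0⟩

/-- A module which becomes isotypical of indecomposable type is a power of an indecomposable. -/
theorem exists_eq_pow {E : X.Modules} (hE : Coh.IsCoh E) (hE0 : ¬ IsZero E)
    {L : (W4bk4gw11416.baseChange p K).Modules} (hLi : KSLib.Indec L) {r : ℕ} (e : bcMod p K E ≅ pow L r) :
    ∃ (G : X.Modules) (n : ℕ) (f : G ⟶ E) (g : E ⟶ G),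
      KSLib.Indec G ∧ f ≫ g = 𝟙 G ∧ Nonempty (E ≅ pow G n) := by
  obtain ⟨G, n, f, g, h1, h2, h3, -⟩ := exists_eq_pow' p K hE hE0 hLi e
  exact ⟨G, n, f, g, h1, h2, h3⟩

end Groth.Agent.ASB24
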