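import Groth.Agent.ASB24.SplitAlg
import Groth.Agent.ASB24.Isotypical
import Groth.Agent.KFlatLib.Scheme.ResolutionDescent

/-!
# Direct images from a separable extension split over an algebraically closed field
-/

set_option linter.style.haveILetI false
set_option backward.isDefEq.respectTransparency false
set_option backward.isDefEq.respectTransparency.types false

universe u

open CategoryTheory CategoryTheory.Limits AlgebraicGeometry Opposite TopologicalSpace W4c1astiltbs12 TensorProduct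

namespace Groth.Agent.ASB24

open Groth.Agent

attribute [local instance] Abelian.hasFiniteBiproducts

/-- A morphism of quasi-coherent modules bijective on an affine cover is an isomorphism. -/
theorem isIso_of_bijective_cover {Y : Scheme.{u}} {M N : Y.Modules} (hM : Coh.IsQCoh M) (hN : Coh.IsQCoh N)
    (φ : M ⟶ N) {ι : Type*} (U : ι → Y.Opens) (hU : ∀ i, IsAffineOpen (U i)) (hcov : ∀ y, ∃ i, y ∈ U i)
    (h : ∀ i, Function.Bijective (φ.app (U i))) : IsIso φ := by
  have hz : ∀ {P : Y.Modules}, Coh.IsQCoh P → (∀ i (z : Γ(P, U i)), z = 0) → IsZero P :=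
    fun hP hP0 => QCoh.isZero_of_cover hP U hU hcov fun i => subsingleton_of_forall_eq 0 (hP0 i)
  have : Mono φ := by
    refine Preadditive.mono_of_kernel_zero ?_
    refine IsZero.eq_of_src (hz (QCoh.isQCoh_kernel hM hN φ) fun i z => ?_) _ _
    refine QCoh.app_injective (kernel.ι φ) (U i) ((h i).1 ?_)
    have := congrArg (fun ψ => Scheme.Modules.Hom.app ψ (U i) z) (kernel.condition φ)
    rw [map_zero, map_zero]
    exact this
  have : Epi φ := by
    refine Preadditive.epi_of_cokernel_zero ?_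
    refine IsZero.eq_of_tgt (hz (QCoh.isQCoh_cokernel hM hN φ) fun i z => ?_) _ _
    obtain ⟨y, rfl⟩ := QCoh.app_surjective_of_epi hN (QCoh.isQCoh_cokernel hM hN φ)
      (cokernel.π φ) (hU i) z
    obtain ⟨w, rfl⟩ := (h i).2 y
    exact congrArg (fun ψ => Scheme.Modules.Hom.app ψ (U i) w) (cokernel.condition φ)
  exact isIso_of_mono_of_epi φ

variable {k k' : Type u} [Field k] [Field k'] [Algebra k k'] {X : Scheme.{u}} (p : X ⟶ Spec (CommRingCat.of k))
  (K : Type u) [Field K] [Algebra k K]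

/-- The map of base changes induced by an embedding of extensions. -/
noncomputable def qe (σ : k' →ₐ[k] K) : W4bk4gw11416.baseChange p K ⟶ W4bk4gw11416.baseChange p k' :=
  pullback.lift (proj p K) (pullback.snd p (Spec.map (CommRingCat.ofHom (algebraMap k K))) ≫ Spec.map (CommRingCat.ofHom (σ : k' →+* K))) (by
    rw [pullback.condition, Category.assoc, ← Spec.map_comp, ← CommRingCat.ofHom_comp, AlgHom.comp_algebraMap])

theorem qe_proj (σ : k' →ₐ[k] K) : qe p K σ ≫ proj p k' = proj p K := pullback.lift_fst _ _ _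

theorem isPullback_qe (σ : k' →ₐ[k] K) :
    IsPullback (qe p K σ) (pullback.snd p (Spec.map (CommRingCat.ofHom (algebraMap k K))))
      (pullback.snd p (Spec.map (CommRingCat.ofHom (algebraMap k k'))))
      (Spec.map (CommRingCat.ofHom (σ : k' →+* K))) := by
  refine IsPullback.of_right ?_ (pullback.lift_snd _ _ _)
    (IsPullback.of_hasPullback p (Spec.map (CommRingCat.ofHom (algebraMap k k'))))
  rw [← Spec.map_comp, ← CommRingCat.ofHom_comp, AlgHom.comp_algebraMap]
  exact (qe_proj p K σ).symm ▸ IsPullback.of_hasPullback p (Spec.map (CommRingCat.ofHom (algebraMap k K)))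

variable (L : (W4bk4gw11416.baseChange p k').Modules)

/-- The component at an embedding. -/
noncomputable def phi (σ : k' →ₐ[k] K) :
    bcMod p K ((Scheme.Modules.pushforward (proj p k')).obj L) ⟶ (Scheme.Modules.pullback (qe p K σ)).obj L :=
  ((Scheme.Modules.pullbackPushforwardAdjunction (proj p K)).homEquiv _ _).symm
    ((Scheme.Modules.pushforward (proj p k')).map ((Scheme.Modules.pullbackPushforwardAdjunction (qe p K σ)).unit.app L) ≫
      (Scheme.Modules.pushforwardComp (qe p K σ) (proj p k')).hom.app _ ≫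
      (Scheme.Modules.pushforwardCongr (qe_proj p K σ)).hom.app _)

theorem preimage_qe (σ : k' →ₐ[k] K) (V : X.Opens) :
    proj p K ⁻¹ᵁ V = qe p K σ ⁻¹ᵁ (proj p k' ⁻¹ᵁ V) := by
  rw [← Scheme.Hom.comp_preimage, qe_proj]

theorem phi_eta (σ : k' →ₐ[k] K) (V : X.Opens) (x : Γ(L, proj p k' ⁻¹ᵁ V)) :
    (phi p K L σ).app (proj p K ⁻¹ᵁ V)
        (eta (proj p K) ((Scheme.Modules.pushforward (proj p k')).obj L) V x) =
      ((Scheme.Modules.pullback (qe p K σ)).obj L).presheaf.map (eqToHom (preimage_qe p K σ V)).op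
        (eta (qe p K σ) L (proj p k' ⁻¹ᵁ V) x) := by
  have h := Equiv.apply_symm_apply ((Scheme.Modules.pullbackPushforwardAdjunction (proj p K)).homEquiv
    ((Scheme.Modules.pushforward (proj p k')).obj L) ((Scheme.Modules.pullback (qe p K σ)).obj L))
    ((Scheme.Modules.pushforward (proj p k')).map ((Scheme.Modules.pullbackPushforwardAdjunction (qe p K σ)).unit.app L) ≫
      (Scheme.Modules.pushforwardComp (qe p K σ) (proj p k')).hom.app _ ≫
      (Scheme.Modules.pushforwardCongr (qe_proj p K σ)).hom.app _)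
  rw [Adjunction.homEquiv_unit] at h
  exact congr(($h).app V x)

variable [FiniteDimensional k k'] [Algebra.IsSeparable k k'] [IsAlgClosed K]

/-- The comparison map of the direct image with the conjugates. -/
noncomputable def phiAll :
    bcMod p K ((Scheme.Modules.pushforward (proj p k')).obj L) ⟶
      ⨁ fun i : Fin (Fintype.card (k' →ₐ[k] K)) =>
        (Scheme.Modules.pullback (qe p K ((Fintype.equivFin (k' →ₐ[k] K)).symm i))).obj L :=
  biproduct.lift fun i => phi p K L ((Fintype.equivFin (k' →ₐ[k] K)).symm i)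

theorem bijective_biproduct_app {Y : Scheme.{u}} {n : ℕ} (F : Fin n → Y.Modules) (W : Y.Opens) :
    Function.Bijective fun (x : Γ(⨁ F, W)) (i : Fin n) => (biproduct.π F i).app W x := by
  have htot : ∀ x : Γ(⨁ F, W), x = ∑ i, (biproduct.ι F i).app W ((biproduct.π F i).app W x) := fun x => by
    let ev : ((⨁ F) ⟶ ⨁ F) →+ Γ(⨁ F, W) := AddMonoidHom.mk' (fun f => f.app W x) (fun f g => rfl)
    have h : ev (∑ i, biproduct.π F i ≫ biproduct.ι F i) = x := by rw [biproduct.total]; rfl
    rw [map_sum] at h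
    exact h.symm
  refine ⟨fun x y h => ?_, fun z => ⟨∑ i, (biproduct.ι F i).app W (z i), funext fun j => ?_⟩⟩
  · rw [htot x, htot y]
    exact Finset.sum_congr rfl fun i _ => congrArg _ (congrFun h i)
  · show (biproduct.π F j).app W (∑ i, _) = _
    rw [map_sum, Finset.sum_eq_single j]
    · exact congr(($(biproduct.ι_π_self F j)).app W (z j))
    · exact fun i _ hi => congr(($(biproduct.ι_π_ne F hi)).app W (z i))
    · exact fun h => absurd (Finset.mem_univ j) h

theorem bijective_phiAll_app (hL : Coh.IsQCoh L) {V : X.Opens} (hV : IsAffineOpen V) :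
    Function.Bijective ((phiAll p K L).app (proj p K ⁻¹ᵁ V)) := by
  classical
  letI : X.Over (Spec (CommRingCat.of k)) := ⟨p⟩
  letI := overBC p K
  letI := overBC p k'
  let q := proj p K
  let π := proj p k'
  let G := (Scheme.Modules.pushforward π).obj L
  let W := q ⁻¹ᵁ V
  let ρ := Coh.toGlobal p
  let ρ₁ := Coh.toGlobal (pullback.snd p (Spec.map (CommRingCat.ofHom (algebraMap k k'))))
  let ρ₂ := Coh.toGlobal (pullback.snd p (Spec.map (CommRingCat.ofHom (algebraMap k K))))
  let P : (k' →ₐ[k] K) → (W4bk4gw11416.baseChange p K).Modules := fun σ => (Scheme.Modules.pullback (qe p K σ)).obj L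
  haveI : IsAffineHom π := MorphismProperty.pullback_fst _ _ inferInstance
  have hG : Coh.IsQCoh G := QCoh.isQCoh_pushforward π hL
  have hV' : IsAffineOpen (π ⁻¹ᵁ V) := hV.preimage π
  letI : Module k' Γ(L, π ⁻¹ᵁ V) := QCoh.secModule ρ₁ L (π ⁻¹ᵁ V)
  letI : Module k' Γ(G, V) := QCoh.secModule ρ₁ L (π ⁻¹ᵁ V)
  letI : Module k Γ(G, V) := QCoh.secModule ρ G V
  haveI : IsScalarTower k k' Γ(G, V) := .of_algebraMap_smul fun a x => by
    show ((W4bk4gw11416.baseChange p k').presheaf.map (homOfLE (le_top : π ⁻¹ᵁ V ≤ ⊤)).op (ρ₁ (algebraMap k k' a))) •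
        (show Γ(L, π ⁻¹ᵁ V) from x) = π.app V (X.presheaf.map (homOfLE (le_top : V ≤ ⊤)).op (ρ a)) • (show Γ(L, π ⁻¹ᵁ V) from x)
    rw [QCoh.app_topRes, QCoh.toGlobal_comm p _ π
      (IsPullback.of_hasPullback p (Spec.map (CommRingCat.ofHom (algebraMap k k')))).w a]
  letI := QCoh.secModule ρ₂ (bcMod p K G) W
  letI := QCoh.secModule (ρ₂.comp (algebraMap k K)) (bcMod p K G) W
  haveI : IsScalarTower k K Γ(bcMod p K G, W) := .of_algebraMap_smul fun _ _ => rfl
  letI : ∀ σ, Module K Γ(P σ, W) := fun σ => QCoh.secModule ρ₂ (P σ) W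
  have h0 := QCoh.isAffineBC_of_isPullback (pA := p) (pB := pullback.snd p (Spec.map (CommRingCat.ofHom (algebraMap k K))))
    (φ := q) (IsPullback.of_hasPullback p (Spec.map (CommRingCat.ofHom (algebraMap k K)))) hG V hV
  let f₀ : Γ(G, V) →ₗ[k] Γ(bcMod p K G, W) :=
    QCoh.secLin ρ ρ₂ q ((Scheme.Modules.pullbackPushforwardAdjunction q).unit.app G)
      (QCoh.toGlobal_comm p _ q (IsPullback.of_hasPullback p (Spec.map (CommRingCat.ofHom (algebraMap k K)))).w) V W le_rfl
  have hf₀ : ∀ x, f₀ x = eta q G V x := fun x =>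
    congr(($((bcMod p K G).presheaf.map_id (op W))) (eta q G V x))
  let T : ∀ σ, Γ(P σ, qe p K σ ⁻¹ᵁ (π ⁻¹ᵁ V)) → Γ(P σ, W) := fun σ t =>
    (P σ).presheaf.map (eqToHom (preimage_qe p K σ V)).op t
  let f : ∀ σ, Γ(G, V) →+ Γ(P σ, W) := fun σ => AddMonoidHom.mk' (fun x => T σ (eta (qe p K σ) L (π ⁻¹ᵁ V) x))
    (fun x y => (congrArg (T σ) (eta_add L (π ⁻¹ᵁ V) x y)).trans
      (map_add ((P σ).presheaf.map (eqToHom (preimage_qe p K σ V)).op).hom _ _))
  have hT : ∀ σ (c : K) (t : Γ(P σ, qe p K σ ⁻¹ᵁ (π ⁻¹ᵁ V))),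
      T σ (scal (W4bk4gw11416.baseChange p K) c (qe p K σ ⁻¹ᵁ (π ⁻¹ᵁ V)) • t) = c • T σ t := fun σ c t => by
    show (P σ).presheaf.map _ (_ • t) = _
    rw [Scheme.Modules.map_smul, scal_res]
    rfl
  have hTb : ∀ σ, Function.Bijective (T σ) := fun σ => by
    haveI : IsIso ((P σ).presheaf.map (eqToHom (preimage_qe p K σ V)).op) := inferInstance
    exact (ConcreteCategory.isIso_iff_bijective _).1 inferInstance
  have hf : ∀ σ (a : k') (v : Γ(G, V)), f σ (a • v) = σ a • f σ v := fun σ a v => by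
    letI : Algebra k' K := (σ : k' →+* K).toAlgebra
    show T σ (eta (qe p K σ) L (π ⁻¹ᵁ V) ((_ : Γ(W4bk4gw11416.baseChange p k', π ⁻¹ᵁ V)) • (show Γ(L, π ⁻¹ᵁ V) from v))) = _
    rw [eta_smul]
    refine Eq.trans ?_ (hT σ (σ a) _)
    refine congrArg (fun r => T σ (r • _)) ?_
    refine (QCoh.app_topRes (qe p K σ) (π ⁻¹ᵁ V) (ρ₁ a)).trans ?_
    exact congrArg _ (QCoh.toGlobal_comm _ _ (qe p K σ) (isPullback_qe p K σ).w a).symm
  let Φ : Γ(bcMod p K G, W) →ₗ[K] ∀ σ, Γ(P σ, W) :=
    LinearMap.pi fun σ =>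
      { toFun := fun x => (phi p K L σ).app W x
        map_add' := fun x y => map_add ((phi p K L σ).app W).hom x y
        map_smul' := fun c x => (phi p K L σ).app_smul _ x }
  have hΦ : ∀ v σ, Φ (f₀ v) σ = f σ v := fun v σ => by
    show (phi p K L σ).app W (f₀ v) = _
    rw [hf₀]
    exact phi_eta p K L σ V v
  have hbasis : ∀ σ, Submodule.span K (Set.range (f σ)) = ⊤ ∧
      LinearIndependent K (f σ ∘ Module.Free.chooseBasis k' Γ(G, V)) := fun σ => by
    letI : Algebra k' K := (σ : k' →+* K).toAlgebra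
    letI := QCoh.secModule ρ₂ (P σ) (qe p K σ ⁻¹ᵁ (π ⁻¹ᵁ V))
    letI := QCoh.secModule (ρ₂.comp (algebraMap k' K)) (P σ) (qe p K σ ⁻¹ᵁ (π ⁻¹ᵁ V))
    haveI : IsScalarTower k' K Γ(P σ, qe p K σ ⁻¹ᵁ (π ⁻¹ᵁ V)) := .of_algebraMap_smul fun _ _ => rfl
    have hc := QCoh.isAffineBC_of_isPullback (pA := pullback.snd p (Spec.map (CommRingCat.ofHom (algebraMap k k'))))
      (pB := pullback.snd p (Spec.map (CommRingCat.ofHom (algebraMap k K)))) (φ := qe p K σ)
      (isPullback_qe p K σ) hL (π ⁻¹ᵁ V) hV'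
    let l := QCoh.secLin ρ₁ ρ₂ (qe p K σ) ((Scheme.Modules.pullbackPushforwardAdjunction (qe p K σ)).unit.app L)
      (QCoh.toGlobal_comm _ _ (qe p K σ) (isPullback_qe p K σ).w) (π ⁻¹ᵁ V) _ le_rfl
    have hl : ∀ x, l x = eta (qe p K σ) L (π ⁻¹ᵁ V) x := fun x =>
      congr(($((P σ).presheaf.map_id (op (qe p K σ ⁻¹ᵁ (π ⁻¹ᵁ V))))) (eta (qe p K σ) L (π ⁻¹ᵁ V) x))
    let e : Γ(P σ, qe p K σ ⁻¹ᵁ (π ⁻¹ᵁ V)) ≃ₗ[K] Γ(P σ, W) := LinearEquiv.ofBijective
      { toFun := T σ
        map_add' := fun x y => map_add ((P σ).presheaf.map (eqToHom (preimage_qe p K σ V)).op).hom x y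
        map_smul' := fun c x => by rw [RingHom.id_apply]; exact hT σ c x } (hTb σ)
    let v := Module.Free.chooseBasis k' Γ(G, V)
    let l' : Γ(G, V) →ₗ[k'] Γ(P σ, qe p K σ ⁻¹ᵁ (π ⁻¹ᵁ V)) := l
    have hc' : IsBaseChange K l' := hc
    let B : Module.Basis _ K Γ(P σ, W) := (Algebra.TensorProduct.basis K v).map (hc'.equiv.trans e)
    have hB : ∀ i, B i = f σ (v i) := fun i => by
      show e (hc'.equiv (Algebra.TensorProduct.basis K v i)) = _
      rw [Algebra.TensorProduct.basis_apply, IsBaseChange.equiv_tmul, one_smul]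
      exact congrArg e (hl _)
    refine ⟨?_, ?_⟩
    · rw [eq_top_iff, ← B.span_eq]
      exact Submodule.span_mono (Set.range_subset_iff.2 fun i => ⟨v i, (hB i).symm⟩)
    · rw [show f σ ∘ v = B from funext fun i => (hB i).symm]
      exact B.linearIndependent
  have hbij : Function.Bijective Φ := bijective_split f₀ (show IsBaseChange K f₀ from h0) f hf
    (fun σ => (hbasis σ).1) (fun σ => (hbasis σ).2) Φ hΦ
  let F : Fin (Fintype.card (k' →ₐ[k] K)) → (W4bk4gw11416.baseChange p K).Modules :=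
    fun i => P ((Fintype.equivFin (k' →ₐ[k] K)).symm i)
  let e := (Fintype.equivFin (k' →ₐ[k] K)).symm
  have key : (fun (x : Γ(⨁ F, W)) i => (biproduct.π F i).app W x) ∘ (phiAll p K L).app W =
      (Equiv.piCongrLeft' (fun σ => Γ(P σ, W)) e.symm) ∘ Φ := by
    funext x i
    exact congr(($(biproduct.lift_π (fun i => phi p K L (e i)) i)).app W x)
  have h2 : Function.Bijective ((fun (x : Γ(⨁ F, W)) i => (biproduct.π F i).app W x) ∘ (phiAll p K L).app W) := by
    rw [key]
    exact (Equiv.bijective _).comp hbij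
  exact (Function.Bijective.of_comp_iff' (bijective_biproduct_app F W) _).1 h2

theorem isIso_phiAll (hL : Coh.IsCoh L) [IsProper p] : IsIso (phiAll p K L) := by
  haveI : IsAffineHom (proj p k') := MorphismProperty.pullback_fst _ _ inferInstance
  haveI : IsAffineHom (proj p K) := MorphismProperty.pullback_fst _ _ inferInstance
  refine isIso_of_bijective_cover (QCoh.isQCoh_pullback _ (QCoh.isQCoh_pushforward _ hL.1))
    (isCoh_biprod_fin _ fun i => ZClosLib.isCoh_pullback _ hL).1 _
    (fun V : X.affineOpens => proj p K ⁻¹ᵁ V.1) (fun V => V.2.preimage _) (fun y => ?_)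
    fun V => bijective_phiAll_app p K L hL.1 V.2
  obtain ⟨_, ⟨V, hV, rfl⟩, hyV, -⟩ :=
    X.isBasis_affineOpens.exists_subset_of_mem_open (Set.mem_univ (proj p K y)) isOpen_univ
  exact ⟨⟨V, hV⟩, hyV⟩

omit [Algebra.IsSeparable k k'] in
/-- The direct image of a finite locally free module is finite locally free. -/
theorem isFinLocFree_push (hL : FlatMod.IsFinLocFree L) :
    FlatMod.IsFinLocFree ((Scheme.Modules.pushforward (proj p k')).obj L) := by
  have h : (algebraMap k k').Finite := RingHom.finite_algebraMap.2 inferInstance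
  haveI : IsFinite (Spec.map (CommRingCat.ofHom (algebraMap k k'))) := (IsFinite.SpecMap_iff _).2 h
  haveI : Flat (Spec.map (CommRingCat.ofHom (algebraMap k k'))) :=
    (HasRingHomProperty.Spec_iff (P := @Flat)).2 (RingHom.flat_algebraMap_iff.2 inferInstance)
  haveI : LocallyOfFinitePresentation (Spec.map (CommRingCat.ofHom (algebraMap k k'))) :=
    (HasRingHomProperty.Spec_iff (P := @LocallyOfFinitePresentation)).2
      (RingHom.FinitePresentation.of_finiteType.1 h.finiteType)
  haveI : IsFinite (proj p k') := MorphismProperty.pullback_fst _ _ inferInstance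
  haveI : Flat (proj p k') := MorphismProperty.pullback_fst _ _ inferInstance
  haveI : LocallyOfFinitePresentation (proj p k') := MorphismProperty.pullback_fst _ _ inferInstance
  exact KFlatLib.isFinLocFree_push_of_finLocFree _ hL

end Groth.Agent.ASB24
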