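import Groth.Agent.CSALib.Index
import Mathlib.FieldTheory.Normal.Closure
import Mathlib.FieldTheory.IsSepClosed

/-!
# Indices of tensor powers
-/

set_option linter.style.haveILetI false

universe u v

open TensorProduct

namespace Groth.Agent.ASB24

open Groth.Agent.CSALib

variable {k : Type u} [Field k] {A : Type v} [Ring A] [Algebra k A] [Algebra.IsCentral k A] [IsSimpleRing A]
  [FiniteDimensional k A]

/-- Congruent exponents modulo the period give similar powers. -/
theorem similar_pow_congr {p : ℕ} (hp : Similar k (⨂[k] _i : Fin p, A) k) {m m' : ℕ} (h : m ≡ m' [MOD p]) :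
    Similar k (⨂[k] _i : Fin m, A) (⨂[k] _i : Fin m', A) := by
  have key : ∀ a : ℕ, Similar k (⨂[k] _i : Fin a, A) (⨂[k] _i : Fin (a % p), A) := fun a => by
    have h0 := (similar_pow_add k A (p * (a / p)) (a % p)).trans
      (((pow_mul_split hp (a / p)).tensor similar_refl).trans similar_tensor_self_left)
    rwa [Nat.div_add_mod] at h0
  have h1 := key m
  rw [show m % p = m' % p from h] at h1
  exact h1.trans (key m').symm

/-- The index of a power depends only on the gcd of the exponent with the period. -/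
theorem index_dvd_of_gcd_dvd {p : ℕ} (hp0 : 0 < p) (hp : Similar k (⨂[k] _i : Fin p, A) k) {m m' : ℕ}
    (h : Nat.gcd m p ∣ m') {r r' : ℕ} (hr : CSAGal.IsIndex k (CSAGal.tpow k A m) r)
    (hr' : CSAGal.IsIndex k (CSAGal.tpow k A m') r') : r' ∣ r := by
  obtain ⟨_, _, _⟩ := centralSimple_pow k A m
  obtain ⟨_, _, _⟩ := centralSimple_pow k A m'
  obtain ⟨b, hb⟩ : ∃ b : ℕ, m * b ≡ m' [MOD p] := by
    obtain ⟨c, rfl⟩ := h
    haveI : NeZero p := ⟨hp0.ne'⟩
    refine ⟨((Nat.gcdA m p * c : ℤ) : ZMod p).val, (ZMod.natCast_eq_natCast_iff _ _ _).1 ?_⟩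
    rw [Nat.cast_mul, ZMod.natCast_zmod_val]
    have hg := congrArg (fun z : ℤ => (z : ZMod p)) (Nat.gcd_eq_gcd_ab m p)
    simp only [Int.cast_natCast, Int.cast_add, Int.cast_mul, ZMod.natCast_self, zero_mul, add_zero] at hg
    push_cast
    rw [← mul_assoc, ← hg]
  obtain ⟨_, _, _⟩ := centralSimple_pow k (⨂[k] _i : Fin m, A) b
  exact index_pow_dvd hr b (isIndex_congr hr' ((similar_pow_mul m b).symm.trans (similar_pow_congr hp hb)))

/-- The index of a split algebra is one. -/
theorem index_eq_one_of_similar {r : ℕ} (hr : CSAGal.IsIndex k A r) (h : Similar k A k) : r = 1 :=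
  index_eq_of_similar hr (d' := 1) (by rw [Module.finrank_self, one_pow]) h

/-- A prime dividing the index lowers the index of the corresponding power. -/
theorem index_pow_prime_dvd {d : ℕ} (h : CSAGal.IsIndex k A d) {q : ℕ} (hq : q.Prime) (hqd : q ∣ d) {e : ℕ}
    (he : CSAGal.IsIndex k (CSAGal.tpow k A q) e) : e * q ∣ d := by
  haveI := Fact.mk hq
  obtain ⟨_, _, _⟩ := centralSimple_pow k A q
  obtain ⟨F, _, _, _, _, hF, hs⟩ := exists_splitting_index h
  let Ω := SeparableClosure F
  haveI : Algebra.IsSeparable k Ω := Algebra.IsSeparable.trans k F Ω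
  haveI : IsSepClosure k Ω := ⟨inferInstance, inferInstance⟩
  haveI : IsGalois k Ω := IsSepClosure.isGalois
  let L := IntermediateField.normalClosure k F Ω
  haveI : IsGalois k L := IsGalois.normalClosure k F Ω
  let ι : F →ₐ[k] L := IsScalarTower.toAlgHom k F L
  let H := IntermediateField.fixingSubgroup ι.fieldRange
  have hH : Nat.card H * d = Nat.card (L ≃ₐ[k] L) := by
    rw [IsGalois.card_fixingSubgroup_eq_finrank, IsGalois.card_aut_eq_finrank,
      show d = Module.finrank k ι.fieldRange from hF.symm.trans (AlgEquiv.ofInjectiveField ι).toLinearEquiv.finrank_eq,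
      mul_comm, Module.finrank_mul_finrank]
  obtain ⟨Q⟩ : Nonempty (Sylow q H) := inferInstance
  obtain ⟨b, hb⟩ := IsPGroup.iff_card.mp Q.isPGroup'
  let Q₁ : Subgroup (L ≃ₐ[k] L) := (Q : Subgroup H).map H.subtype
  have hQ₁ : Nat.card Q₁ = q ^ b :=
    (Nat.card_congr ((Q : Subgroup H).equivMapOfInjective H.subtype H.subtype_injective).symm.toEquiv).trans hb
  have hdvd : q ^ (b + 1) ∣ Nat.card (L ≃ₐ[k] L) := by
    rw [← hH, pow_succ]
    exact mul_dvd_mul (hb ▸ Subgroup.card_subgroup_dvd_card _) hqd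
  obtain ⟨Q₂, hQ₂, hle⟩ := Sylow.exists_subgroup_card_pow_succ hdvd hQ₁
  let M := IntermediateField.fixedField Q₂
  let N := IntermediateField.fixedField Q₁
  have hMN : M ≤ N := IntermediateField.fixedField_antitone hle
  have hFN : ι.fieldRange ≤ N := (IntermediateField.le_iff_le _ _).2 fun g hg => by
    obtain ⟨g', -, rfl⟩ := hg
    exact g'.2
  letI : Algebra M N := (IntermediateField.inclusion hMN).toRingHom.toAlgebra
  haveI : IsScalarTower k M N := IsScalarTower.of_algebraMap_eq fun x => rfl
  letI : Algebra F N := ((IntermediateField.inclusion hFN).comp ι.rangeRestrict).toRingHom.toAlgebra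
  haveI : IsScalarTower k F N := IsScalarTower.of_algebraMap_eq fun x =>
    (((IntermediateField.inclusion hFN).comp ι.rangeRestrict).commutes x).symm
  have hN : Similar N (N ⊗[k] A) N := hs.splitMono N
  haveI : Module.Finite M N := Module.Finite.of_restrictScalars_finite k M N
  have hM1 : Module.finrank k M * q ^ (b + 1) = Nat.card (L ≃ₐ[k] L) := by
    rw [← hQ₂, ← IntermediateField.finrank_fixedField_eq_card Q₂, Module.finrank_mul_finrank,
      IsGalois.card_aut_eq_finrank]
  have hN1 : Module.finrank k N * q ^ b = Nat.card (L ≃ₐ[k] L) := by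
    rw [← hQ₁, ← IntermediateField.finrank_fixedField_eq_card Q₁, Module.finrank_mul_finrank,
      IsGalois.card_aut_eq_finrank]
  have hNM : Module.finrank M N = q := by
    rw [← hN1, ← Module.finrank_mul_finrank k M N, pow_succ', ← mul_assoc] at hM1
    exact (Nat.eq_of_mul_eq_mul_left Module.finrank_pos
      (Nat.eq_of_mul_eq_mul_right (pow_pos hq.pos b) hM1)).symm
  haveI := isCentral_baseChange k A M
  haveI := isSimpleRing_baseChange k A M
  obtain ⟨c, hc⟩ := exists_isIndex M (M ⊗[k] A)
  obtain ⟨c', hc'⟩ : c ∣ q := hNM ▸ dvd_finrank_of_splits hc N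
    ((similar_of_algEquiv (cancelBase (k := k) (A := A) (K := M) N)).trans hN)
  have hq' : Similar M (⨂[(M : Type u)] _i : Fin q, (M ⊗[k] A : Type _)) M := by
    rw [hc']
    exact pow_mul_split (similar_pow_index hc) c'
  have heM : e ∣ Module.finrank k M := dvd_finrank_of_splits he M ((similar_baseChange_pow M q).trans hq')
  obtain ⟨w, hw⟩ := index_pow_dvd h q he
  have hqw : q ∣ w := by
    by_contra hqw
    let u := (Q : Subgroup H).index
    have hu : ¬ q ∣ u := Q.not_dvd_index
    have hMu : Module.finrank k M * q = d * u := by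
      refine Nat.eq_of_mul_eq_mul_right (pow_pos hq.pos b) ?_
      have h3 : u * q ^ b = Nat.card H := hb ▸ Subgroup.index_mul_card _
      rw [mul_assoc, ← pow_succ', hM1, ← hH, ← h3]
      ring
    have he0 : 0 < e := he.1
    have h1 : e * q ∣ e * (w * u) := by
      rw [← mul_assoc, ← hw, ← hMu]
      exact mul_dvd_mul_right heM q
    exact ((hq.dvd_mul).1 ((Nat.mul_dvd_mul_iff_left he0).1 h1)).elim hqw hu
  rw [hw]
  exact mul_dvd_mul_left e hqw

/-- For an algebra whose index equals its period the index of a power is the period of the power. -/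
theorem index_pow_eq {p : ℕ} (hp : CSAGal.IsPeriod k A p) (hi : CSAGal.IsIndex k A p) (g : ℕ) (hg : g ∣ p)
    {e : ℕ} (he : CSAGal.IsIndex k (CSAGal.tpow k A g) e) : e * g = p := by
  have low : ∀ (g : ℕ) (e : ℕ), g ∣ p → CSAGal.IsIndex k (CSAGal.tpow k A g) e → p ∣ g * e := fun g e _ he => by
    obtain ⟨_, _, _⟩ := centralSimple_pow k A g
    exact (isPeriod_iff hp _).1 ((similar_pow_mul g e).trans (similar_pow_index he))
  suffices key : ∀ g e : ℕ, g ∣ p → CSAGal.IsIndex k (CSAGal.tpow k A g) e → e * g ∣ p from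
    Nat.dvd_antisymm (key g e hg he) (mul_comm g e ▸ low g e hg he)
  intro g
  induction g using Nat.strong_induction_on with
  | _ g ih =>
    intro e hg he
    rcases eq_or_ne g 1 with rfl | hg1
    · obtain ⟨_, _, _⟩ := centralSimple_pow k A 1
      rw [isIndex_unique (A := CSAGal.tpow k A 1) he (isIndex_congr hi (similar_pow_one k A)), mul_one]
    · obtain ⟨q, hq, g', rfl⟩ : ∃ q : ℕ, q.Prime ∧ q ∣ g := Nat.exists_prime_and_dvd hg1
      have hg0 : 0 < q * g' := Nat.pos_of_dvd_of_pos hg hp.1
      have hg'0 : 0 < g' := Nat.pos_of_mul_pos_left hg0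
      obtain ⟨_, _, _⟩ := centralSimple_pow k A g'
      obtain ⟨e', he'⟩ := exists_isIndex k (CSAGal.tpow k A g')
      have h' := Nat.dvd_antisymm
        (ih g' (lt_mul_of_one_lt_left hg'0 hq.one_lt) e' ((dvd_mul_left g' q).trans hg) he')
        (mul_comm g' e' ▸ low g' e' ((dvd_mul_left g' q).trans hg) he')
      have hq' : q ∣ e' := Nat.dvd_of_mul_dvd_mul_right hg'0 (h'.symm ▸ hg)
      obtain ⟨_, _, _⟩ := centralSimple_pow k A (q * g')
      obtain ⟨_, _, _⟩ := centralSimple_pow k (⨂[k] _i : Fin g', A) q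
      have h1 := index_pow_prime_dvd he' hq hq' (isIndex_congr he
        ((mul_comm g' q ▸ similar_pow_mul g' q).symm))
      rw [← mul_assoc, ← h']
      exact mul_dvd_mul_right h1 g'

end Groth.Agent.ASB24
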