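import Groth.Agent.ASB24.TautAct
import Groth.Agent.ASB24.IndexPow

/-!
# Multiplicities on Severi–Brauer varieties
-/

set_option linter.style.haveILetI false
set_option backward.isDefEq.respectTransparency false
set_option backward.isDefEq.respectTransparency.types false

universe u

open CategoryTheory CategoryTheory.Limits AlgebraicGeometry TensorProduct

namespace Groth.Agent.ASB24

open Groth.Agent Groth.Agent.CSALib

variable {k : Type u} [Field k] {A : Type u} [Ring A] [Algebra k A] [Algebra.IsCentral k A] [IsSimpleRing A]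

/-- A bundle with multiplicity one is invertible. -/
theorem isInvertible_of_twPow {X : Scheme.{u}} {p : X ⟶ Spec (CommRingCat.of k)} {K : Type u} [Field K]
    [Algebra k K] {n : ℕ} (e : BrSev.Splitting p K n) {W : X.Modules} (hW : FlatMod.IsFinLocFree W) {j : ℤ}
    (hWt : BrSev.IsTwPow e j 1 W) : PicF.IsInvertible W := fun x => by
  obtain ⟨a⟩ := hWt
  obtain ⟨U, hx, ⟨b⟩⟩ := rank_of_bc p K hW (isInvertible_twist e j) a x
  exact ⟨U, hx, ⟨b ≪≫ coproductUniqueIso fun _ : Fin 1 => Coh.structureModule (U : Scheme.{u})⟩⟩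

/-- Powers with exponents having equal gcd with the period have equal index. -/
theorem index_eq_of_gcd_eq [FiniteDimensional k A] {p : ℕ} (hp : CSAGal.IsPeriod k A p) {m m' : ℕ}
    (h : Nat.gcd m p = Nat.gcd m' p) {r r' : ℕ} (hr : CSAGal.IsIndex k (CSAGal.tpow k A m) r)
    (hr' : CSAGal.IsIndex k (CSAGal.tpow k A m') r') : r = r' :=
  have hs := (splits_pow_iff p).1 hp.2.1
  Nat.dvd_antisymm (index_dvd_of_gcd_dvd hp.1 hs (h ▸ Nat.gcd_dvd_left m p) hr' hr)
    (index_dvd_of_gcd_dvd hp.1 hs (h.symm ▸ Nat.gcd_dvd_left m' p) hr hr')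

/-- If index and period agree, the index of a power is the period of the power. -/
theorem index_pow_eq_div [FiniteDimensional k A] {p : ℕ} (hp : CSAGal.IsPeriod k A p)
    (hi : CSAGal.IsIndex k A p) {m r : ℕ} (hr : CSAGal.IsIndex k (CSAGal.tpow k A m) r) :
    r = p / Nat.gcd p m := by
  obtain ⟨_, _, _⟩ := centralSimple_pow k A (Nat.gcd p m)
  obtain ⟨e, he⟩ := exists_isIndex k (CSAGal.tpow k A (Nat.gcd p m))
  have h1 : r = e := index_eq_of_gcd_eq hp (by rw [Nat.gcd_comm m p, Nat.gcd_eq_left (Nat.gcd_dvd_left p m)]) hr he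
  have h2 := index_pow_eq hp hi _ (Nat.gcd_dvd_left p m) he
  rw [h1]
  exact (Nat.div_eq_of_eq_mul_left (Nat.gcd_pos_of_pos_left m hp.1) h2.symm).symm

/-- A non-split algebra of prime degree has period and index equal to the degree. -/
theorem period_index_of_prime [FiniteDimensional k A] {n : ℕ} (hn : n.Prime) (hA : Module.finrank k A = n * n)
    (hns : ¬ Curves.Splits k A k) : CSAGal.IsPeriod k A n ∧ CSAGal.IsIndex k A n := by
  obtain ⟨d, hd⟩ := exists_isIndex k A
  have hne : d ≠ 1 := fun h1 => hns (splits_self_iff.2 (similar_of_index_one (h1 ▸ hd)))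
  have hdn : d ∣ n := by
    obtain ⟨_, m, D, _, _, _, hdim, ⟨g⟩⟩ := id hd
    have h := g.toLinearEquiv.finrank_eq
    rw [hA, Module.finrank_matrix, hdim, Fintype.card_fin, show m * m * d ^ 2 = (m * d) * (m * d) by ring] at h
    exact ⟨m, (Nat.mul_self_inj.1 h).trans (mul_comm m d)⟩
  obtain rfl : d = n := ((Nat.dvd_prime hn).1 hdn).resolve_left hne
  obtain ⟨p, hp0, hpd, hp⟩ := exists_least_pow hn.pos (similar_pow_index hd)
  obtain rfl : p = d := ((Nat.dvd_prime hn).1 hpd).resolve_left fun h1 =>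
    hns (splits_self_iff.2 ((similar_pow_one k A).symm.trans ((hp 1).2 (h1 ▸ dvd_rfl))))
  exact ⟨⟨hp0, (splits_pow_iff p).2 ((hp p).2 dvd_rfl), fun e' h1 h2 h3 =>
    absurd (Nat.le_of_dvd h1 ((hp e').1 ((splits_pow_iff e').1 h3))) (by omega)⟩, hd⟩

end Groth.Agent.ASB24
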