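import Groth.Prelude.Def_W4c1astiltbs12AS
import Groth.Agent.ASB24.BcDescent
import Groth.Agent.ASB24.FiniteHom
import Groth.Agent.KSLib.Cancel

/-!
# The standard base change square
-/

set_option linter.style.haveILetI false
set_option backward.isDefEq.respectTransparency false
set_option backward.isDefEq.respectTransparency.types false

universe u

open CategoryTheory CategoryTheory.Limits AlgebraicGeometry W4c1astiltbs12

namespace Groth.Agent.ASB24

attribute [local instance] Abelian.hasFiniteBiproducts

variable {k : Type u} [Field k] {X : Scheme.{u}} (p : X ⟶ Spec (CommRingCat.of k))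
  (K : Type u) [CommRing K] [Algebra k K]

/-- The base change lives over the extension. -/
@[reducible] noncomputable def overBC : (W4bk4gw11416.baseChange p K).Over (Spec (CommRingCat.of K)) :=
  ⟨pullback.snd p (Spec.map (CommRingCat.ofHom (algebraMap k K)))⟩

theorem isPullback_proj :
    letI : X.Over (Spec (CommRingCat.of k)) := ⟨p⟩
    letI := overBC p K
    IsPullback (proj p K) (W4bk4gw11416.baseChange p K ↘ Spec (CommRingCat.of K))
      (X ↘ Spec (CommRingCat.of k)) (Spec.map (CommRingCat.ofHom (algebraMap k K))) :=
  IsPullback.of_hasPullback p (Spec.map (CommRingCat.ofHom (algebraMap k K)))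

/-- Coherent modules which become isomorphic over an algebraic extension are isomorphic. -/
theorem nonempty_iso_of_bc [IsProper p] (K : Type u) [Field K] [Algebra k K] [Algebra.IsAlgebraic k K]
    {F G : X.Modules} (hF : Coh.IsCoh F) (hG : Coh.IsCoh G) (e : bcMod p K F ≅ bcMod p K G) :
    Nonempty (F ≅ G) := by
  letI : X.Over (Spec (CommRingCat.of k)) := ⟨p⟩
  haveI : IsProper (X ↘ Spec (CommRingCat.of k)) := ‹IsProper p›
  haveI : CompactSpace X := QuasiCompact.compactSpace_of_compactSpace p
  letI := overBC p K
  obtain ⟨d, hd, ⟨φ⟩⟩ := exists_pow_iso (q := proj p K) (isPullback_proj p K) hF hG e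
  exact KSLib.nonempty_iso_of_pow k (fun A : X.Modules => Coh.IsCoh A) (fun h => isCoh_of_biprod h)
    (fun e h => SheafHomX.isCoh_of_iso e h) (fun A hA => finite_hom hA hA) hF hG hd φ

end Groth.Agent.ASB24
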