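import Mathlib.FieldTheory.PrimitiveElement
import Mathlib.FieldTheory.Fixed
import Mathlib.FieldTheory.IsAlgClosed.Basic
import Mathlib.RingTheory.IsTensorProduct
import Mathlib.RingTheory.TensorProduct.Free

/-!
# Base change of modules over a separable extension splits along the embeddings
-/

universe u

open TensorProduct

namespace Groth.Agent.ASB24

variable {k k' K : Type u} [Field k] [Field k'] [Algebra k k'] [FiniteDimensional k k'] [Algebra.IsSeparable k k']
  [Field K] [IsAlgClosed K] [Algebra k K]

/-- Prescribing the values of a combination at all embeddings. -/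
theorem bijective_embeddings {ι : Type*} [Fintype ι] (b : Module.Basis ι k k') :
    Function.Bijective fun (c : ι → K) (σ : k' →ₐ[k] K) => ∑ l, c l * σ (b l) := by
  classical
  let Ψ : (ι → K) →ₗ[K] ((k' →ₐ[k] K) → K) :=
    Fintype.linearCombination K (fun l (σ : k' →ₐ[k] K) => σ (b l))
  have hΨ : (Ψ : (ι → K) → _) = fun (c : ι → K) (σ : k' →ₐ[k] K) => ∑ l, c l * σ (b l) := by
    funext c σ
    simp [Ψ, Fintype.linearCombination_apply]
  rw [← hΨ]
  have hd : Module.finrank K (ι → K) = Module.finrank K ((k' →ₐ[k] K) → K) := by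
    rw [Module.finrank_fintype_fun_eq_card, Module.finrank_fintype_fun_eq_card, AlgHom.card k k' K,
      Module.finrank_eq_card_basis b]
  have hs : Function.Surjective Ψ := by
    rw [← LinearMap.range_eq_top]
    by_contra h
    obtain ⟨φ, hφ0, hφ⟩ := Submodule.exists_le_ker_of_lt_top _ (lt_top_iff_ne_top.2 h)
    refine hφ0 ?_
    let a : (k' →ₐ[k] K) → K := fun σ => φ (Pi.single σ 1)
    have hφa : ∀ v, φ v = ∑ σ, v σ * a σ := fun v => by
      conv_lhs => rw [pi_eq_sum_univ' v]
      simp [a, map_sum]
    have h0 : ∑ σ, a σ • (AlgHom.toLinearMap σ : k' →ₗ[k] K) = 0 := by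
      refine b.ext fun l => ?_
      have h1 : φ (Ψ (Pi.single l 1)) = 0 := hφ (LinearMap.mem_range_self Ψ _)
      rw [hφa] at h1
      simp [Ψ, Fintype.linearCombination_apply_single] at h1
      simp [LinearMap.sum_apply, mul_comm (a _), h1]
    have ha := Fintype.linearIndependent_iff.1 (linearIndependent_toLinearMap k k' K) a h0
    refine LinearMap.ext fun v => ?_
    rw [hφa]
    simp [ha]
  exact ⟨(LinearMap.injective_iff_surjective_of_finrank_eq_finrank hd).2 hs, hs⟩

variable {V : Type*} [AddCommGroup V] [Module k' V] [Module k V] [IsScalarTower k k' V]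
  {W' : Type*} [AddCommGroup W'] [Module K W'] [Module k W'] [IsScalarTower k K W']
  {W : (k' →ₐ[k] K) → Type*} [∀ σ, AddCommGroup (W σ)] [∀ σ, Module K (W σ)]

/-- Base change along `k → K` of a `k'`-module is the product of the base changes along the embeddings. -/
theorem bijective_split (f₀ : V →ₗ[k] W') (h₀ : IsBaseChange K f₀)
    (f : ∀ σ, V →+ W σ) (hf : ∀ σ (a : k') v, f σ (a • v) = σ a • f σ v)
    (hspan : ∀ σ, Submodule.span K (Set.range (f σ)) = ⊤)
    (hind : ∀ σ, LinearIndependent K (f σ ∘ Module.Free.chooseBasis k' V))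
    (Φ : W' →ₗ[K] ∀ σ, W σ) (hΦ : ∀ v σ, Φ (f₀ v) σ = f σ v) : Function.Bijective Φ := by
  classical
  let b := Module.finBasis k k'
  let v := Module.Free.chooseBasis k' V
  let bb := b.smulTower v
  refine ⟨?_, ?_⟩
  · rw [injective_iff_map_eq_zero]
    intro x hx
    obtain ⟨y, rfl⟩ := h₀.equiv.surjective x
    obtain ⟨c, rfl⟩ := (TensorProduct.equivFinsuppOfBasisRight bb).symm.surjective y
    suffices c = 0 by simp [this]
    rw [TensorProduct.equivFinsuppOfBasisRight_symm_apply, map_finsuppSum, map_finsuppSum] at hx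
    let s : Finset _ := c.support.image Prod.snd
    have key : ∀ σ : k' →ₐ[k] K, ∀ i ∈ s, ∑ l, c (l, i) * σ (b l) = 0 := by
      intro σ
      refine linearIndependent_iff'.1 (hind σ) s (fun i => ∑ l, c (l, i) * σ (b l)) ?_
      have h := congrFun hx σ
      rw [Pi.zero_apply, Finsupp.sum, Finset.sum_apply] at h
      have h2 : ∀ p : Fin (Module.finrank k k') × _, Φ (h₀.equiv (c p ⊗ₜ bb p)) σ =
          (c p * σ (b p.1)) • f σ (v p.2) := fun p => by
        rw [IsBaseChange.equiv_tmul, map_smul, Pi.smul_apply, hΦ, Module.Basis.smulTower_apply, hf, smul_smul]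
      simp only [h2] at h
      rw [Finset.sum_subset (show c.support ⊆ Finset.univ ×ˢ s from fun p hp =>
        Finset.mem_product.2 ⟨Finset.mem_univ _, Finset.mem_image_of_mem _ hp⟩)
        (fun p _ hp => by simp [Finsupp.notMem_support_iff.1 hp]), Finset.sum_product_right] at h
      simp only [Function.comp_apply, Finset.sum_smul]
      exact h
    ext ⟨l, i⟩
    by_cases hi : i ∈ s
    · have := (bijective_embeddings (K := K) b).1 (a₁ := fun l => c (l, i)) (a₂ := 0)
        (funext fun σ => by simpa using key σ i hi)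
      exact congrFun this l
    · refine Finsupp.notMem_support_iff.1 fun h => hi (Finset.mem_image_of_mem _ h)
  · rw [← LinearMap.range_eq_top, eq_top_iff]
    rintro w -
    rw [← Finset.univ_sum_single w]
    refine Submodule.sum_mem _ fun τ _ => ?_
    have hτ : w τ ∈ Submodule.span K (Set.range (f τ)) := hspan τ ▸ Submodule.mem_top
    have : Submodule.span K (Set.range (f τ)) ≤ (LinearMap.range Φ).comap (LinearMap.single K W τ) := by
      rw [Submodule.span_le]
      rintro _ ⟨u, rfl⟩
      obtain ⟨c, hc⟩ := (bijective_embeddings (K := K) b).2 (Pi.single τ (1 : K))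
      refine ⟨∑ l, c l • f₀ (b l • u), funext fun σ => ?_⟩
      rw [map_sum, Finset.sum_apply]
      simp only [map_smul, Pi.smul_apply, hΦ, hf, smul_smul, ← Finset.sum_smul]
      rw [show ∑ l, c l * σ (b l) = (Pi.single τ (1 : K) : (k' →ₐ[k] K) → K) σ from congrFun hc σ]
      by_cases h : σ = τ
      · subst h; simp
      · simp [h]
    exact this hτ

end Groth.Agent.ASB24
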