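import Groth.Agent.S11486
import Groth.Agent.S14200
import Groth.Agent.S14199
import Groth.Agent.QCoh.FlatBC
import Groth.Agent.H28.PnFlat
import Groth.Agent.ASB24.SevBrauer
import Groth.Agent.Synt29.PnEuler

/-!
# Absolutely split bundles on Severi–Brauer varieties: the cohomological criterion
-/

noncomputable section

set_option linter.style.haveILetI false
set_option linter.unusedSectionVars false
set_option backward.isDefEq.respectTransparency false
set_option backward.isDefEq.respectTransparency.types false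
set_option maxHeartbeats 400000

universe u

open CategoryTheory CategoryTheory.Limits AlgebraicGeometry
open scoped TensorProduct

namespace Groth.Agent.ASB24.Crit

open Groth.Agent Groth.Agent.RegEpi Groth.Agent.ProjRegular Groth.Agent.PnCoh.Finite

attribute [local instance] Abelian.hasFiniteBiproducts

theorem subsingleton_HH_pow {Y : Scheme.{u}} (T : Y.Modules) {R : ℕ} (hR : 0 < R) (i : ℕ) :
    Subsingleton (Coh.HH Y (BrSev.pow T R) i) ↔ Subsingleton (Coh.HH Y T i) := by
  let s : Fin R → Y.Modules := fun _ => T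
  let b := biproduct.isoCoproduct s
  refine ⟨fun h => ?_, fun h => QCoh.subsingleton_HH_of_iso b i ?_⟩
  · refine subsingleton_HH_of_decomposition (ι := Fin 1) (fun _ => ⨁ s) (fun _ => biproduct.ι s ⟨0, hR⟩)
      (fun _ => biproduct.π s ⟨0, hR⟩) ?_ i fun _ => QCoh.subsingleton_HH_of_iso b.symm i h
    simp [s]
  · exact subsingleton_HH_of_decomposition (ι := Fin R) s (biproduct.π s) (biproduct.ι s) biproduct.total i
      fun _ => h

variable {k : Type u} [Field k] {X : Scheme.{u}} (f : X ⟶ Spec (CommRingCat.of k)) [IsProper f]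
  (K : Type u) [Field K] [Algebra k K]

theorem subsingleton_HH_bc {M : X.Modules} (hM : Coh.IsQCoh M) (i : ℕ) :
    Subsingleton (Coh.HH (BrSev.bc f K) (BrSev.bcMod f K M) i) ↔ Subsingleton (Coh.HH X M i) := by
  haveI : CompactSpace X := QuasiCompact.compactSpace_of_compactSpace f
  haveI : QuasiSeparatedSpace X := quasiSeparatedSpace_of_quasiSeparated f
  letI := QCoh.modHH (Coh.toGlobal f) M i
  letI := QCoh.modHH (Coh.toGlobal (BrSev.bcTo f K)) ((Scheme.Modules.pullback (BrSev.proj f K)).obj M) i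
  obtain ⟨g⟩ := QCoh.HH_flatBaseChange (pA := f) (pB := BrSev.bcTo f K) (φ := BrSev.proj f K)
    (IsPullback.of_hasPullback _ _) hM i
  refine ⟨fun h => ?_, fun h => ?_⟩
  · haveI : Subsingleton (Coh.HH (BrSev.bc f K) ((Scheme.Modules.pullback (BrSev.proj f K)).obj M) i) := h
    haveI := g.toEquiv.subsingleton
    exact Module.FaithfullyFlat.lTensor_reflects_triviality k K _
  · haveI := h
    haveI : Subsingleton (K ⊗[k] Coh.HH X M i) := inferInstance
    exact g.symm.toEquiv.subsingleton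

variable {f K} {N : ℕ}

/-- An absolutely split bundle, transported to projective space, is a sum of twists; and conversely. -/
theorem bcMod_tensor_iso (e : BrSev.Splitting f K N) (E L W : X.Modules) {a j : ℤ} {r : ℕ}
    (hL : BrSev.IsTwPow e a 1 L) (hW : BrSev.IsTwPow e j r W) :
    Nonempty (BrSev.bcMod f K (CohB1.tensorMod (CohB1.tensorMod E L) W) ≅
      BrSev.pow ((Scheme.Modules.pullback e.iso.hom).obj
        ((twF (k := K) (n := N) (a + j)).obj ((Scheme.Modules.pullback e.iso.inv).obj (BrSev.bcMod f K E)))) r) := by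
  let G := (Scheme.Modules.pullback e.iso.inv).obj (BrSev.bcMod f K E)
  let u : (Scheme.Modules.pullback e.iso.hom).obj G ≅ BrSev.bcMod f K E :=
    (Scheme.Modules.pullbackComp e.iso.hom e.iso.inv).app _ ≪≫
      (Scheme.Modules.pullbackCongr e.iso.hom_inv_id).app _ ≪≫ (Scheme.Modules.pullbackId _).app _
  obtain ⟨l⟩ := hL
  obtain ⟨w⟩ := hW
  obtain ⟨c⟩ := H23.PicMul.pull (BrSev.proj f K) (CohB1.tensorMod E L) W
  obtain ⟨d⟩ := H23.PicMul.pull (BrSev.proj f K) E L
  let l' : BrSev.bcMod f K L ≅ e.twist a := l ≪≫ coproductUniqueIso fun _ : Fin 1 => e.twist a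
  obtain ⟨m⟩ := tensor_congr u.symm l'
  obtain ⟨m'⟩ := tensor_congr (d ≪≫ m) w
  obtain ⟨q⟩ := H23.PicMul.comm (CohB1.tensorMod ((Scheme.Modules.pullback e.iso.hom).obj G) (e.twist a))
    (BrSev.pow (e.twist j) r)
  obtain ⟨q'⟩ := tensor_pow_left (e.twist j)
    (CohB1.tensorMod ((Scheme.Modules.pullback e.iso.hom).obj G) (e.twist a)) r
  obtain ⟨s₁⟩ := H23.PicMul.comm (e.twist j) (CohB1.tensorMod ((Scheme.Modules.pullback e.iso.hom).obj G) (e.twist a))
  obtain ⟨s₂⟩ := H23.PicMul.assoc ((Scheme.Modules.pullback e.iso.hom).obj G) (e.twist a) (e.twist j)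
  obtain ⟨t⟩ := twist_tensor e a j
  obtain ⟨s₃⟩ := tensor_congr (Iso.refl ((Scheme.Modules.pullback e.iso.hom).obj G)) t
  obtain ⟨s₄⟩ := H23.PicMul.pull e.iso.hom G (Twist.twistProjSpace N K (a + j))
  exact ⟨c ≪≫ m' ≪≫ q ≪≫ q' ≪≫ Sigma.mapIso (fun _ => s₁ ≪≫ s₂ ≪≫ s₃ ≪≫ s₄.symm)⟩

theorem subsingleton_HH_iso {A B : Scheme.{u}} (g : A ≅ B) (M : B.Modules) {i : ℕ} (hi : 0 < i) :
    Subsingleton (Coh.HH A ((Scheme.Modules.pullback g.hom).obj M) i) ↔ Subsingleton (Coh.HH B M i) := by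
  obtain ⟨q, rfl⟩ : ∃ q, i = q + 1 := ⟨i - 1, by omega⟩
  refine ⟨fun h => ?_, H28.PnFlat.subsingleton_HH_pullback_of_iso g M q⟩
  exact QCoh.subsingleton_HH_of_iso ((Scheme.Modules.pullbackComp g.inv g.hom).app M ≪≫
    (Scheme.Modules.pullbackCongr g.inv_hom_id).app M ≪≫ (Scheme.Modules.pullbackId _).app M) _
    (H28.PnFlat.subsingleton_HH_pullback_of_iso g.symm _ q h)

/-- The key comparison. -/
theorem subsingleton_iff (e : BrSev.Splitting f K N) {E L W : X.Modules} (hE : FlatMod.IsFinLocFree E)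
    (hLf : FlatMod.IsFinLocFree L) (hWf : FlatMod.IsFinLocFree W) {a j : ℤ} {r : ℕ} (hr : 0 < r)
    (hL : BrSev.IsTwPow e a 1 L) (hW : BrSev.IsTwPow e j r W) {i : ℕ} (hi : 0 < i) :
    Subsingleton (Coh.HH X (CohB1.tensorMod (CohB1.tensorMod E L) W) i) ↔
      Subsingleton (Coh.HH (Proj (CohB1.polyGrading N K)) ((twF (k := K) (n := N) (a + j)).obj
        ((Scheme.Modules.pullback e.iso.inv).obj (BrSev.bcMod f K E))) i) := by
  obtain ⟨φ⟩ := bcMod_tensor_iso e E L W hL hW
  rw [← subsingleton_HH_bc f K (QCoh.isQCoh_of_isFinLocFree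
    (Synt29.PnEuler.isFinLocFree_tensorMod (Synt29.PnEuler.isFinLocFree_tensorMod hE hLf) hWf)) i]
  refine Iff.trans ⟨QCoh.subsingleton_HH_of_iso φ i, QCoh.subsingleton_HH_of_iso φ.symm i⟩ ?_
  exact (subsingleton_HH_pow _ hr i).trans (subsingleton_HH_iso e.iso _ hi)

end Groth.Agent.ASB24.Crit

end
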