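import Groth.Agent.ASB24.TwPow
import Groth.Agent.ModTensor.Assoc
import Groth.Agent.PnCoh.Finite.TwistInv
import Groth.Agent.Lib.PnDualCoh
import Groth.Agent.H23.PnChart
import Groth.Prelude.Def_BrSev

/-!
# Twisting sheaves of a split form and duals of invertible modules
-/

set_option linter.style.haveILetI false
set_option backward.isDefEq.respectTransparency false
set_option backward.isDefEq.respectTransparency.types false

universe u

open CategoryTheory CategoryTheory.Limits AlgebraicGeometry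

namespace Groth.Agent.ASB24

open Groth.Agent Groth.Agent.SheafHomX

variable {Y : Scheme.{u}}

/-- Successive tensoring. -/
noncomputable def tenTenIso (A B : Y.Modules) : ten A ⋙ ten B ≅ ten (CohB1.tensorMod A B) :=
  NatIso.ofComponents (fun Z => (((ModTensor.tensorAssoc Y.sheaf).app Z).app A).app B)
    (fun f => congr((($((ModTensor.tensorAssoc Y.sheaf).hom.naturality f)).app A).app B))

/-- The dual of a tensor-invertible module is its inverse. -/
theorem dual_iso_inverse {A B : Y.Modules} (h : CohB1.tensorMod A B ≅ Coh.structureModule Y) :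
    Nonempty (H23.Chern.dual A ≅ B) := by
  obtain ⟨c⟩ := H23.PicMul.comm B A
  let e₁ : ten A ⋙ ten B ≅ 𝟭 Y.Modules :=
    tenTenIso A B ≪≫ (DCoh.tensorBi (X := Y)).flip.mapIso h ≪≫ KFlatLib.tensorStructureIso Y
  let e₂ : ten B ⋙ ten A ≅ 𝟭 Y.Modules :=
    tenTenIso B A ≪≫ (DCoh.tensorBi (X := Y)).flip.mapIso (c ≪≫ h) ≪≫ KFlatLib.tensorStructureIso Y
  let E : Y.Modules ≌ Y.Modules := CategoryTheory.Equivalence.mk (ten A) (ten B) e₁.symm e₂
  obtain ⟨u⟩ := H23.PicMul.comm (Coh.structureModule Y) B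
  obtain ⟨v⟩ := H23.PicMul.unit B
  exact ⟨((adj A).rightAdjointUniq (E.toAdjunction : ten A ⊣ ten B)).app (Coh.structureModule Y) ≪≫
    (show (ten B).obj (Coh.structureModule Y) ≅ CohB1.tensorMod (Coh.structureModule Y) B from Iso.refl _) ≪≫ u ≪≫ v⟩

section Split

variable {k : Type u} [Field k] {X : Scheme.{u}} {f : X ⟶ Spec (CommRingCat.of k)} {K : Type u} [Field K]
  [Algebra k K] {n : ℕ} (e : BrSev.Splitting f K n)

theorem isInvertible_twist (j : ℤ) : PicF.IsInvertible (e.twist j) :=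
  PicLoc.isInvertible_pullback e.iso.hom
    (PnCoh.Finite.isInvertible_twist (PnDual.coordsR K n) PnDual.coordsR_mem PnDual.coordsR_cover j)

theorem twist_tensor (a b : ℤ) : Nonempty (CohB1.tensorMod (e.twist a) (e.twist b) ≅ e.twist (a + b)) := by
  obtain ⟨t⟩ := PnCoh.Finite.twist_tensor_iso (PnDual.coordsR K n) PnDual.coordsR_mem PnDual.coordsR_cover a b
  obtain ⟨q⟩ := H23.PicMul.pull e.iso.hom (Twist.twistProjSpace n K a) (Twist.twistProjSpace n K b)
  exact ⟨q.symm ≪≫ (Scheme.Modules.pullback e.iso.hom).mapIso t⟩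

theorem twist_zero : Nonempty (e.twist 0 ≅ Coh.structureModule (BrSev.bc f K)) := by
  haveI : IsIso (PnCoh.Finite.oneHom (𝒜 := CohB1.polyGrading n K)) :=
    PnCoh.Finite.isIso_oneHom (PnDual.coordsR K n) PnDual.coordsR_mem PnDual.coordsR_cover
  exact ⟨(Scheme.Modules.pullback e.iso.hom).mapIso (asIso (PnCoh.Finite.oneHom (𝒜 := CohB1.polyGrading n K))).symm ≪≫
    H23.Chern.pullUnit e.iso.hom⟩

theorem dual_twist (a : ℤ) : Nonempty (H23.Chern.dual (e.twist a) ≅ e.twist (-a)) := by
  obtain ⟨t⟩ := twist_tensor e a (-a)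
  obtain ⟨z⟩ := twist_zero e
  exact dual_iso_inverse (t ≪≫ eqToIso (by rw [add_neg_cancel]) ≪≫ z)

include e in
theorem nonempty_bc : Nonempty (BrSev.bc f K) := by
  haveI := H23.PnChart.isIntegral_projSpace n K
  exact Nonempty.map e.iso.inv.base inferInstance

end Split

end Groth.Agent.ASB24
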