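import Groth.Agent.ASB24.GaloisPush
import Groth.Agent.ASB24.TwPow2
import Groth.Agent.Pic13Lib.PnFieldExt
import Groth.Agent.Synt29.PnBott
import Groth.Agent.S10960
import Groth.Agent.S0844
import Groth.Agent.CurveCohLib.Rank

/-!
# Twisting sheaves under cartesian maps of projective spaces
-/

set_option linter.style.haveILetI false
set_option backward.isDefEq.respectTransparency false
set_option backward.isDefEq.respectTransparency.types false

universe u

open CategoryTheory CategoryTheory.Limits AlgebraicGeometry TopologicalSpace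

namespace Groth.Agent.ASB24

open Groth.Agent Groth.Agent.PnCoh Groth.Agent.PnCoh.Finite
open Groth.Agent.H23 Groth.Agent.H23.PicMul

attribute [local instance] PicMul.clMonoid

theorem choose_eq_succ {n a : ℕ} (hn : 1 ≤ n) (h : (n + a).choose a = n + 1) : a = 1 := by
  rcases a with _ | _ | b
  · simp at h; omega
  · rfl
  · exfalso
    have h2 : (n + (b + 2)).choose n = n + 1 := by rw [Nat.choose_symm_add]; exact h
    have h1 : (n + 2).choose n ≤ (n + (b + 2)).choose n := Nat.choose_le_choose n (by omega)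
    rw [h2, Nat.choose_symm_add, Nat.choose_two_right] at h1
    simp only [show n + 2 - 1 = n + 1 by omega] at h1
    have h3 : 3 * (n + 1) / 2 ≤ (n + 2) * (n + 1) / 2 := Nat.div_le_div_right (Nat.mul_le_mul_right _ (by omega))
    omega

/-- Twists on a zero dimensional projective space are trivial. -/
theorem twist_trivial (A : Type u) [CommRing A] [IsNoetherianRing A] (d : ℤ) :
    Nonempty (Twist.twistProjSpace 0 A d ≅ Coh.structureModule (CohB1.ProjSpace 0 A)) := by
  let 𝒜 := CohB1.polyGrading 0 A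
  let U : (Proj 𝒜).Opens := D 𝒜 (PnDual.coordsR A 0 ⟨0⟩)
  have hU : U = ⊤ := top_le_iff.1 ((PnDual.coordsR_cover (m := 0) (R := A)).ge.trans (iSup_le fun j => by
    rw [show j = ⟨0⟩ from ULift.ext _ _ (Fin.eq_zero j.down)]))
  haveI : IsIso U.ι := by rw [hU]; exact inferInstanceAs (IsIso (Proj 𝒜).topIso.hom)
  let T := Twist.twist 𝒜 d
  let a : Coh.structureModule U.toScheme ≅ T.restrict U.ι :=
    @asIso _ _ _ _ _ (isIso_twTriv (PnDual.coordsR_mem (m := 0) (R := A) ⟨0⟩) d U (fun y => y.2))
  exact ⟨((Scheme.Modules.pullbackId _).app T).symm ≪≫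
    (Scheme.Modules.pullbackCongr (IsIso.inv_hom_id U.ι).symm).app T ≪≫
    ((Scheme.Modules.pullbackComp (inv U.ι) U.ι).app T).symm ≪≫
    (Scheme.Modules.pullback (inv U.ι)).mapIso (((Scheme.Modules.restrictFunctorIsoPullback U.ι).app T).symm ≪≫ a.symm) ≪≫
    H23.Chern.pullUnit (inv U.ι)⟩

/-- Twists are preserved by cartesian maps of projective spaces. -/
theorem pullback_twist {k K : Type u} [Field k] [Field K] [Algebra k K] {n : ℕ}
    {g : CohB1.ProjSpace n K ⟶ CohB1.ProjSpace n k}
    (hg : IsPullback g (CohB1.ProjSpace.toSpec n K) (CohB1.ProjSpace.toSpec n k)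
      (Spec.map (CommRingCat.ofHom (algebraMap k K)))) (j : ℤ) :
    Nonempty ((Scheme.Modules.pullback g).obj (Twist.twistProjSpace n k j) ≅ Twist.twistProjSpace n K j) := by
  rcases Nat.eq_zero_or_pos n with rfl | hn
  · obtain ⟨a⟩ := twist_trivial k j
    obtain ⟨b⟩ := twist_trivial K j
    exact ⟨(Scheme.Modules.pullback g).mapIso a ≪≫ H23.Chern.pullUnit g ≪≫ b.symm⟩
  have hinv : PicF.IsInvertible (Twist.twistProjSpace n k 1) :=
    PnCoh.Finite.isInvertible_twist (PnDual.coordsR k n) PnDual.coordsR_mem PnDual.coordsR_cover 1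
  obtain ⟨a, ⟨τ⟩, -⟩ := S10960.result K n hn _ (PicLoc.isInvertible_pullback g hinv)
  haveI : IsProper (CohB1.ProjSpace.toSpec n k) := PnCoh.Chow.isProper_toSpec n _
  haveI : IsProper (CohB1.ProjSpace.toSpec n K) := PnCoh.Chow.isProper_toSpec n _
  have h0 : Module.finrank K (Coh.HH (CohB1.ProjSpace n K) ((Scheme.Modules.pullback g).obj (Twist.twistProjSpace n k 1)) 0) = n + 1 := by
    rw [(Pic13Lib.pn_hh hg (QCoh.isQCoh_of_isFinLocFree (KZ.QuasiProj.flf_of_invertible hinv)) 0).1]
    have h := (Synt29.PnBott.h0_line n k 1).2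
    rw [Nat.choose_one_right] at h
    exact h
  have h1 : Module.finrank K (Coh.HH (CohB1.ProjSpace n K) (Twist.twistProjSpace n K a) 0) = n + 1 := by
    rw [← h0]
    exact (CurveCohLib.hhEquiv (k := K) τ 0).finrank_eq.symm
  have ha : a = 1 := by
    rcases lt_or_ge a 0 with h | h
    · haveI : Subsingleton (Coh.HH (CohB1.ProjSpace n K) (Twist.twistProjSpace n K a) 0) :=
        S0844.result K n a 0 (by omega) (by omega)
      rw [Module.finrank_zero_of_subsingleton] at h1
      omega
    · obtain ⟨b, rfl⟩ := Int.eq_ofNat_of_zero_le h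
      rw [(Synt29.PnBott.h0_line n K b).2] at h1
      rw [choose_eq_succ hn h1]
      rfl
  subst ha
  have h' : (pullHom g).comp (SeesawX.PnFibre.twistHom n k) = SeesawX.PnFibre.twistHom n K :=
    MonoidHom.ext_mint (cl_eq_iff.2 ⟨τ⟩)
  exact cl_eq_iff.1 (DFunLike.congr_fun h' (Multiplicative.ofAdd j))

variable {k k' : Type u} [Field k] [Field k'] [Algebra k k'] {X : Scheme.{u}} {p : X ⟶ Spec (CommRingCat.of k)}
  {K : Type u} [Field K] [Algebra k K]

/-- A twist over an intermediate field becomes the twist of any splitting. -/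
theorem pullback_splitting_twist {n : ℕ} (e' : BrSev.Splitting p k' n) (e : BrSev.Splitting p K n)
    (σ : k' →ₐ[k] K) (j : ℤ) :
    Nonempty ((Scheme.Modules.pullback (qe p K σ)).obj (e'.twist j) ≅ e.twist j) := by
  letI : Algebra k' K := (σ : k' →+* K).toAlgebra
  let g := e.iso.inv ≫ qe p K σ ≫ e'.iso.hom
  have hg : IsPullback g (CohB1.ProjSpace.toSpec n K) (CohB1.ProjSpace.toSpec n k')
      (Spec.map (CommRingCat.ofHom (algebraMap k' K))) := by
    refine IsPullback.of_iso (isPullback_qe p K σ) e.iso e'.iso (Iso.refl _) (Iso.refl _) ?_ ?_ ?_ ?_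
    · simp [g]
    · rw [Iso.refl_hom, Category.comp_id]; exact e.comm.symm
    · rw [Iso.refl_hom, Category.comp_id]; exact e'.comm.symm
    · rw [Iso.refl_hom, Iso.refl_hom, Category.comp_id, Category.id_comp]; rfl
  obtain ⟨t⟩ := pullback_twist hg j
  let T := Twist.twistProjSpace n k' j
  exact ⟨(Scheme.Modules.pullbackComp (qe p K σ) e'.iso.hom).app T ≪≫
    (Scheme.Modules.pullbackCongr (show qe p K σ ≫ e'.iso.hom = e.iso.hom ≫ g by simp [g])).app T ≪≫
    ((Scheme.Modules.pullbackComp e.iso.hom g).app T).symm ≪≫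
    (Scheme.Modules.pullback e.iso.hom).mapIso t⟩

variable [IsProper p] [FiniteDimensional k k'] [Algebra.IsSeparable k k'] [IsAlgClosed K]

/-- Isotypical bundles from a separable splitting field. -/
theorem exists_bundle_twist {n : ℕ} (e' : BrSev.Splitting p k' n) (e : BrSev.Splitting p K n) (j : ℤ) :
    ∃ (N : X.Modules) (d : ℕ), FlatMod.IsFinLocFree N ∧ 0 < d ∧ BrSev.IsTwPow e j d N := by
  let L := e'.twist j
  have hL : FlatMod.IsFinLocFree L := KZ.QuasiProj.flf_of_invertible (ASB24.isInvertible_twist e' j)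
  haveI := Abelian.hasFiniteBiproducts (C := (W4bk4gw11416.baseChange p K).Modules)
  haveI := isIso_phiAll p K L (H28.PushLocFree.isCoh_of_isFinLocFree hL)
  refine ⟨_, Fintype.card (k' →ₐ[k] K), isFinLocFree_push p L hL, ?_, ⟨asIso (phiAll p K L) ≪≫
    biproduct.mapIso (fun i => (pullback_splitting_twist e' e _ j).some) ≪≫ biproduct.isoCoproduct _⟩⟩
  rw [AlgHom.card]
  exact Module.finrank_pos

end Groth.Agent.ASB24
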