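import Groth.Agent.ASB24.TautProj
import Groth.Agent.ASB24.BrauerClass
import Groth.Agent.ASB24.TwistAut
import Groth.Agent.CSALib.Splitting
import Groth.Agent.QCoh.Serre

/-!
# The algebra acts on the tautological left ideal sheaf, and multiplicities of twisted bundles
-/

set_option linter.style.haveILetI false
set_option backward.isDefEq.respectTransparency false
set_option backward.isDefEq.respectTransparency.types false

universe u

open CategoryTheory CategoryTheory.Limits AlgebraicGeometry TopologicalSpace Opposite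
open scoped TensorProduct Matrix

noncomputable section

namespace Groth.Agent.ASB24.Taut

open Groth.Agent Groth.Agent.SBAut Groth.Agent.H23

section Act

variable {k : Type u} [Field k] {A : Type u} [Ring A] [Algebra k A] {d c : ℕ} (β : Module.Basis (Fin d) k A)
  {X : Scheme.{u}} [X.Over (Spec (CommRingCat.of k))] (s : BrSev.SBStr k A c (X ↘ Spec (CommRingCat.of k)))

/-- Left multiplication on the free module of coordinates. -/
def actFree (a : A) : FlatMod.freeMod X d ⟶ FlatMod.freeMod X d :=
  ∑ i, (∑ j, Frame.proj X d j ≫ QCoh.mulHom (Coh.toGlobal (X ↘ Spec (CommRingCat.of k)) (lMat β a i j))) ≫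
    Frame.incl X d i

theorem co_actFree (a : A) (W : X.Opens) (t : Γ(FlatMod.freeMod X d, W)) :
    co W ((actFree β a).app W t) = (lMat β a).map (gr (X ↘ Spec (CommRingCat.of k)) W) *ᵥ co W t := by
  let g : Fin d → Γ(X, W) := fun i => ((lMat β a).map (gr (X ↘ Spec (CommRingCat.of k)) W) *ᵥ co W t) i
  have key : (actFree β a).app W t = mk W g := by
    rw [actFree, Frame.app_sum, mk]
    refine Finset.sum_congr rfl fun i _ => ?_
    refine (Frame.app_eq_smul (Frame.incl X d i) _ _).trans ?_
    congr 1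
    show (∑ j, Frame.proj X d j ≫ QCoh.mulHom (Coh.toGlobal (X ↘ Spec (CommRingCat.of k)) (lMat β a i j))).app W t = g i
    rw [Frame.app_sum]
    exact Finset.sum_congr rfl fun j _ => mul_comm (co W t j) _
  rw [key, co_mk]

theorem ι_actFree_mem (a : A) (W : X.Opens) (t : Γ(taut β s (Category.id_comp _), W)) :
    ((sub β s (Category.id_comp _)).ι ≫ actFree β a).app W t ∈ (sub β s (Category.id_comp _)).mem W := by
  intro V hV h
  letI : Algebra k Γ(X, V) := (gr (X ↘ Spec (CommRingCat.of k)) V).toAlgebra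
  show ⇑(X.presheaf.map (homOfLE h).op).hom ∘ co W ((actFree β a).app W _) ∈ _
  rw [co_actFree, ← res_mulVec h, Matrix.map_map,
    show ⇑(X.presheaf.map (homOfLE h).op).hom ∘ ⇑(gr (X ↘ Spec (CommRingCat.of k)) W) = ⇑(algebraMap k Γ(X, V)) from
      funext fun x => gr_res _ h x]
  exact lMat_mulVec_mem β _ a ((sub β s (Category.id_comp _)).ι_app_mem W t V hV h)

/-- Left multiplication on the tautological sheaf. -/
def actHom (a : A) : End (taut β s (Category.id_comp (X ↘ Spec (CommRingCat.of k)))) :=
  liftSub (sub β s (Category.id_comp _)) ((sub β s (Category.id_comp _)).ι ≫ actFree β a) (ι_actFree_mem β s a)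

theorem co_actHom (a : A) (W : X.Opens) (t : Γ(taut β s (Category.id_comp (X ↘ Spec (CommRingCat.of k))), W)) :
    co W ((sub β s (Category.id_comp _)).ι.app W ((actHom β s a : _ ⟶ _).app W t)) =
      (lMat β a).map (gr (X ↘ Spec (CommRingCat.of k)) W) *ᵥ co W ((sub β s (Category.id_comp _)).ι.app W t) :=
  co_actFree β a W _

theorem actHom_ext {φ ψ : taut β s (Category.id_comp (X ↘ Spec (CommRingCat.of k))) ⟶
      taut β s (Category.id_comp (X ↘ Spec (CommRingCat.of k)))}
    (h : ∀ (W : X.Opens) t, co W ((sub β s (Category.id_comp _)).ι.app W (φ.app W t)) =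
      co W ((sub β s (Category.id_comp _)).ι.app W (ψ.app W t))) : φ = ψ := by
  refine Scheme.Modules.hom_ext _ _ fun W => ?_
  ext t
  exact (sub β s (Category.id_comp _)).ι_app_injective W (co_injective W (h W t))

theorem lMat_algebraMap (x : k) : lMat β (algebraMap k A x) = x • (1 : Matrix (Fin d) (Fin d) k) := by
  rw [lMat, show LinearMap.mulLeft k (algebraMap k A x) = x • LinearMap.id from
    LinearMap.ext fun y => by simp [Algebra.smul_def], map_smul, LinearMap.toMatrix_id]

/-- Left multiplication as a map of algebras. -/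
def actAlg : A →ₐ[k] End (taut β s (Category.id_comp (X ↘ Spec (CommRingCat.of k)))) where
  toFun := actHom β s
  map_one' := actHom_ext β s fun W t => by
    rw [co_actHom, show lMat β (1 : A) = 1 by rw [lMat, LinearMap.mulLeft_one, LinearMap.toMatrix_id],
      Matrix.map_one _ (map_zero _) (map_one _), Matrix.one_mulVec]
    rfl
  map_mul' a b := actHom_ext β s fun W t => by
    show _ = co W ((sub β s (Category.id_comp _)).ι.app W ((actHom β s a : _ ⟶ _).app W ((actHom β s b : _ ⟶ _).app W t)))
    rw [co_actHom, co_actHom, co_actHom, Matrix.mulVec_mulVec, ← Matrix.map_mul, lMat, lMat, lMat,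
      LinearMap.mulLeft_mul, LinearMap.toMatrix_comp β β β]
  map_zero' := actHom_ext β s fun W t => by
    rw [co_actHom, show lMat β (0 : A) = 0 by rw [lMat, LinearMap.mulLeft_zero_eq_zero, map_zero],
      Matrix.map_zero _ (map_zero _), Matrix.zero_mulVec]
    exact (co_zero W).symm.trans (congrArg (co W) (map_zero ((sub β s (Category.id_comp _)).ι.app W).hom).symm)
  map_add' a b := actHom_ext β s fun W t => by
    show _ = co W ((sub β s (Category.id_comp _)).ι.app W
      ((actHom β s a : _ ⟶ _).app W t + (actHom β s b : _ ⟶ _).app W t))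
    rw [map_add, co_add, co_actHom, co_actHom, co_actHom, ← Matrix.add_mulVec, ← Matrix.map_add _ (map_add _)]
    congr 2
    rw [lMat, lMat, lMat, ← map_add]
    congr 1
    exact LinearMap.ext fun y => add_mul a b y
  commutes' x := actHom_ext β s fun W t => by
    show _ = co W ((sub β s (Category.id_comp _)).ι.app W
      ((x • 𝟙 (taut β s (Category.id_comp (X ↘ Spec (CommRingCat.of k)))) :
        taut β s (Category.id_comp (X ↘ Spec (CommRingCat.of k))) ⟶
          taut β s (Category.id_comp (X ↘ Spec (CommRingCat.of k)))).app W t))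
    rw [smulK_app, Scheme.Modules.Hom.app_smul, co_smul, co_actHom, lMat_algebraMap]
    funext i
    simp [Matrix.mulVec, dotProduct, Matrix.one_apply, apply_ite (gr (X ↘ Spec (CommRingCat.of k)) W)]
    rfl

end Act

/-- Twists do not depend on the splitting. -/
theorem twist_indep {k : Type u} [Field k] {X : Scheme.{u}} {p : X ⟶ Spec (CommRingCat.of k)} {K : Type u}
    [Field K] [Algebra k K] {n : ℕ} (e₀ e : BrSev.Splitting p K n) (j : ℤ) :
    Nonempty (e₀.twist j ≅ e.twist j) := by
  let g := e.iso.inv ≫ e₀.iso.hom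
  have hg : IsPullback g (CohB1.ProjSpace.toSpec n K) (CohB1.ProjSpace.toSpec n K)
      (Spec.map (CommRingCat.ofHom (algebraMap K K))) := by
    haveI : IsIso g := inferInstanceAs (IsIso (e.iso.inv ≫ e₀.iso.hom))
    haveI : IsIso (Spec.map (CommRingCat.ofHom (algebraMap K K))) := by
      rw [Algebra.algebraMap_self, CommRingCat.ofHom_id, Spec.map_id]
      infer_instance
    refine IsPullback.of_horiz_isIso ⟨?_⟩
    rw [Algebra.algebraMap_self, CommRingCat.ofHom_id, Spec.map_id, Category.comp_id]
    simp only [g, Category.assoc, e₀.comm]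
    rw [Iso.inv_comp_eq, e.comm]
  obtain ⟨t⟩ := pullback_twist hg j
  let T := Twist.twistProjSpace n K j
  exact ⟨(Scheme.Modules.pullbackCongr (show e₀.iso.hom = e.iso.hom ≫ g by simp [g])).app T ≪≫
    ((Scheme.Modules.pullbackComp e.iso.hom g).app T).symm ≪≫
    (Scheme.Modules.pullback e.iso.hom).mapIso t⟩

/-- The tautological sheaf of a split algebra becomes a sum of copies of `O(-1)`. -/
theorem isTwPow_taut {k : Type u} [Field k] {A : Type u} [Ring A] [Algebra k A] {K : Type u} [Field K] [Algebra k K]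
    {N : ℕ} (Φ : K ⊗[k] A ≃ₐ[K] Matrix (Fin (N + 1)) (Fin (N + 1)) K) {d : ℕ} (β : Module.Basis (Fin d) k A)
    (hA : Module.finrank k A = (N + 1) * (N + 1)) {X₀ : Scheme.{u}} {f : X₀ ⟶ Spec (CommRingCat.of k)}
    (s : BrSev.SBStr k A ((N + 1) * (N + 1) - (N + 1)) f)
    (hd : (N + 1) * (N + 1) - (N + 1) + (N + 1) = d) :
    BrSev.IsTwPow (ProjIso.splitting Φ hA s) (-1) (N + 1) (taut β s (Category.id_comp f)) := by
  haveI := ProjIso.isIso_toProj (Φ := Φ) (hA := hA) (s := s)
  obtain ⟨a⟩ := nonempty_pow_twist_iso Φ β hA s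
  obtain ⟨b⟩ := nonempty_pullback_iso β s (qP Φ hA s) (hqP Φ hA s) hd
  let τ := ProjIso.toProj Φ hA s
  let T := taut β s (Category.id_comp f)
  haveI := (Scheme.Modules.pullbackPushforwardAdjunction τ).isLeftAdjoint
  exact ⟨(Scheme.Modules.pullbackCongr (show BrSev.proj f K = τ ≫ qP Φ hA s by
      simp [τ, qP])).app T ≪≫
    ((Scheme.Modules.pullbackComp τ (qP Φ hA s)).app T).symm ≪≫
    (Scheme.Modules.pullback τ).mapIso (b ≪≫ a.symm) ≪≫
    PreservesCoproduct.iso (Scheme.Modules.pullback τ) fun _ : Fin (N + 1) => Twist.twistProjSpace N K (-1)⟩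

end Groth.Agent.ASB24.Taut

namespace Groth.Agent.ASB24

open Groth.Agent

/-- The Severi–Brauer variety of an algebra carries a bundle of type `-1` with endomorphisms similar to the algebra. -/
theorem exists_taut {k : Type u} [Field k] {A : Type u} [Ring A] [Algebra k A] [Algebra.IsCentral k A] [IsSimpleRing A]
    {n : ℕ} (hn : 0 < n) (hA : Module.finrank k A = n * n) {X : Scheme.{u}} [X.Over (Spec (CommRingCat.of k))]
    [IsProper (X ↘ Spec (CommRingCat.of k))] (hX : BrSev.IsSBOf k A (n * n - n) (X ↘ Spec (CommRingCat.of k)))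
    {K : Type u} [Field K] [Algebra k K] [IsAlgClosure k K]
    (e : BrSev.Splitting (X ↘ Spec (CommRingCat.of k)) K (n - 1)) :
    ∃ N : X.Modules, FlatMod.IsFinLocFree N ∧ BrSev.IsTwPow e (-1) n N ∧ CSALib.Similar k (End N) A := by
  obtain ⟨m, rfl⟩ : ∃ m, n = m + 1 := ⟨n - 1, by omega⟩
  haveI : Module.Finite k A := Module.finite_of_finrank_pos (by rw [hA]; positivity)
  haveI : IsAlgClosed K := IsAlgClosure.isAlgClosed k
  haveI := CSALib.isCentral_baseChange k A K
  haveI := CSALib.isSimpleRing_baseChange k A K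
  obtain ⟨s⟩ := hX
  obtain ⟨l, _, ⟨Φ'⟩⟩ := CSALib.exists_algEquiv_matrix_of_isSepClosed K (K ⊗[k] A)
  have hl : l = m + 1 := by
    have h := Φ'.toLinearEquiv.finrank_eq
    rw [Module.finrank_baseChange, hA, Module.finrank_matrix, Module.finrank_self, Fintype.card_fin, mul_one] at h
    nlinarith [h]
  subst hl
  let β := Module.finBasisOfFinrankEq k A hA
  let T := Taut.taut β s (Category.id_comp (X ↘ Spec (CommRingCat.of k)))
  have hd : (m + 1) * (m + 1) - (m + 1) + (m + 1) = (m + 1) * (m + 1) :=
    Nat.sub_add_cancel (Nat.le_mul_self _)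
  have hT : FlatMod.IsFinLocFree T := Taut.isFinLocFree_taut β s (Category.id_comp _) hd
  obtain ⟨a⟩ := Taut.isTwPow_taut Φ' β hA s hd
  obtain ⟨t⟩ := Taut.twist_indep (SBAut.ProjIso.splitting Φ' hA s) e (-1)
  have hTt : BrSev.IsTwPow e (-1) (m + 1) T := ⟨a ≪≫ Sigma.mapIso fun _ => t⟩
  refine ⟨T, hT, hTt, ?_⟩
  obtain ⟨_, _, _, hdim⟩ := end_twist e hT hn hTt
  haveI : Nontrivial (End T) := inferInstance
  let φ := Taut.actAlg β s
  have hinj : Function.Injective φ := RingHom.injective φ.toRingHom
  have hsurj : Function.Surjective φ :=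
    (LinearMap.injective_iff_surjective_of_finrank_eq_finrank (f := φ.toLinearMap) (hA.trans hdim.symm)).1 hinj
  exact (CSALib.similar_of_algEquiv (AlgEquiv.ofBijective φ ⟨hinj, hsurj⟩)).symm

/-- The multiplicity of an indecomposable of type `j` on a Severi–Brauer variety. -/
theorem isIndex_of_sb {k : Type u} [Field k] {A : Type u} [Ring A] [Algebra k A] [Algebra.IsCentral k A]
    [IsSimpleRing A] {n : ℕ} (hn : 0 < n) (hA : Module.finrank k A = n * n) {X : Scheme.{u}}
    (f : X ⟶ Spec (CommRingCat.of k)) [IsProper f] (hX : BrSev.IsSBOf k A (n * n - n) f)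
    {K : Type u} [Field K] [Algebra k K] [IsAlgClosure k K] (e : BrSev.Splitting f K (n - 1))
    {W : X.Modules} (hW : FlatMod.IsFinLocFree W) (hWi : KSLib.Indec W) {j : ℤ} {r : ℕ} (hr : 0 < r)
    (hWt : BrSev.IsTwPow e j r W) : CSAGal.IsIndex k (CSAGal.tpow k A j.natAbs) r := by
  letI : X.Over (Spec (CommRingCat.of k)) := ⟨f⟩
  haveI : IsProper (X ↘ Spec (CommRingCat.of k)) := ‹IsProper f›
  haveI : Module.Finite k A := Module.finite_of_finrank_pos (by rw [hA]; positivity)
  obtain ⟨N, hN, hNt, hNA⟩ := exists_taut hn hA (X := X) hX e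
  exact isIndex_twist e hN hn hNt hNA hW hWi hr hWt

end Groth.Agent.ASB24
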