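import Groth.Agent.SBAut.GlobalVec
import Mathlib.LinearAlgebra.Matrix.ToLin
import Mathlib.LinearAlgebra.Matrix.Adjugate
import Mathlib.LinearAlgebra.Matrix.NonsingularInverse
import Mathlib.RingTheory.LocalRing.ResidueField.Ideal

/-!
# Coordinates of left ideals: projectors and local frames
-/

set_option autoImplicit false

universe u

open scoped TensorProduct
open Matrix

noncomputable section

namespace Groth.Agent.ASB24.Taut

open Groth.Agent.SBAut

section Proj

variable {R : Type u} [CommRing R] {d : ℕ}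

/-- Membership in the extension of a direct summand is fixedness by the projector. -/
theorem mem_span_iff {M : Submodule R (Fin d → R)} {P : Matrix (Fin d) (Fin d) R}
    (hP : ∀ y, y ∈ M ↔ P *ᵥ y = y) (hPP : P * P = P) {S : Type u} [CommRing S] (φ : R →+* S) (y : Fin d → S) :
    y ∈ Submodule.span S ((fun z => ⇑φ ∘ z) '' (M : Set (Fin d → R))) ↔ P.map φ *ᵥ y = y := by
  refine ⟨fun hy => ?_, fun hy => ?_⟩
  · induction hy using Submodule.span_induction with
    | mem z hz =>
      obtain ⟨w, hw, rfl⟩ := hz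
      funext i
      rw [← RingHom.map_mulVec]
      exact congrArg φ (congrFun ((hP w).1 hw) i)
    | zero => rw [mulVec_zero]
    | add a b _ _ ha hb => rw [mulVec_add, ha, hb]
    | smul c a _ ha => rw [mulVec_smul, ha]
  · rw [← hy]
    have : P.map φ *ᵥ y = ∑ j, y j • (⇑φ ∘ fun i => P i j) := by
      funext i
      simp [mulVec, dotProduct, mul_comm]
    rw [this]
    refine Submodule.sum_mem _ fun j _ => Submodule.smul_mem _ _ (Submodule.subset_span ⟨_, (hP _).2 ?_, rfl⟩)
    funext i
    exact congrFun (congrFun hPP i) j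

/-- A direct summand with projective quotient is the fixed space of a projector. -/
theorem exists_projector (M : Submodule R (Fin d → R)) [Module.Projective R ((Fin d → R) ⧸ M)] :
    ∃ P : Matrix (Fin d) (Fin d) R, P * P = P ∧ ∀ y, y ∈ M ↔ P *ᵥ y = y := by
  obtain ⟨s, hs⟩ := Module.projective_lifting_property M.mkQ LinearMap.id M.mkQ_surjective
  let p : (Fin d → R) →ₗ[R] Fin d → R := LinearMap.id - s.comp M.mkQ
  have hmem : ∀ y, p y ∈ M := fun y => (Submodule.Quotient.mk_eq_zero M).1 (by
    show M.mkQ (p y) = 0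
    have := LinearMap.congr_fun hs (M.mkQ y)
    simp only [LinearMap.comp_apply, LinearMap.id_apply] at this
    simp only [p, LinearMap.sub_apply, LinearMap.id_apply, map_sub, LinearMap.comp_apply, this, sub_self])
  have hfix : ∀ y ∈ M, p y = y := fun y hy => by
    simp [p, show M.mkQ y = 0 from (Submodule.Quotient.mk_eq_zero M).2 hy]
  refine ⟨LinearMap.toMatrix' p, ?_, fun y => ?_⟩
  · rw [← LinearMap.toMatrix'_comp]
    exact congrArg _ (LinearMap.ext fun y => hfix _ (hmem y))
  · rw [LinearMap.toMatrix'_mulVec]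
    exact ⟨hfix y, fun h => h ▸ hmem y⟩

/-- Clearing denominators in a residue field. -/
theorem exists_clear (p : Ideal R) [p.IsPrime] {ι : Type*} [Finite ι] (x : ι → p.ResidueField) :
    ∃ (s : R) (a : ι → R), s ∉ p ∧ ∀ i, algebraMap R p.ResidueField (a i) = algebraMap R p.ResidueField s * x i := by
  classical
  obtain ⟨b, hb⟩ := IsLocalization.exist_integer_multiples_of_finite (nonZeroDivisors (R ⧸ p)) x
  choose a ha using hb
  choose a' ha' using fun i => Ideal.Quotient.mk_surjective (a i)
  obtain ⟨s, hs⟩ := Ideal.Quotient.mk_surjective (b : R ⧸ p)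
  refine ⟨s, a', fun h => nonZeroDivisors.ne_zero b.2 (hs ▸ Ideal.Quotient.eq_zero_iff_mem.2 h), fun i => ?_⟩
  rw [IsScalarTower.algebraMap_apply R (R ⧸ p) p.ResidueField, IsScalarTower.algebraMap_apply R (R ⧸ p) p.ResidueField,
    Ideal.Quotient.algebraMap_eq, ha', hs, ha, Algebra.smul_def]

/-- Near a prime where a projector has rank `n`, its image is free with split frame. -/
theorem exists_frame {P : Matrix (Fin d) (Fin d) R} (hPP : P * P = P) (p : Ideal R) [p.IsPrime] {n : ℕ}
    (hn : Module.finrank p.ResidueField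
      (LinearMap.range (Matrix.toLin' (P.map (algebraMap R p.ResidueField)))) = n) :
    ∃ r : R, r ∉ p ∧ ∃ (B : Matrix (Fin d) (Fin n) (Localization.Away r))
      (C : Matrix (Fin n) (Fin d) (Localization.Away r)),
      C * B = 1 ∧ B * C = P.map (algebraMap R (Localization.Away r)) := by
  classical
  let κ := p.ResidueField
  let ρ := algebraMap R κ
  let Pk := P.map ρ
  have hPk : Pk * Pk = Pk := by rw [← Matrix.map_mul, hPP]
  let V := LinearMap.range (Matrix.toLin' Pk)
  let b : Module.Basis (Fin n) κ V := Module.finBasisOfFinrankEq κ V hn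
  obtain ⟨proj, hproj⟩ := LinearMap.exists_leftInverse_of_injective V.subtype V.ker_subtype
  let Bk : Matrix (Fin d) (Fin n) κ := Matrix.of fun i j => (b j : Fin d → κ) i
  let Ck : Matrix (Fin n) (Fin d) κ := LinearMap.toMatrix' (b.equivFun.toLinearMap.comp proj)
  have hCB : Ck * Bk = 1 := by
    refine Matrix.ext fun i j => ?_
    have h : Ck *ᵥ (b j : Fin d → κ) = Pi.single j 1 := by
      rw [LinearMap.toMatrix'_mulVec, LinearMap.comp_apply, show proj (b j : Fin d → κ) = b j from LinearMap.congr_fun hproj (b j)]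
      funext i
      simp [Finsupp.single_apply, Pi.single_apply, eq_comm]
    refine (congrFun h i).trans ?_
    simp [Matrix.one_apply, Pi.single_apply]
  have hfix : ∀ v ∈ V, Pk *ᵥ v = v := by
    rintro _ ⟨w, rfl⟩
    rw [Matrix.toLin'_apply, mulVec_mulVec, hPk]
  have hPB : Pk * Bk = Bk := Matrix.ext fun i j => congrFun (hfix _ (b j).2) i
  have hBCP : Bk * Ck * Pk = Pk := by
    refine Matrix.toLin'.injective (LinearMap.ext fun y => ?_)
    simp only [Matrix.toLin'_apply, ← mulVec_mulVec]
    let v : V := ⟨Pk *ᵥ y, y, Matrix.toLin'_apply _ _⟩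
    show Bk *ᵥ (Ck *ᵥ (v : Fin d → κ)) = v
    rw [LinearMap.toMatrix'_mulVec, LinearMap.comp_apply, show proj (v : Fin d → κ) = v from LinearMap.congr_fun hproj v]
    funext i
    refine Eq.trans ?_ (congrFun (congrArg Subtype.val (b.sum_repr v)) i)
    rw [Submodule.coe_sum, Finset.sum_apply]
    simp only [Bk, mulVec, dotProduct, Matrix.of_apply]
    exact Finset.sum_congr rfl fun x _ => by simp [mul_comm]
  obtain ⟨s, B₁, hs, hB₁⟩ := exists_clear p (fun ij : Fin d × Fin n => Bk ij.1 ij.2)
  obtain ⟨t, C₁, ht, hC₁⟩ := exists_clear p (fun ij : Fin n × Fin d => Ck ij.1 ij.2)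
  let B₀ : Matrix (Fin d) (Fin n) R := P * Matrix.of fun i j => B₁ (i, j)
  let C₀ : Matrix (Fin n) (Fin d) R := Matrix.of fun i j => C₁ (i, j)
  have eB : B₀.map ρ = ρ s • Bk := by
    rw [Matrix.map_mul, show (Matrix.of fun i j => B₁ (i, j)).map ρ = ρ s • Bk from Matrix.ext fun i j => hB₁ (i, j),
      Matrix.mul_smul]
    exact congrArg _ hPB
  have eC : C₀.map ρ = ρ t • Ck := Matrix.ext fun i j => hC₁ (i, j)
  let G := C₀ * B₀
  have eG : G.map ρ = (ρ s * ρ t) • (1 : Matrix (Fin n) (Fin n) κ) := by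
    rw [Matrix.map_mul, eB, eC, Matrix.smul_mul, Matrix.mul_smul, hCB, smul_smul, mul_comm]
  have hst : ρ s * ρ t ≠ 0 := mul_ne_zero (fun h => hs (Ideal.algebraMap_residueField_eq_zero.1 h))
    (fun h => ht (Ideal.algebraMap_residueField_eq_zero.1 h))
  let δ := G.det
  have eδ : ρ δ = (ρ s * ρ t) ^ n := by
    rw [RingHom.map_det, RingHom.mapMatrix_apply, eG, Matrix.det_smul, Matrix.det_one, mul_one, Fintype.card_fin]
  let Q := δ • P - B₀ * G.adjugate * C₀ * P
  have hPB₀ : P * B₀ = B₀ := by rw [← Matrix.mul_assoc, hPP]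
  have hQ2 : Q * Q = δ • Q := by
    have h3 : C₀ * P * B₀ = G := by rw [Matrix.mul_assoc, hPB₀]
    have a1 : B₀ * G.adjugate * C₀ * P * P = B₀ * G.adjugate * C₀ * P := by rw [Matrix.mul_assoc, hPP]
    have a2 : P * (B₀ * G.adjugate * C₀ * P) = B₀ * G.adjugate * C₀ * P := by
      simp only [← Matrix.mul_assoc, hPB₀]
    have a3 : B₀ * G.adjugate * C₀ * P * (B₀ * G.adjugate * C₀ * P) = δ • (B₀ * G.adjugate * C₀ * P) := by
      calc _ = B₀ * (G.adjugate * (C₀ * P * B₀)) * G.adjugate * C₀ * P := by simp only [Matrix.mul_assoc]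
        _ = _ := by
          rw [h3, Matrix.adjugate_mul, Matrix.mul_smul, Matrix.mul_one]
          simp only [Matrix.smul_mul, δ]
    simp only [Q, Matrix.sub_mul, Matrix.mul_sub, Matrix.smul_mul, Matrix.mul_smul, hPP, a1, a2, a3, smul_sub]
    abel
  have eQ : Q.map ρ = 0 := by
    rcases Nat.eq_zero_or_pos n with rfl | hn'
    · have hP0 : Pk = 0 := by
        rw [← hBCP]
        ext i j
        simp [Matrix.mul_apply]
      have hB0 : ∀ (X : Matrix (Fin 0) (Fin 0) R), B₀ * X * C₀ * P = 0 := fun X => by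
        ext i j
        simp [Matrix.mul_apply]
      simp only [Q, hB0, sub_zero]
      ext i j
      simp [show ρ (P i j) = 0 from congrFun (congrFun hP0 i) j]
    · have h1 : G.adjugate.map ρ = (ρ s * ρ t) ^ (n - 1) • (1 : Matrix (Fin n) (Fin n) κ) := by
        rw [← RingHom.mapMatrix_apply, RingHom.map_adjugate, RingHom.mapMatrix_apply, eG, Matrix.adjugate_smul,
          Matrix.adjugate_one, Fintype.card_fin]
      rw [Matrix.map_sub _ (map_sub ρ), Matrix.map_mul, Matrix.map_mul, Matrix.map_mul, h1, eB, eC,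
        show (δ • P).map ρ = ρ δ • Pk from Matrix.ext fun i j => map_mul ρ δ (P i j), eδ]
      simp only [Matrix.mul_smul, Matrix.smul_mul, Matrix.mul_one, smul_smul]
      rw [hBCP, sub_eq_zero]
      congr 1
      obtain ⟨m, rfl⟩ : ∃ m, n = m + 1 := ⟨n - 1, by omega⟩
      rw [Nat.add_sub_cancel, pow_succ]
      ring
  let E := δ • (1 : Matrix (Fin d) (Fin d) R) - Q
  have hEQ : E * Q = 0 := by simp [E, Matrix.sub_mul, hQ2]
  have hδ : δ ∉ p := fun h => pow_ne_zero n hst (eδ ▸ Ideal.algebraMap_residueField_eq_zero.2 h)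
  have hE : E.det ∉ p := by
    intro h
    have h' : ρ E.det = 0 := Ideal.algebraMap_residueField_eq_zero.2 h
    rw [RingHom.map_det, RingHom.mapMatrix_apply, Matrix.map_sub _ (map_sub ρ), eQ, sub_zero,
      show (δ • (1 : Matrix (Fin d) (Fin d) R)).map ρ = ρ δ • (1 : Matrix (Fin d) (Fin d) κ) from
        Matrix.ext fun i j => by simp [Matrix.one_apply, apply_ite ρ],
      Matrix.det_smul, Matrix.det_one, mul_one] at h'
    exact hδ (Ideal.algebraMap_residueField_eq_zero.1 (pow_eq_zero_iff'.1 h').1)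
  have hQ0 : E.det • Q = 0 := by
    have := congrArg (E.adjugate * ·) hEQ
    simpa [← Matrix.mul_assoc, Matrix.adjugate_mul] using this
  refine ⟨δ * E.det, fun h => (‹p.IsPrime›.mem_or_mem h).elim hδ hE, ?_⟩
  let σ := algebraMap R (Localization.Away (δ * E.det))
  have hu : IsUnit (σ δ) ∧ IsUnit (σ E.det) := by
    have := IsLocalization.Away.algebraMap_isUnit (S := Localization.Away (δ * E.det)) (δ * E.det)
    rw [map_mul] at this
    exact IsUnit.mul_iff.1 this
  obtain ⟨u, hu1⟩ := hu.1
  refine ⟨B₀.map σ, (↑u⁻¹ : Localization.Away (δ * E.det)) • (G.adjugate * C₀ * P).map σ, ?_, ?_⟩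
  · rw [Matrix.smul_mul, ← Matrix.map_mul, Matrix.mul_assoc (G.adjugate * C₀) P B₀, hPB₀, Matrix.mul_assoc,
      Matrix.adjugate_mul]
    refine Matrix.ext fun i j => ?_
    rcases eq_or_ne i j with rfl | hij
    · have hu2 : (↑u⁻¹ : Localization.Away (δ * E.det)) * σ G.det = 1 := by
        show _ * σ δ = 1
        rw [← hu1, Units.inv_mul]
      simp [Matrix.one_apply, hu2]
    · simp [Matrix.one_apply, hij]
  · rw [Matrix.mul_smul, ← Matrix.map_mul]
    have hz : Q.map σ = 0 := Matrix.ext fun i j => by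
      have := congrArg σ (congrFun (congrFun hQ0 i) j)
      simp only [Matrix.smul_apply, smul_eq_mul, map_mul, Matrix.zero_apply, map_zero] at this
      exact hu.2.mul_right_eq_zero.1 this
    rw [Matrix.map_sub _ (map_sub σ), sub_eq_zero] at hz
    simp only [← Matrix.mul_assoc]
    rw [← hz]
    refine Matrix.ext fun i j => ?_
    simp [← hu1, ← mul_assoc, σ]

end Proj

variable {k : Type u} [Field k] {A : Type u} [Ring A] [Algebra k A] {d : ℕ} (β : Module.Basis (Fin d) k A)

/-- Coordinates. -/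
def coordE (R : Type u) [CommRing R] [Algebra k R] : R ⊗[k] A ≃ₗ[R] (Fin d → R) :=
  (Algebra.TensorProduct.basis R β).equivFun

variable {R S : Type u} [CommRing R] [Algebra k R] [CommRing S] [Algebra k S]

theorem coordE_tmul (r : R) (a : A) (i : Fin d) :
    coordE β R (r ⊗ₜ[k] a) i = r * algebraMap k R (β.repr a i) := by
  simp [coordE, Algebra.TensorProduct.basis_repr_tmul, Algebra.algebraMap_eq_smul_one]

theorem coordE_bc (φ : R →ₐ[k] S) (x : R ⊗[k] A) : coordE β S (bc φ x) = ⇑φ ∘ coordE β R x := by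
  induction x using TensorProduct.induction_on with
  | zero => funext i; simp
  | tmul r a => funext i; simp [coordE_tmul]
  | add x y hx hy => funext i; simp [hx, hy]

variable {c : ℕ}

/-- The coordinates of the elements of a left ideal. -/
def NC (N : BrSev.SBSet k A c R) : Submodule R (Fin d → R) :=
  N.1.toSubmodule.map (coordE β R : R ⊗[k] A →ₗ[R] Fin d → R)

theorem mem_NC (N : BrSev.SBSet k A c R) (x : R ⊗[k] A) : coordE β R x ∈ NC β N ↔ x ∈ N.1.toSubmodule := by
  simp [NC, Submodule.mem_map_equiv]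

theorem NC_map (φ : R →ₐ[k] S) (N : BrSev.SBSet k A c R) :
    NC β (sbMap φ N) = Submodule.span S ((fun z => ⇑φ ∘ z) '' (NC β N : Set (Fin d → R))) := by
  show Submodule.map _ (Module.Grassmannian.map φ N.1).toSubmodule = _
  rw [map_toSubmodule_span, Submodule.map_span, NC, Submodule.map_coe, Set.image_image, Set.image_image]
  congr 1
  exact Set.image_congr fun x _ => coordE_bc β φ x

theorem exists_projector_NC (N : BrSev.SBSet k A c R) :
    ∃ P : Matrix (Fin d) (Fin d) R, P * P = P ∧ ∀ y, y ∈ NC β N ↔ P *ᵥ y = y := by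
  haveI := N.1.projective_quotient
  haveI : Module.Projective R ((Fin d → R) ⧸ NC β N) :=
    Module.Projective.of_equiv (Submodule.Quotient.equiv N.1.toSubmodule (NC β N) (coordE β R) rfl)
  exact exists_projector (NC β N)

/-- Near every prime the coordinates of a left ideal have a split frame. -/
theorem exists_frame_NC (N : BrSev.SBSet k A c R) {P : Matrix (Fin d) (Fin d) R} (hPP : P * P = P)
    (hP : ∀ y, y ∈ NC β N ↔ P *ᵥ y = y) {n : ℕ} (hd : c + n = d) (p : Ideal R) [p.IsPrime] :
    ∃ r : R, r ∉ p ∧ ∃ (B : Matrix (Fin d) (Fin n) (Localization.Away r))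
      (C : Matrix (Fin n) (Fin d) (Localization.Away r)),
      C * B = 1 ∧ B * C = P.map (algebraMap R (Localization.Away r)) := by
  refine exists_frame hPP p ?_
  let φ : R →ₐ[k] p.ResidueField := IsScalarTower.toAlgHom k R _
  have hrange : LinearMap.range (Matrix.toLin' (P.map (algebraMap R p.ResidueField))) = NC β (sbMap φ N) := by
    ext y
    rw [NC_map]
    refine Iff.trans ?_ (mem_span_iff hP hPP (φ : R →+* p.ResidueField) y).symm
    refine ⟨?_, fun h => ⟨y, by rw [Matrix.toLin'_apply]; exact h⟩⟩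
    rintro ⟨w, rfl⟩
    rw [Matrix.toLin'_apply, mulVec_mulVec]
    congr 1
    show P.map (algebraMap R p.ResidueField) * P.map (algebraMap R p.ResidueField) = _
    rw [← Matrix.map_mul]
    exact congrArg (fun M : Matrix (Fin d) (Fin d) R => M.map _) hPP
  rw [hrange, NC, LinearEquiv.finrank_map_eq]
  haveI : Module.Finite p.ResidueField (p.ResidueField ⊗[k] A) :=
    Module.Finite.of_basis (Algebra.TensorProduct.basis p.ResidueField β)
  have h := (sbMap φ N).1.toSubmodule.finrank_quotient_add_finrank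
  rw [Module.finrank_eq_card_basis (Algebra.TensorProduct.basis p.ResidueField β), Fintype.card_fin] at h
  haveI := (sbMap φ N).1.projective_quotient
  have h2 := (sbMap φ N).1.rankAtStalk_eq ⟨⊥, Ideal.isPrime_bot⟩
  rw [Module.rankAtStalk_eq_finrank_of_free] at h2
  simp at h2
  omega

/-- The matrix of left multiplication. -/
def lMat (a : A) : Matrix (Fin d) (Fin d) k := LinearMap.toMatrix β β (LinearMap.mulLeft k a)

theorem coordE_mul (a : A) (x : R ⊗[k] A) :
    coordE β R ((1 ⊗ₜ[k] a) * x) = (lMat β a).map (algebraMap k R) *ᵥ coordE β R x := by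
  induction x using TensorProduct.induction_on with
  | zero => simp
  | tmul r b =>
    rw [Algebra.TensorProduct.tmul_mul_tmul, one_mul]
    funext i
    have h := congrFun (LinearMap.toMatrix_mulVec_repr β β (LinearMap.mulLeft k a) b) i
    rw [LinearMap.mulLeft_apply] at h
    simp only [coordE_tmul, mulVec, dotProduct, Matrix.map_apply, lMat] at h ⊢
    rw [← h, map_sum, Finset.mul_sum]
    refine Finset.sum_congr rfl fun j _ => ?_
    rw [map_mul]
    ring
  | add x y hx hy => simp [mul_add, mulVec_add, hx, hy]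

theorem lMat_mulVec_mem (N : BrSev.SBSet k A c R) (a : A) {y : Fin d → R} (hy : y ∈ NC β N) :
    (lMat β a).map (algebraMap k R) *ᵥ y ∈ NC β N := by
  obtain ⟨x, rfl⟩ := (coordE β R).surjective y
  rw [← coordE_mul, mem_NC]
  exact N.2 _ x ((mem_NC β N x).1 hy)

section Row

variable {K : Type u} [Field K] [Algebra k K] {n : ℕ} (Φ : K ⊗[k] A ≃ₐ[K] Matrix (Fin n) (Fin n) K)
  [Algebra K R] [IsScalarTower k K R]

/-- The matrix with given coordinates. -/
def matOf (y : Fin d → R) : Matrix (Fin n) (Fin n) R :=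
  ∑ m, y m • (Φ (1 ⊗ₜ[k] β m)).map (algebraMap K R)

theorem splitHom_eq_matOf (x : R ⊗[k] A) : splitHom Φ R x = matOf β Φ (coordE β R x) := by
  conv_lhs => rw [← (Algebra.TensorProduct.basis R β).sum_repr x]
  rw [map_sum]
  refine Finset.sum_congr rfl fun m _ => ?_
  rw [Algebra.TensorProduct.basis_apply, map_smul, splitHom_tmul, one_smul]
  rfl

theorem mem_NC_pPt (hA : Module.finrank k A = n * n) (hn : 0 < n) {v : Fin n → R} (hv : IsUni v) (y : Fin d → R) :
    y ∈ NC β (pPt Φ hA hn v hv) ↔ matOf β Φ y ∈ rowIdeal v := by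
  obtain ⟨x, rfl⟩ := (coordE β R).surjective y
  rw [mem_NC, mem_pPt, splitHom_eq_matOf β]

end Row

end Groth.Agent.ASB24.Taut
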