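import Groth.Agent.ASB24.TautAlg
import Groth.Agent.QCoh.Submod
import Groth.Agent.H23.Frame
import Groth.Agent.H23.ModLoc
import Groth.Agent.PinchPO7.FrameLemmas
import Groth.Agent.ASB24.BcHom

/-!
# The tautological left ideal sheaf of a family of left ideals
-/

set_option linter.style.haveILetI false
set_option backward.isDefEq.respectTransparency false
set_option backward.isDefEq.respectTransparency.types false

universe u

open CategoryTheory CategoryTheory.Limits AlgebraicGeometry TopologicalSpace Opposite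
open scoped TensorProduct Matrix

noncomputable section

namespace Groth.Agent.ASB24.Taut

open Groth.Agent Groth.Agent.SBAut Groth.Agent.H23

section Free

variable {Y : Scheme.{u}} {d : ℕ}

/-- The coordinates of a section of the free module. -/
def co (W : Y.Opens) (t : Γ(FlatMod.freeMod Y d, W)) : Fin d → Γ(Y, W) :=
  fun i => (show Γ(Y, W) from (Frame.proj Y d i).app W t)

theorem co_add (W : Y.Opens) (s t : Γ(FlatMod.freeMod Y d, W)) : co W (s + t) = co W s + co W t :=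
  funext fun i => map_add ((Frame.proj Y d i).app W).hom s t

theorem co_zero (W : Y.Opens) : co W (0 : Γ(FlatMod.freeMod Y d, W)) = 0 :=
  funext fun i => map_zero ((Frame.proj Y d i).app W).hom

theorem co_smul (W : Y.Opens) (a : Γ(Y, W)) (t : Γ(FlatMod.freeMod Y d, W)) : co W (a • t) = a • co W t :=
  funext fun i => Scheme.Modules.Hom.app_smul (Frame.proj Y d i) a t

theorem co_injective (W : Y.Opens) : Function.Injective (co (d := d) W) := fun s t h => by
  rw [← Frame.free_eq_sum W s, ← Frame.free_eq_sum W t]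
  exact Finset.sum_congr rfl fun i _ => congrArg (· • _) (congrFun h i)

/-- A section with given coordinates. -/
def mk (W : Y.Opens) (y : Fin d → Γ(Y, W)) : Γ(FlatMod.freeMod Y d, W) :=
  ∑ i, y i • (Frame.incl Y d i).app W (Frame.one W)

theorem co_mk (W : Y.Opens) (y : Fin d → Γ(Y, W)) : co W (mk W y) = y :=
  funext fun i => Frame.proj_comb W y i

theorem co_res {V W : Y.Opens} (h : V ≤ W) (t : Γ(FlatMod.freeMod Y d, W)) :
    co V ((FlatMod.freeMod Y d).presheaf.map (homOfLE h).op t) = ⇑(Y.presheaf.map (homOfLE h).op).hom ∘ co W t :=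
  funext fun i => ConcreteCategory.congr_hom ((Frame.proj Y d i).mapPresheaf.naturality (homOfLE h).op) t

end Free

/-- A morphism into a submodule of a module. -/
def liftSub {Y : Scheme.{u}} {M M' : Y.Modules} (N : QCoh.SubMod M) (φ : M' ⟶ M)
    (h : ∀ (U : Y.Opens) (s : Γ(M', U)), φ.app U s ∈ N.mem U) : M' ⟶ N.toModules :=
  ⟨PresheafOfModules.homMk
    { app := fun U => AddCommGrpCat.ofHom (AddMonoidHom.mk'
        (fun s : Γ(M', U.unop) => (show Γ(N.toModules, U.unop) from (⟨φ.app U.unop s, h U.unop s⟩ : N.mem U.unop)))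
        fun s t => Subtype.ext (map_add (φ.app U.unop).hom s t))
      naturality := fun U V i => AddCommGrpCat.ext fun s => Subtype.ext
        (ConcreteCategory.congr_hom (φ.mapPresheaf.naturality i) s) }
    fun U (r : Γ(Y, U.unop)) (s : Γ(M', U.unop)) => Subtype.ext (Scheme.Modules.Hom.app_smul φ r s)⟩

theorem liftSub_ι_app {Y : Scheme.{u}} {M M' : Y.Modules} (N : QCoh.SubMod M) (φ : M' ⟶ M)
    (h : ∀ (U : Y.Opens) (s : Γ(M', U)), φ.app U s ∈ N.mem U) (U : Y.Opens) (s : Γ(M', U)) :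
    N.ι.app U ((liftSub N φ h).app U s) = φ.app U s := rfl

theorem liftSub_ι {Y : Scheme.{u}} {M M' : Y.Modules} (N : QCoh.SubMod M) (φ : M' ⟶ M)
    (h : ∀ (U : Y.Opens) (s : Γ(M', U)), φ.app U s ∈ N.mem U) : liftSub N φ h ≫ N.ι = φ := by
  refine Scheme.Modules.hom_ext _ _ fun U => ?_
  ext s
  rfl

/-- A morphism which is bijective on the opens inside the members of a cover is an isomorphism. -/
theorem isIso_of_bijective {Y : Scheme.{u}} {M M' : Y.Modules} (φ : M ⟶ M')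
    (h : ∀ y : Y, ∃ U : Y.Opens, y ∈ U ∧ ∀ W ≤ U, Function.Bijective (φ.app W)) : IsIso φ := by
  refine ModLoc.isIso_of_locally φ fun y => ?_
  obtain ⟨U, hy, hU⟩ := h y
  refine ⟨U, hy, ?_⟩
  haveI : ∀ W, IsIso (((Scheme.Modules.toPresheaf _).map ((Scheme.Modules.restrictFunctor U.ι).map φ)).app W) :=
    fun W => (ConcreteCategory.isIso_iff_bijective _).2 (hU (U.ι ''ᵁ W.unop) (by
      rintro _ ⟨x, -, rfl⟩
      exact x.2))
  haveI := NatIso.isIso_of_isIso_app ((Scheme.Modules.toPresheaf _).map ((Scheme.Modules.restrictFunctor U.ι).map φ))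
  exact isIso_of_reflects_iso _ (Scheme.Modules.toPresheaf _)

variable {k : Type u} [Field k]

/-- The constants on an open. -/
def gr {Y : Scheme.{u}} (g : Y ⟶ Spec (CommRingCat.of k)) (V : Y.Opens) : k →+* Γ(Y, V) :=
  (Y.presheaf.map (homOfLE (le_top : V ≤ ⊤)).op).hom.comp (Coh.toGlobal g)

theorem gr_res {Y : Scheme.{u}} (g : Y ⟶ Spec (CommRingCat.of k)) {V W : Y.Opens} (h : V ≤ W) (a : k) :
    Y.presheaf.map (homOfLE h).op (gr g W a) = gr g V a :=
  (ConcreteCategory.congr_hom (Y.presheaf.map_comp (homOfLE (le_top : W ≤ ⊤)).op (homOfLE h).op) _).symm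

theorem fromSpec_gr {Y : Scheme.{u}} (g : Y ⟶ Spec (CommRingCat.of k)) {V : Y.Opens} (hV : IsAffineOpen V) :
    hV.fromSpec ≫ g = Spec.map (CommRingCat.ofHom (gr g V)) := by
  have h : g = Y.toSpecΓ ≫ Spec.map ((Scheme.ΓSpecIso (CommRingCat.of k)).inv ≫ g.appTop) := by
    rw [Spec.map_comp, ← Scheme.toSpecΓ_naturality_assoc, toSpecΓ_SpecMap_ΓSpecIso_inv, Category.comp_id]
  conv_lhs => rw [h]
  rw [← Category.assoc, IsAffineOpen.fromSpec_toSpecΓ, ← Spec.map_comp]
  rfl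

variable {A : Type u} [Ring A] [Algebra k A] {d : ℕ} (β : Module.Basis (Fin d) k A) {c : ℕ}
  {X : Scheme.{u}} {f : X ⟶ Spec (CommRingCat.of k)} (s : BrSev.SBStr k A c f)
  {Y : Scheme.{u}} {q : Y ⟶ X} {g : Y ⟶ Spec (CommRingCat.of k)} (hq : q ≫ f = g)

/-- The coordinates of the left ideal over an affine open. -/
def NV (V : Y.Opens) (hV : IsAffineOpen V) : Submodule Γ(Y, V) (Fin d → Γ(Y, V)) :=
  letI : Algebra k Γ(Y, V) := (gr g V).toAlgebra
  NC β (s.bij Γ(Y, V) ⟨hV.fromSpec ≫ q, by rw [Category.assoc, hq]; exact fromSpec_gr g hV⟩)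

theorem exists_NV_projector (V : Y.Opens) (hV : IsAffineOpen V) :
    ∃ P : Matrix (Fin d) (Fin d) Γ(Y, V), P * P = P ∧ ∀ y, y ∈ NV β s hq V hV ↔ P *ᵥ y = y := by
  letI : Algebra k Γ(Y, V) := (gr g V).toAlgebra
  exact exists_projector_NC β _

theorem toGlobal_comp {Z : Scheme.{u}} (r : Z ⟶ Y) (a : k) :
    r.appTop (Coh.toGlobal g a) = Coh.toGlobal (r ≫ g) a := rfl

/-- Membership along a morphism into an affine open. -/
theorem mem_NV_iff {Z : Scheme.{u}} {r : Z ⟶ Y} {q' : Z ⟶ X} {g' : Z ⟶ Spec (CommRingCat.of k)}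
    (hq' : q' ≫ f = g') (hr : r ≫ q = q') {U : Y.Opens} (hU : IsAffineOpen U) {V : Z.Opens} (hV : IsAffineOpen V)
    (h : V ≤ r ⁻¹ᵁ U) {P : Matrix (Fin d) (Fin d) Γ(Y, U)} (hPP : P * P = P)
    (hP : ∀ y, y ∈ NV β s hq U hU ↔ P *ᵥ y = y) (y : Fin d → Γ(Z, V)) :
    y ∈ NV β s hq' V hV ↔ P.map (r.appLE U V h).hom *ᵥ y = y := by
  letI : Algebra k Γ(Y, U) := (gr g U).toAlgebra
  letI : Algebra k Γ(Z, V) := (gr g' V).toAlgebra
  let φ : Γ(Y, U) →ₐ[k] Γ(Z, V) :=
    { (r.appLE U V h).hom with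
      commutes' := fun a => by
        show r.appLE U V h (Y.presheaf.map _ (Coh.toGlobal g a)) = Z.presheaf.map _ (Coh.toGlobal g' a)
        rw [← hq', ← hr, Category.assoc, hq, ← toGlobal_comp]
        rw [← ConcreteCategory.comp_apply, Scheme.Hom.map_appLE, ← ConcreteCategory.comp_apply]
        rfl }
  have hpt : BrSev.Pts.map f φ ⟨hU.fromSpec ≫ q, by rw [Category.assoc, hq]; exact fromSpec_gr g hU⟩ =
      ⟨hV.fromSpec ≫ q', by rw [Category.assoc, hq']; exact fromSpec_gr g' hV⟩ := Subtype.ext (by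
    show Spec.map (CommRingCat.ofHom (r.appLE U V h).hom) ≫ hU.fromSpec ≫ q = hV.fromSpec ≫ q'
    rw [CommRingCat.ofHom_hom, IsAffineOpen.SpecMap_appLE_fromSpec_assoc r hU hV h, hr])
  show y ∈ NC β (s.bij Γ(Z, V) _) ↔ _
  rw [← hpt, show s.bij Γ(Z, V) (BrSev.Pts.map f φ _) = sbMap φ (s.bij Γ(Y, U) _) from
    sbSet_ext (s.natural _ _ φ _), NC_map]
  exact mem_span_iff hP hPP (φ : Γ(Y, U) →+* Γ(Z, V)) y

theorem mem_NV_res {U : Y.Opens} (hU : IsAffineOpen U) {V : Y.Opens} (hV : IsAffineOpen V) (h : V ≤ U)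
    {P : Matrix (Fin d) (Fin d) Γ(Y, U)} (hPP : P * P = P) (hP : ∀ y, y ∈ NV β s hq U hU ↔ P *ᵥ y = y)
    (y : Fin d → Γ(Y, V)) :
    y ∈ NV β s hq V hV ↔ P.map (Y.presheaf.map (homOfLE h).op).hom *ᵥ y = y := by
  have := mem_NV_iff β s hq hq (Category.id_comp q) hU hV h hPP hP y
  rwa [show (𝟙 Y : Y ⟶ Y).appLE U V h = Y.presheaf.map (homOfLE h).op from by simp [Scheme.Hom.appLE]] at this

theorem res_mulVec {V W : Y.Opens} (h : V ≤ W) (M : Matrix (Fin d) (Fin d) Γ(Y, W)) (y : Fin d → Γ(Y, W)) :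
    M.map (Y.presheaf.map (homOfLE h).op).hom *ᵥ (⇑(Y.presheaf.map (homOfLE h).op).hom ∘ y) =
      ⇑(Y.presheaf.map (homOfLE h).op).hom ∘ (M *ᵥ y) :=
  funext fun i => (RingHom.map_mulVec _ M y i).symm

theorem eq_of_locally {W : Y.Opens} (a b : Fin d → Γ(Y, W))
    (h : ∀ x ∈ W, ∃ (V : Y.Opens) (i : V ≤ W), x ∈ V ∧
      ⇑(Y.presheaf.map (homOfLE i).op).hom ∘ a = ⇑(Y.presheaf.map (homOfLE i).op).hom ∘ b) : a = b := by
  choose V hVW hxV hV using h
  funext j
  exact TopCat.Sheaf.eq_of_locally_eq' Y.sheaf (fun x : W => V x.1 x.2) W (fun x => homOfLE (hVW x.1 x.2))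
    (fun x hx => Opens.mem_iSup.mpr ⟨⟨x, hx⟩, hxV x hx⟩) _ _ fun x => congrFun (hV x.1 x.2) j

/-- The tautological sheaf. -/
def sub : QCoh.SubMod (FlatMod.freeMod Y d) where
  mem W :=
    { carrier := {t | ∀ (V : Y.Opens) (hV : IsAffineOpen V) (h : V ≤ W),
        ⇑(Y.presheaf.map (homOfLE h).op).hom ∘ co W t ∈ NV β s hq V hV}
      add_mem' := fun {a b} ha hb V hV h => by
        rw [co_add, show ⇑(Y.presheaf.map (homOfLE h).op).hom ∘ (co W a + co W b) =
          ⇑(Y.presheaf.map (homOfLE h).op).hom ∘ co W a + ⇑(Y.presheaf.map (homOfLE h).op).hom ∘ co W b from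
          funext fun i => map_add _ _ _]
        exact add_mem (ha V hV h) (hb V hV h)
      zero_mem' := fun V hV h => by
        rw [co_zero, show ⇑(Y.presheaf.map (homOfLE h).op).hom ∘ (0 : Fin d → Γ(Y, W)) = 0 from
          funext fun i => map_zero _]
        exact zero_mem _
      smul_mem' := fun a t ht V hV h => by
        rw [co_smul, show ⇑(Y.presheaf.map (homOfLE h).op).hom ∘ (a • co W t) =
          (Y.presheaf.map (homOfLE h).op).hom a • (⇑(Y.presheaf.map (homOfLE h).op).hom ∘ co W t) from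
          funext fun i => map_mul _ _ _]
        exact Submodule.smul_mem _ _ (ht V hV h) }
  map_mem {W W'} i {t} ht := fun V hV h => by
    have := ht V hV (h.trans i)
    rw [co_res, ← Function.comp_assoc, ← RingHom.coe_comp, ← CommRingCat.hom_comp, ← Y.presheaf.map_comp]
    exact this
  of_locally W t ht := fun V hV h => by
    obtain ⟨P, hPP, hP⟩ := exists_NV_projector β s hq V hV
    rw [hP]
    refine eq_of_locally _ _ fun x hx => ?_
    obtain ⟨W', hW'W, hxW', hmem⟩ := ht x (h hx)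
    obtain ⟨V', hV', hxV', hV'le⟩ := exists_isAffineOpen_mem_and_subset (U := V ⊓ W') (show x ∈ V ⊓ W' from ⟨hx, hxW'⟩)
    have h1 : V' ≤ V := fun z hz => (hV'le hz).1
    have h2 : V' ≤ W' := fun z hz => (hV'le hz).2
    refine ⟨V', h1, hxV', ?_⟩
    have := (mem_NV_res β s hq hV hV' h1 hPP hP _).1 (hmem V' hV' h2)
    rw [co_res, ← Function.comp_assoc, ← RingHom.coe_comp, ← CommRingCat.hom_comp, ← Y.presheaf.map_comp] at this
    rw [← res_mulVec]
    simp only [← Function.comp_assoc, ← RingHom.coe_comp, ← CommRingCat.hom_comp, ← Y.presheaf.map_comp]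
    exact this

/-- The tautological module. -/
abbrev taut : Y.Modules := (sub β s hq).toModules

/-- Membership below an affine open. -/
theorem mem_sub_iff {Z : Scheme.{u}} {r : Z ⟶ Y} {q' : Z ⟶ X} {g' : Z ⟶ Spec (CommRingCat.of k)}
    (hq' : q' ≫ f = g') (hr : r ≫ q = q') {U : Y.Opens} (hU : IsAffineOpen U) {W : Z.Opens}
    (h : W ≤ r ⁻¹ᵁ U) {P : Matrix (Fin d) (Fin d) Γ(Y, U)} (hPP : P * P = P)
    (hP : ∀ y, y ∈ NV β s hq U hU ↔ P *ᵥ y = y) (t : Γ(FlatMod.freeMod Z d, W)) :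
    t ∈ (sub β s hq').mem W ↔ P.map (r.appLE U W h).hom *ᵥ co W t = co W t := by
  have key : ∀ (V : Z.Opens) (i : V ≤ W), P.map (r.appLE U V (i.trans h)).hom =
      (P.map (r.appLE U W h).hom).map (Z.presheaf.map (homOfLE i).op).hom := fun V i => by
    rw [Matrix.map_map, ← RingHom.coe_comp, ← CommRingCat.hom_comp, Scheme.Hom.appLE_map]
  refine ⟨fun ht => eq_of_locally _ _ fun x hx => ?_, fun ht V hV i => ?_⟩
  · obtain ⟨V, hV, hxV, hVW⟩ := exists_isAffineOpen_mem_and_subset (U := W) hx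
    refine ⟨V, hVW, hxV, ?_⟩
    rw [← res_mulVec, ← key V hVW]
    exact (mem_NV_iff β s hq hq' hr hU hV _ hPP hP _).1 (ht V hV hVW)
  · rw [mem_NV_iff β s hq hq' hr hU hV (i.trans h) hPP hP, key V i, res_mulVec, ht]

/-- Split frames of the sheaf over an open. -/
def IsFrameMat {n : ℕ} {D : Y.Opens} (B : Matrix (Fin d) (Fin n) Γ(Y, D)) (C : Matrix (Fin n) (Fin d) Γ(Y, D)) : Prop :=
  C * B = 1 ∧ ∀ (W : Y.Opens) (h : W ≤ D) (t : Γ(FlatMod.freeMod Y d, W)),
    t ∈ (sub β s hq).mem W ↔ (B * C).map (Y.presheaf.map (homOfLE h).op).hom *ᵥ co W t = co W t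

theorem exists_frameMat {n : ℕ} (hd : c + n = d) (x : Y) :
    ∃ (U : Y.Opens) (hU : IsAffineOpen U) (P : Matrix (Fin d) (Fin d) Γ(Y, U)) (D : Y.Opens) (hDU : D ≤ U)
      (B : Matrix (Fin d) (Fin n) Γ(Y, D)) (C : Matrix (Fin n) (Fin d) Γ(Y, D)),
      x ∈ D ∧ P * P = P ∧ (∀ y, y ∈ NV β s hq U hU ↔ P *ᵥ y = y) ∧
      B * C = P.map (Y.presheaf.map (homOfLE hDU).op).hom ∧ IsFrameMat β s hq B C := by
  obtain ⟨U, hU, hx, -⟩ := exists_isAffineOpen_mem_and_subset (X := Y) (x := x) (U := ⊤) trivial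
  letI : Algebra k Γ(Y, U) := (gr g U).toAlgebra
  let Nd : BrSev.SBSet k A c Γ(Y, U) :=
    s.bij Γ(Y, U) ⟨hU.fromSpec ≫ q, by rw [Category.assoc, hq]; exact fromSpec_gr g hU⟩
  obtain ⟨P, hPP, hP⟩ := exists_projector_NC β Nd
  obtain ⟨r, hr, B, C, hCB, hBC⟩ := exists_frame_NC β Nd hPP hP hd (hU.primeIdealOf ⟨x, hx⟩).asIdeal
  let D := Y.basicOpen r
  have hDU : D ≤ U := Y.basicOpen_le r
  have hxD : x ∈ D := by
    have h1 : hU.primeIdealOf ⟨x, hx⟩ ∈ PrimeSpectrum.basicOpen r := hr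
    have h2 := hU.fromSpec_primeIdealOf ⟨x, hx⟩
    rw [← hU.fromSpec_preimage_basicOpen] at h1
    show x ∈ D
    exact (congrArg (· ∈ D) h2).mp h1
  let σ : Γ(Y, U) →+* Γ(Y, D) := (Y.presheaf.map (homOfLE hDU).op).hom
  have hu : IsUnit (σ r) := RingedSpace.isUnit_res_basicOpen _ r
  let ψ : Localization.Away r →+* Γ(Y, D) := IsLocalization.Away.lift r hu
  have hψ : ⇑ψ ∘ ⇑(algebraMap Γ(Y, U) (Localization.Away r)) = ⇑σ :=
    funext fun a => IsLocalization.Away.lift_eq r hu a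
  have hCB' : C.map ψ * B.map ψ = 1 := by rw [← Matrix.map_mul, hCB, Matrix.map_one ψ (map_zero ψ) (map_one ψ)]
  have hBC' : B.map ψ * C.map ψ = P.map σ := by rw [← Matrix.map_mul, hBC, Matrix.map_map, hψ]
  refine ⟨U, hU, P, D, hDU, B.map ψ, C.map ψ, hxD, hPP, hP, hBC', hCB', fun W h t => ?_⟩
  rw [mem_sub_iff β s hq hq (Category.id_comp q) hU (show W ≤ (𝟙 Y : Y ⟶ Y) ⁻¹ᵁ U from h.trans hDU) hPP hP, hBC',
    Matrix.map_map, ← RingHom.coe_comp, ← CommRingCat.hom_comp, ← Y.presheaf.map_comp]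
  rw [show (𝟙 Y : Y ⟶ Y).appLE U W (h.trans hDU) = Y.presheaf.map ((homOfLE hDU).op ≫ (homOfLE h).op) from by
    simp [Scheme.Hom.appLE]
    rw [← Y.presheaf.map_comp]
    rfl]

variable {β s hq}

/-- The frame sections. -/
def IsFrameMat.sec {n : ℕ} {D : Y.Opens} {B : Matrix (Fin d) (Fin n) Γ(Y, D)} {C : Matrix (Fin n) (Fin d) Γ(Y, D)}
    (hF : IsFrameMat β s hq B C) (j : Fin n) : Γ(taut β s hq, D) :=
  (⟨mk D fun i => B i j, (hF.2 D le_rfl _).2 (by
    have hid : (Y.presheaf.map (homOfLE (le_refl D)).op).hom = RingHom.id _ := by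
      rw [show (homOfLE (le_refl D)).op = 𝟙 (op D) from rfl, Y.presheaf.map_id]; rfl
    rw [co_mk, hid]
    funext i
    have h := congrFun (congrFun (show B * C * B = B by rw [Matrix.mul_assoc, hF.1, Matrix.mul_one]) i) j
    exact h)⟩ : (sub β s hq).mem D)

theorem IsFrameMat.co_comb {n : ℕ} {D : Y.Opens} {B : Matrix (Fin d) (Fin n) Γ(Y, D)}
    {C : Matrix (Fin n) (Fin d) Γ(Y, D)} (hF : IsFrameMat β s hq B C) (W : Y.Opens) (h : W ≤ D) (a : Fin n → Γ(Y, W)) :
    co W ((sub β s hq).ι.app W (Frame.comb (taut β s hq) hF.sec W h a)) =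
      B.map (Y.presheaf.map (homOfLE h).op).hom *ᵥ a := by
  let φ : Γ(taut β s hq, W) →+ (Fin d → Γ(Y, W)) :=
    AddMonoidHom.mk' (fun t => co W ((sub β s hq).ι.app W t)) fun x y => by rw [map_add, co_add]
  show φ (Frame.comb (taut β s hq) hF.sec W h a) = _
  rw [Frame.comb, map_sum]
  have key : ∀ j, φ (a j • (taut β s hq).presheaf.map (homOfLE h).op (hF.sec j)) =
      a j • (⇑(Y.presheaf.map (homOfLE h).op).hom ∘ fun i => B i j) := fun j => by
    show co W ((sub β s hq).ι.app W _) = _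
    rw [Scheme.Modules.Hom.app_smul, co_smul]
    congr 1
    show co W ((FlatMod.freeMod Y d).presheaf.map (homOfLE h).op (mk D fun i => B i j)) = _
    rw [co_res, co_mk]
  rw [Finset.sum_congr rfl fun j _ => key j]
  funext i
  simp [Matrix.mulVec, dotProduct, mul_comm]

theorem IsFrameMat.isFrame {n : ℕ} {D : Y.Opens} {B : Matrix (Fin d) (Fin n) Γ(Y, D)}
    {C : Matrix (Fin n) (Fin d) Γ(Y, D)} (hF : IsFrameMat β s hq B C) :
    Frame.IsFrame (taut β s hq) hF.sec := by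
  intro W h
  refine ⟨fun a a' e => ?_, fun t => ?_⟩
  · have e' := congrArg (fun z => (C.map (Y.presheaf.map (homOfLE h).op).hom) *ᵥ co W ((sub β s hq).ι.app W z)) e
    simp only [hF.co_comb W h, Matrix.mulVec_mulVec, ← Matrix.map_mul, hF.1,
      Matrix.map_one _ (map_zero _) (map_one _), Matrix.one_mulVec] at e'
    exact e'
  · refine ⟨C.map (Y.presheaf.map (homOfLE h).op).hom *ᵥ co W ((sub β s hq).ι.app W t), ?_⟩
    refine (sub β s hq).ι_app_injective W (co_injective W ?_)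
    rw [hF.co_comb W h, Matrix.mulVec_mulVec, ← Matrix.map_mul]
    exact (hF.2 W h _).1 ((sub β s hq).ι_app_mem W t)

variable (β s hq)

theorem isFinLocFree_taut {n : ℕ} (hd : c + n = d) : FlatMod.IsFinLocFree (taut β s hq) := fun x => by
  obtain ⟨U, hU, P, D, hDU, B, C, hxD, -, -, -, hF⟩ := exists_frameMat β s hq hd x
  exact ⟨D, n, hxD, Frame.exists_iso_of_frame _ hF.isFrame⟩

end Groth.Agent.ASB24.Taut
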