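import Groth.Agent.ASB24.TautPull
import Groth.Agent.SBAut.ProjIso
import Groth.Agent.Lib.PnDualMul
import Groth.Agent.PnCoh.Finite.TwistInv

/-!
# The tautological left ideal sheaf of a split algebra is a sum of twists
-/

set_option linter.style.haveILetI false
set_option backward.isDefEq.respectTransparency false
set_option backward.isDefEq.respectTransparency.types false

universe u

open CategoryTheory CategoryTheory.Limits AlgebraicGeometry TopologicalSpace Opposite MvPolynomial
open scoped TensorProduct Matrix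

noncomputable section

namespace Groth.Agent.ASB24.Taut

open Groth.Agent Groth.Agent.SBAut Groth.Agent.H23 Groth.Agent.ProjPt Groth.Agent.PnCoh
  Groth.Agent.PnCoh.Finite

attribute [local instance] Abelian.hasFiniteBiproducts

variable {k : Type u} [Field k] {A : Type u} [Ring A] [Algebra k A] {K : Type u} [Field K] [Algebra k K]
  {N : ℕ} (Φ : K ⊗[k] A ≃ₐ[K] Matrix (Fin (N + 1)) (Fin (N + 1)) K) {d : ℕ} (β : Module.Basis (Fin d) k A)

section Row

variable {R : Type u} [CommRing R] (ρ : K →+* R)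

/-- The coordinates of the matrix units. -/
def kap (a j : Fin (N + 1)) (m : Fin d) : K := coordE β K (Φ.symm (Matrix.single a j 1)) m

/-- The matrices of the basis. -/
def bm (m : Fin d) : Matrix (Fin (N + 1)) (Fin (N + 1)) K := Φ (1 ⊗ₜ[k] β m)

/-- The matrix with given coordinates, along a map. -/
def matR (y : Fin d → R) : Matrix (Fin (N + 1)) (Fin (N + 1)) R := ∑ m, y m • (bm Φ β m).map ρ

/-- The coordinates of a matrix, along a map. -/
def coR (M : Matrix (Fin (N + 1)) (Fin (N + 1)) R) : Fin d → R := fun m => ∑ a, ∑ j, M a j * ρ (kap Φ β a j m)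

theorem matR_apply (y : Fin d → R) (a j : Fin (N + 1)) : matR Φ β ρ y a j = ∑ m, y m * ρ (bm Φ β m a j) := by
  simp [matR, Matrix.sum_apply]

theorem sum_kap_bm (a j x z : Fin (N + 1)) :
    ∑ m, kap Φ β a j m * bm Φ β m x z = Matrix.single a j (1 : K) x z := by
  have h : ∑ m, kap Φ β a j m • bm Φ β m = Matrix.single a j (1 : K) := by
    have h1 := (Algebra.TensorProduct.basis K β).sum_repr (Φ.symm (Matrix.single a j 1))
    have h2 := congrArg Φ h1
    rw [map_sum, AlgEquiv.apply_symm_apply] at h2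
    refine Eq.trans (Finset.sum_congr rfl fun m _ => ?_) h2
    rw [map_smul, Algebra.TensorProduct.basis_apply]
    rfl
  simpa [Matrix.sum_apply] using congrFun (congrFun h x) z

theorem sum_bm_kap (m m' : Fin d) :
    ∑ a, ∑ j, bm Φ β m a j * kap Φ β a j m' = if m = m' then 1 else 0 := by
  let L : Matrix (Fin (N + 1)) (Fin (N + 1)) K →ₗ[K] (Fin d → K) :=
    (coordE β K).toLinearMap.comp Φ.symm.toLinearMap
  have h := congrArg (fun M => L M m') (Matrix.matrix_eq_sum_single (bm Φ β m))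
  simp only [map_sum, Finset.sum_apply] at h
  have h0 : L (bm Φ β m) m' = if m = m' then 1 else 0 := by
    show coordE β K (Φ.symm (Φ _)) m' = _
    rw [AlgEquiv.symm_apply_apply, coordE_tmul, Module.Basis.repr_self, Finsupp.single_apply]
    split <;> simp
  rw [← h0, h]
  refine Finset.sum_congr rfl fun a _ => Finset.sum_congr rfl fun j _ => ?_
  rw [show Matrix.single a j (bm Φ β m a j) = bm Φ β m a j • Matrix.single a j (1 : K) by simp, map_smul]
  rfl

theorem matR_coR (M : Matrix (Fin (N + 1)) (Fin (N + 1)) R) : matR Φ β ρ (coR Φ β ρ M) = M := by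
  refine Matrix.ext fun x z => ?_
  simp only [matR_apply, coR, Finset.sum_mul]
  rw [Finset.sum_comm]
  refine (Finset.sum_congr rfl fun a _ => Finset.sum_comm).trans ?_
  simp only [mul_assoc, ← map_mul, ← Finset.mul_sum, ← map_sum, sum_kap_bm]
  simp [Matrix.single_apply, ite_and, apply_ite ρ]

theorem coR_matR (y : Fin d → R) : coR Φ β ρ (matR Φ β ρ y) = y := by
  funext m'
  simp only [coR, matR_apply, Finset.sum_mul]
  refine (Finset.sum_congr rfl fun a _ => Finset.sum_comm).trans ?_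
  rw [Finset.sum_comm]
  simp only [mul_assoc, ← map_mul, ← Finset.mul_sum, ← map_sum, sum_bm_kap]
  simp [apply_ite ρ]

theorem matR_map {S : Type u} [CommRing S] (φ : R →+* S) (ρ' : K →+* S) (hρ : ∀ x, φ (ρ x) = ρ' x)
    (y : Fin d → R) : matR Φ β ρ' (⇑φ ∘ y) = (matR Φ β ρ y).map φ := by
  refine Matrix.ext fun a j => ?_
  simp [matR_apply, hρ]

end Row

section Chart

local notation "𝒫" => CohB1.polyGrading N K

/-- The chart open of a coordinate. -/
abbrev Di (K : Type u) [Field K] {N : ℕ} (i : Fin (N + 1)) : (CohB1.ProjSpace N K).Opens :=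
  Proj.basicOpen (CohB1.polyGrading N K) (X i)

theorem isAffineOpen_Di (i : Fin (N + 1)) : IsAffineOpen (Di K i) :=
  Proj.isAffineOpen_basicOpen (CohB1.polyGrading N K) (X i) (X_mem i) one_pos

theorem exists_mem_Di (y : CohB1.ProjSpace N K) : ∃ i, y ∈ Di K (N := N) i :=
  Opens.mem_iSup.1 ((Proj.iSup_basicOpen_eq_top (CohB1.polyGrading N K) _
    (SegreX.irrelevant_le_span N K)).ge (trivial : y ∈ (⊤ : (CohB1.ProjSpace N K).Opens)))

/-- Functions on a chart. -/
def sec (i : Fin (N + 1)) :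
    HomogeneousLocalization.Away (CohB1.polyGrading N K) (X i) →+* Γ(CohB1.ProjSpace N K, Di K i) :=
  (Proj.awayToSection (CohB1.polyGrading N K) (X i)).hom

theorem fromSpec_Di (i : Fin (N + 1)) : (isAffineOpen_Di (K := K) i).fromSpec =
    Spec.map (CommRingCat.ofHom (sec (K := K) i)) ≫
      Proj.awayι (CohB1.polyGrading N K) (X i) (X_mem i) one_pos := by
  have h : (Proj.basicOpenIsoSpec (CohB1.polyGrading N K) (X i) (X_mem i) one_pos).hom =
      (isAffineOpen_Di (K := K) i).isoSpec.hom ≫ Spec.map (CommRingCat.ofHom (sec (K := K) i)) := by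
    rw [Proj.basicOpenIsoSpec_hom, IsAffineOpen.isoSpec_hom]
    rfl
  rw [Proj.awayι, ← Category.assoc, show Spec.map (CommRingCat.ofHom (sec (K := K) i)) =
    (isAffineOpen_Di (K := K) i).isoSpec.inv ≫ (Proj.basicOpenIsoSpec _ (X i) (X_mem i) one_pos).hom by
      rw [h, Iso.inv_hom_id_assoc], Category.assoc _ _ (Iso.inv _), Iso.hom_inv_id, Category.comp_id]
  rfl

theorem awayι_toSpec (i : Fin (N + 1)) :
    Proj.awayι (CohB1.polyGrading N K) (X i) (X_mem i) one_pos ≫ CohB1.ProjSpace.toSpec N K =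
      Spec.map (CommRingCat.ofHom (cst (R := K) (n := N) i)) := by
  letI := (cst (R := K) (n := N) i).toAlgebra
  rw [ProjIso.awayι_eq_ppt i, ProjIso.ppt_toSpec]
  rfl

theorem toSpec_gr (i : Fin (N + 1)) {W : (CohB1.ProjSpace N K).Opens} (h : W ≤ Di K i) (a : K) :
    gr (CohB1.ProjSpace.toSpec N K) W a =
      (CohB1.ProjSpace N K).presheaf.map (homOfLE h).op (sec i (cst i a)) := by
  have key : gr (CohB1.ProjSpace.toSpec N K) (Di K i) = (sec i).comp (cst i) := by
    have h1 := fromSpec_gr (CohB1.ProjSpace.toSpec N K) (isAffineOpen_Di (K := K) i)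
    rw [fromSpec_Di, Category.assoc, awayι_toSpec, ← Spec.map_comp, ← CommRingCat.ofHom_comp] at h1
    exact (congrArg CommRingCat.Hom.hom (Spec.map_injective h1)).symm
  rw [← gr_res (CohB1.ProjSpace.toSpec N K) h a, key]
  rfl

/-- The coordinates on the opens of a chart. -/
def vc (i : Fin (N + 1)) (W : (CohB1.ProjSpace N K).Opens) (h : W ≤ Di K i) : Fin (N + 1) → Γ(CohB1.ProjSpace N K, W) :=
  fun j => (CohB1.ProjSpace N K).presheaf.map (homOfLE h).op (sec i (crd i j))

theorem vc_self (i : Fin (N + 1)) (W : (CohB1.ProjSpace N K).Opens) (h : W ≤ Di K i) : vc i W h i = 1 := by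
  rw [vc, crd_self, map_one, map_one]

theorem vc_res (i : Fin (N + 1)) {V W : (CohB1.ProjSpace N K).Opens} (e : V ≤ W) (h : W ≤ Di K i) :
    vc i V (e.trans h) = ⇑((CohB1.ProjSpace N K).presheaf.map (homOfLE e).op).hom ∘ vc i W h :=
  funext fun j => ConcreteCategory.congr_hom
    ((CohB1.ProjSpace N K).presheaf.map_comp (homOfLE h).op (homOfLE e).op) _

end Chart

theorem toGlobal_specMap {Y : Scheme.{u}} (t : Y ⟶ Spec (CommRingCat.of K)) (a : k) :
    Coh.toGlobal (t ≫ Spec.map (CommRingCat.ofHom (algebraMap k K))) a = Coh.toGlobal t (algebraMap k K a) :=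
  congrArg t.appTop (ConcreteCategory.congr_hom
    (Scheme.ΓSpecIso_inv_naturality (CommRingCat.ofHom (algebraMap k K))) a).symm

section Proj

variable (hA : Module.finrank k A = (N + 1) * (N + 1)) {X₀ : Scheme.{u}} {f : X₀ ⟶ Spec (CommRingCat.of k)}
  (s : BrSev.SBStr k A ((N + 1) * (N + 1) - (N + 1)) f)

/-- Projective space over the scheme of left ideals. -/
def qP : CohB1.ProjSpace N K ⟶ X₀ :=
  haveI := ProjIso.isIso_toProj (Φ := Φ) (hA := hA) (s := s)
  inv (ProjIso.toProj Φ hA s) ≫ BrSev.proj f K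

theorem hqP : qP Φ hA s ≫ f = CohB1.ProjSpace.toSpec N K ≫ Spec.map (CommRingCat.ofHom (algebraMap k K)) := by
  haveI := ProjIso.isIso_toProj (Φ := Φ) (hA := hA) (s := s)
  rw [qP, Category.assoc, pullback.condition, IsIso.inv_comp_eq, ← Category.assoc, ProjIso.toProj_toSpec]

theorem isVec_chart (i : Fin (N + 1)) :
    letI := (cst (R := K) (n := N) i).toAlgebra
    letI := baseAlg (k := k) (K := K) (HomogeneousLocalization.Away (CohB1.polyGrading N K) (X i))
    haveI := baseAlg_tower (k := k) (K := K) (HomogeneousLocalization.Away (CohB1.polyGrading N K) (X i))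
    haveI := ProjIso.isIso_toProj (Φ := Φ) (hA := hA) (s := s)
    ProjIso.IsVec Φ hA s
      (Proj.awayι (CohB1.polyGrading N K) (X i) (X_mem i) one_pos ≫ inv (ProjIso.toProj Φ hA s))
      (crd (R := K) (n := N) i) := by
  letI := (cst (R := K) (n := N) i).toAlgebra
  letI := baseAlg (k := k) (K := K) (HomogeneousLocalization.Away (CohB1.polyGrading N K) (X i))
  haveI := baseAlg_tower (k := k) (K := K) (HomogeneousLocalization.Away (CohB1.polyGrading N K) (X i))
  haveI := ProjIso.isIso_toProj (Φ := Φ) (hA := hA) (s := s)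
  let C := HomogeneousLocalization.Away (CohB1.polyGrading N K) (X i)
  have hu : IsUni (crd (R := K) (n := N) i) := isUni_of_isUnit (i := i) (crd_self (R := K) i ▸ isUnit_one)
  let p := (s.bij C).symm (pPt Φ hA N.succ_pos (crd (R := K) (n := N) i) hu)
  let a : Spec (CommRingCat.of C) ⟶ BrSev.bc f K :=
    pullback.lift p.1 (Spec.map (CommRingCat.ofHom (algebraMap K C)))
      (by rw [p.2, ← Spec.map_comp, ← CommRingCat.ofHom_comp, ← IsScalarTower.algebraMap_eq])
  have ha : ProjIso.IsVec Φ hA s a (crd (R := K) (n := N) i) :=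
    ⟨pullback.lift_snd _ _ _, hu, by
      rw [show ProjIso.toPt a (pullback.lift_snd _ _ _) = p from Subtype.ext (pullback.lift_fst _ _ _)]
      exact Equiv.apply_symm_apply _ _⟩
  have h : a ≫ ProjIso.toProj Φ hA s = Proj.awayι (CohB1.polyGrading N K) (X i) (X_mem i) one_pos :=
    (ProjIso.comp_toProj ha (crd_self (R := K) i ▸ isUnit_one)).trans (ProjIso.awayι_eq_ppt i).symm
  rw [← h, Category.assoc, IsIso.hom_inv_id, Category.comp_id]
  exact ha

theorem mem_NV_chart (i : Fin (N + 1)) (V : (CohB1.ProjSpace N K).Opens) (hV : IsAffineOpen V) (h : V ≤ Di K i)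
    (y : Fin d → Γ(CohB1.ProjSpace N K, V)) :
    y ∈ NV β s (hqP Φ hA s) V hV ↔
      matR Φ β (gr (CohB1.ProjSpace.toSpec N K) V) y ∈ rowIdeal (vc i V h) := by
  let C := HomogeneousLocalization.Away (CohB1.polyGrading N K) (X i)
  letI : Algebra k Γ(CohB1.ProjSpace N K, V) :=
    (gr (CohB1.ProjSpace.toSpec N K ≫ Spec.map (CommRingCat.ofHom (algebraMap k K))) V).toAlgebra
  letI : Algebra K Γ(CohB1.ProjSpace N K, V) := (gr (CohB1.ProjSpace.toSpec N K) V).toAlgebra
  haveI : IsScalarTower k K Γ(CohB1.ProjSpace N K, V) := IsScalarTower.of_algebraMap_eq fun a => by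
    show gr (CohB1.ProjSpace.toSpec N K ≫ Spec.map (CommRingCat.ofHom (algebraMap k K))) V a =
      gr (CohB1.ProjSpace.toSpec N K) V (algebraMap k K a)
    simp only [gr, RingHom.comp_apply]
    exact congrArg _ (toGlobal_specMap (CohB1.ProjSpace.toSpec N K) a)
  letI := (cst (R := K) (n := N) i).toAlgebra
  letI := baseAlg (k := k) (K := K) C
  haveI := baseAlg_tower (k := k) (K := K) C
  haveI := ProjIso.isIso_toProj (Φ := Φ) (hA := hA) (s := s)
  let φ : C →ₐ[K] Γ(CohB1.ProjSpace N K, V) :=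
    { ((CohB1.ProjSpace N K).presheaf.map (homOfLE h).op).hom.comp (sec i) with
      commutes' := fun a => (toSpec_gr i h a).symm }
  obtain ⟨ha, hv, e⟩ := (isVec_chart Φ hA s i).comp φ
  have hmor : hV.fromSpec ≫ qP Φ hA s = (Spec.map (CommRingCat.ofHom (φ : C →+* Γ(CohB1.ProjSpace N K, V))) ≫
      Proj.awayι (CohB1.polyGrading N K) (X i) (X_mem i) one_pos ≫ inv (ProjIso.toProj Φ hA s)) ≫ BrSev.proj f K := by
    rw [show hV.fromSpec = Spec.map ((CohB1.ProjSpace N K).presheaf.map (homOfLE h).op) ≫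
      (isAffineOpen_Di (K := K) i).fromSpec from ((isAffineOpen_Di (K := K) i).map_fromSpec hV _).symm, fromSpec_Di,
      show CommRingCat.ofHom (φ : C →+* Γ(CohB1.ProjSpace N K, V)) =
        CommRingCat.ofHom (sec (K := K) i) ≫ (CohB1.ProjSpace N K).presheaf.map (homOfLE h).op from rfl,
      Spec.map_comp, qP]
    simp only [Category.assoc]
  show y ∈ NC β (s.bij Γ(CohB1.ProjSpace N K, V) _) ↔ _
  rw [show (⟨hV.fromSpec ≫ qP Φ hA s, _⟩ : BrSev.Pts f Γ(CohB1.ProjSpace N K, V)) = ProjIso.toPt _ ha from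
    Subtype.ext hmor, e, mem_NC_pPt β Φ hA N.succ_pos hv y]
  rfl

theorem mem_taut_chart (i : Fin (N + 1)) (W : (CohB1.ProjSpace N K).Opens) (h : W ≤ Di K i)
    (t : Γ(FlatMod.freeMod (CohB1.ProjSpace N K) d, W)) :
    t ∈ (sub β s (hqP Φ hA s)).mem W ↔
      matR Φ β (gr (CohB1.ProjSpace.toSpec N K) W) (co W t) ∈ rowIdeal (vc i W h) := by
  have key : ∀ (V : (CohB1.ProjSpace N K).Opens) (e : V ≤ W),
      matR Φ β (gr (CohB1.ProjSpace.toSpec N K) V)
        (⇑((CohB1.ProjSpace N K).presheaf.map (homOfLE e).op).hom ∘ co W t) =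
      (matR Φ β (gr (CohB1.ProjSpace.toSpec N K) W) (co W t)).map
        ((CohB1.ProjSpace N K).presheaf.map (homOfLE e).op).hom := fun V e =>
    matR_map Φ β _ _ _ (fun x => gr_res _ e x) _
  refine ⟨fun ht a x y => ?_, fun ht V hV e => ?_⟩
  · let M := matR Φ β (gr (CohB1.ProjSpace.toSpec N K) W) (co W t)
    refine congrFun (eq_of_locally (d := 1) (fun _ => M a x * vc i W h y) (fun _ => M a y * vc i W h x)
      fun z hz => ?_) 0
    obtain ⟨V, hV, hzV, hVW⟩ := exists_isAffineOpen_mem_and_subset (U := W) hz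
    refine ⟨V, hVW, hzV, funext fun _ => ?_⟩
    have h2 := (mem_NV_chart Φ β hA s i V hV (hVW.trans h) _).1 (ht V hV hVW) a x y
    rw [key V hVW, vc_res i hVW h] at h2
    simp only [Function.comp, map_mul]
    exact h2
  · rw [mem_NV_chart Φ β hA s i V hV (e.trans h), key V e, vc_res i e h]
    exact fun a => (ht a).map _

/-- The value of a function at a point of projective space. -/
def valAt {W : (CohB1.ProjSpace N K).Opens} (y : W) :
    Γ(CohB1.ProjSpace N K, W) →+* Twist.Loc (CohB1.polyGrading N K) y.1 where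
  toFun r := ((show Twist.O (𝒜 := CohB1.polyGrading N K) (op W) from r).1 y).val
  map_one' := HomogeneousLocalization.val_one
  map_mul' _ _ := HomogeneousLocalization.val_mul _ _
  map_zero' := HomogeneousLocalization.val_zero
  map_add' _ _ := HomogeneousLocalization.val_add _ _

theorem valAt_vc (i j : Fin (N + 1)) {W : (CohB1.ProjSpace N K).Opens} (h : W ≤ Di K i) (y : W) :
    valAt y (vc i W h j) = Localization.mk (X j) ⟨X i, h y.2⟩ := by
  show (HomogeneousLocalization.mapId (CohB1.polyGrading N K) (Submonoid.powers_le.mpr (h y.2)) (crd i j)).val = _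
  rw [crd]
  refine Eq.trans (HomogeneousLocalization.val_mk _) ?_
  exact Localization.mk_eq_mk_iff.2 (Localization.r_iff_exists.2 ⟨1, by simp⟩)

theorem valAt_gr (i : Fin (N + 1)) {W : (CohB1.ProjSpace N K).Opens} (h : W ≤ Di K i) (y : W) (a : K) :
    valAt y (gr (CohB1.ProjSpace.toSpec N K) W a) = Localization.mk (C a) 1 := by
  rw [toSpec_gr i h]
  exact HomogeneousLocalization.val_mk _

/-- The linear form of a row of coordinates. -/
def ell (a : Fin (N + 1)) (m : Fin d) : MvPolynomial (Fin (N + 1)) K := ∑ j, C (kap Φ β a j m) * X j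

theorem ell_mem (a : Fin (N + 1)) (m : Fin d) : ell Φ β a m ∈ CohB1.polyGrading N K 1 :=
  Submodule.sum_mem _ fun j _ => (mem_homogeneousSubmodule _ _).2 (IsHomogeneous.C_mul (isHomogeneous_X K j) _)

theorem isIso_oneHom' : IsIso (oneHom (𝒜 := CohB1.polyGrading N K)) :=
  isIso_oneHom (fun j : Fin (N + 1) => X j) (fun j => X_mem j)
    (Proj.iSup_basicOpen_eq_top (CohB1.polyGrading N K) _ (SegreX.irrelevant_le_span N K))

/-- A coordinate of a row of the tautological frame. -/
def psiC (a : Fin (N + 1)) (m : Fin d) :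
    Twist.twist (CohB1.polyGrading N K) (-1) ⟶ Coh.structureModule (CohB1.ProjSpace N K) :=
  haveI := isIso_oneHom' (K := K) (N := N)
  PnDual.mulHom (ell_mem Φ β a m) (show (0 : ℤ) = -1 + ((1 : ℕ) : ℤ) by simp) ≫ inv oneHom

/-- A row of the tautological frame. -/
def psi (a : Fin (N + 1)) :
    Twist.twist (CohB1.polyGrading N K) (-1) ⟶ FlatMod.freeMod (CohB1.ProjSpace N K) d :=
  ∑ m, psiC Φ β a m ≫ Frame.incl (CohB1.ProjSpace N K) d m

theorem co_psi (a : Fin (N + 1)) (W : (CohB1.ProjSpace N K).Opens)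
    (u : Γ(Twist.twist (CohB1.polyGrading N K) (-1), W)) :
    co W ((psi Φ β a).app W u) = fun m => (show Γ(CohB1.ProjSpace N K, W) from (psiC Φ β a m).app W u) := by
  have key : (psi Φ β a).app W u =
      mk W fun m => (show Γ(CohB1.ProjSpace N K, W) from (psiC Φ β a m).app W u) := by
    rw [psi, Frame.app_sum, mk]
    exact Finset.sum_congr rfl fun m _ => Frame.app_eq_smul (Frame.incl (CohB1.ProjSpace N K) d m) _ _
  rw [key, co_mk]

/-- The generator of `O(-1)` on a chart. -/
def gen (i : Fin (N + 1)) (W : (CohB1.ProjSpace N K).Opens) (h : W ≤ Di K i) :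
    Γ(Twist.twist (CohB1.polyGrading N K) (-1), W) :=
  (twPow (X_mem i) (-1) (U := W) fun y => h y.2 :)

theorem exists_smul_gen (i : Fin (N + 1)) (W : (CohB1.ProjSpace N K).Opens) (h : W ≤ Di K i)
    (u : Γ(Twist.twist (CohB1.polyGrading N K) (-1), W)) :
    ∃ r : Γ(CohB1.ProjSpace N K, W), u = r • gen i W h := by
  obtain ⟨r, hr⟩ := (trivMap_bijective (X_mem i) (-1) (U := W) fun y => h y.2).2 u
  exact ⟨r, hr.symm⟩

theorem psiC_gen (a : Fin (N + 1)) (m : Fin d) (i : Fin (N + 1)) (W : (CohB1.ProjSpace N K).Opens) (h : W ≤ Di K i) :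
    (show Γ(CohB1.ProjSpace N K, W) from (psiC Φ β a m).app W (gen i W h)) =
      ∑ j, vc i W h j * gr (CohB1.ProjSpace.toSpec N K) W (kap Φ β a j m) := by
  haveI := isIso_oneHom' (K := K) (N := N)
  let r : Γ(CohB1.ProjSpace N K, W) := ∑ j, vc i W h j * gr (CohB1.ProjSpace.toSpec N K) W (kap Φ β a j m)
  have key : (PnDual.mulHom (ell_mem Φ β a m) (show (0 : ℤ) = -1 + ((1 : ℕ) : ℤ) by simp)).app W (gen i W h) =
      (oneHom (𝒜 := CohB1.polyGrading N K)).app W r := by
    refine Subtype.ext (funext fun y => Subtype.ext ?_)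
    refine Eq.trans ?_ (Twist.coe_smul_val (𝒜 := CohB1.polyGrading N K) 0 y.1
      ((show Twist.O (𝒜 := CohB1.polyGrading N K) (op W) from r).1 y) ((oneSect (U := W)).1 y)).symm
    show Localization.mk ((X i : MvPolynomial (Fin (N + 1)) K) ^ (-1 : ℤ).toNat) _ *
      Localization.mk (ell Φ β a m) 1 = valAt y r * Localization.mk 1 _
    simp only [r, ell, map_sum, map_mul, valAt_vc, valAt_gr i h]
    rw [Localization.mk_sum, Finset.mul_sum, Finset.sum_mul]
    refine Finset.sum_congr rfl fun j _ => ?_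
    simp only [Localization.mk_mul]
    exact Localization.mk_eq_mk_iff.2 (Localization.r_iff_exists.2 ⟨1, by simp; ring⟩)
  show (inv (oneHom (𝒜 := CohB1.polyGrading N K))).app W _ = r
  refine (congrArg ((inv (oneHom (𝒜 := CohB1.polyGrading N K))).app W) key).trans ?_
  show (oneHom (𝒜 := CohB1.polyGrading N K) ≫ inv oneHom).app W r = r
  rw [IsIso.hom_inv_id]
  rfl

theorem co_psi_smul (a : Fin (N + 1)) (i : Fin (N + 1)) (W : (CohB1.ProjSpace N K).Opens) (h : W ≤ Di K i)
    (r : Γ(CohB1.ProjSpace N K, W)) : co W ((psi Φ β a).app W (r • gen i W h)) =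
      fun m => r * ∑ j, vc i W h j * gr (CohB1.ProjSpace.toSpec N K) W (kap Φ β a j m) := by
  rw [Scheme.Modules.Hom.app_smul, co_smul, co_psi]
  funext m
  show r * (show Γ(CohB1.ProjSpace N K, W) from (psiC Φ β a m).app W (gen i W h)) = _
  rw [psiC_gen]

theorem coR_single (a : Fin (N + 1)) (i : Fin (N + 1)) (W : (CohB1.ProjSpace N K).Opens) (h : W ≤ Di K i)
    (r : Γ(CohB1.ProjSpace N K, W)) :
    coR Φ β (gr (CohB1.ProjSpace.toSpec N K) W) (Matrix.vecMulVec (Pi.single a r) (vc i W h)) =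
      fun m => r * ∑ j, vc i W h j * gr (CohB1.ProjSpace.toSpec N K) W (kap Φ β a j m) := by
  funext m
  rw [coR, Finset.sum_eq_single a]
  · simp [Matrix.vecMulVec_apply, Finset.mul_sum, mul_assoc]
  · intro b _ hb; simp [Matrix.vecMulVec_apply, hb]
  · simp

theorem psi_mem (a : Fin (N + 1)) (W : (CohB1.ProjSpace N K).Opens)
    (u : Γ(Twist.twist (CohB1.polyGrading N K) (-1), W)) :
    (psi Φ β a).app W u ∈ (sub β s (hqP Φ hA s)).mem W := by
  refine (sub β s (hqP Φ hA s)).of_locally W _ fun y hy => ?_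
  obtain ⟨i, hi⟩ := exists_mem_Di (K := K) y
  refine ⟨W ⊓ Di K i, inf_le_left, ⟨hy, hi⟩, ?_⟩
  obtain ⟨r, hr⟩ := exists_smul_gen i (W ⊓ Di K i) inf_le_right
    ((Twist.twist (CohB1.polyGrading N K) (-1)).presheaf.map (homOfLE (inf_le_left : W ⊓ Di K i ≤ W)).op u)
  erw [← ConcreteCategory.congr_hom ((psi Φ β a).mapPresheaf.naturality (homOfLE inf_le_left).op) u]
  show (psi Φ β a).app _ _ ∈ _
  erw [hr]
  rw [mem_taut_chart Φ β hA s i _ inf_le_right, co_psi_smul Φ β a i _ inf_le_right,
    ← coR_single Φ β a i _ inf_le_right, matR_coR]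
  exact fun b => rel_of_smul_eq (c := (Pi.single a r : Fin (N + 1) → _) b) rfl

/-- The tautological sheaf of a split algebra is a sum of copies of `O(-1)`. -/
theorem nonempty_pow_twist_iso :
    Nonempty (BrSev.pow (Twist.twistProjSpace N K (-1)) (N + 1) ≅ taut β s (hqP Φ hA s)) := by
  let L : (CohB1.ProjSpace N K).Modules := Twist.twist (CohB1.polyGrading N K) (-1)
  let φ : (⨁ fun _ : Fin (N + 1) => L) ⟶ taut β s (hqP Φ hA s) :=
    biproduct.desc fun a => liftSub (sub β s (hqP Φ hA s)) (psi Φ β a) (psi_mem Φ β hA s a)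
  have hι : ∀ (W : (CohB1.ProjSpace N K).Opens) (a : Fin (N + 1)) (u : Γ(L, W)),
      co W ((sub β s (hqP Φ hA s)).ι.app W (φ.app W ((biproduct.ι (fun _ : Fin (N + 1) => L) a).app W u))) =
        co W ((psi Φ β a).app W u) := fun W a u => by
    show co W ((((biproduct.ι (fun _ : Fin (N + 1) => L) a) ≫ φ) ≫ (sub β s (hqP Φ hA s)).ι).app W u) = _
    rw [biproduct.ι_desc, liftSub_ι]
  haveI : IsIso φ := isIso_of_bijective φ fun y => by
    obtain ⟨i, hi⟩ := exists_mem_Di (K := K) y
    refine ⟨Di K i, hi, fun W h => ?_⟩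
    let E : (Fin (N + 1) → Γ(CohB1.ProjSpace N K, W)) → Γ(⨁ fun _ : Fin (N + 1) => L, W) := fun r =>
      ∑ a, (biproduct.ι (fun _ : Fin (N + 1) => L) a).app W (r a • gen i W h)
    have hE : Function.Surjective E := fun z => by
      choose r hr using fun a => exists_smul_gen i W h ((biproduct.π (fun _ : Fin (N + 1) => L) a).app W z)
      refine ⟨r, ?_⟩
      have hz : (∑ a, biproduct.π (fun _ : Fin (N + 1) => L) a ≫ biproduct.ι (fun _ : Fin (N + 1) => L) a).app W z = z := by
        rw [biproduct.total]; rfl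
      rw [Frame.app_sum] at hz
      refine Eq.trans (Finset.sum_congr rfl fun a _ => ?_) hz
      rw [← hr a]
      rfl
    have hφE : ∀ r, co W ((sub β s (hqP Φ hA s)).ι.app W (φ.app W (E r))) =
        coR Φ β (gr (CohB1.ProjSpace.toSpec N K) W) (Matrix.vecMulVec r (vc i W h)) := fun r => by
      let Ψ : Γ(⨁ fun _ : Fin (N + 1) => L, W) →+ (Fin d → Γ(CohB1.ProjSpace N K, W)) :=
        AddMonoidHom.mk' (fun z => co W ((sub β s (hqP Φ hA s)).ι.app W (φ.app W z)))
          fun x y => by rw [map_add, map_add, co_add]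
      show Ψ (E r) = _
      rw [map_sum]
      refine (Finset.sum_congr rfl fun a _ => (hι W a _).trans (co_psi_smul Φ β a i W h (r a))).trans ?_
      funext m
      simp only [Finset.sum_apply, coR, Matrix.vecMulVec_apply, Finset.mul_sum, mul_assoc]
    refine ⟨fun z z' e => ?_, fun t => ?_⟩
    · obtain ⟨r, rfl⟩ := hE z
      obtain ⟨r', rfl⟩ := hE z'
      have e' := congrArg (fun t => matR Φ β (gr (CohB1.ProjSpace.toSpec N K) W)
        (co W ((sub β s (hqP Φ hA s)).ι.app W t))) e
      simp only [hφE, matR_coR] at e'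
      refine congrArg E (funext fun a => ?_)
      simpa [Matrix.vecMulVec_apply, vc_self] using congrFun (congrFun e' a) i
    · have hw : ∑ j, (Pi.single i 1 : Fin (N + 1) → Γ(CohB1.ProjSpace N K, W)) j * vc i W h j = 1 := by
        simp [Pi.single_apply, vc_self]
      have hM := eq_vecMulVec hw
        ((mem_taut_chart Φ β hA s i W h _).1 ((sub β s (hqP Φ hA s)).ι_app_mem W t))
      refine ⟨E (fun a => ∑ j, (Pi.single i 1 : Fin (N + 1) → Γ(CohB1.ProjSpace N K, W)) j *
        matR Φ β (gr (CohB1.ProjSpace.toSpec N K) W) (co W ((sub β s (hqP Φ hA s)).ι.app W t)) a j),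
        (sub β s (hqP Φ hA s)).ι_app_injective W (co_injective W ?_)⟩
      rw [hφE, ← hM, coR_matR]
  exact ⟨(biproduct.isoCoproduct fun _ : Fin (N + 1) => L).symm ≪≫ asIso φ⟩

end Proj

end Groth.Agent.ASB24.Taut
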