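import Groth.Agent.ASB24.TautMod

/-!
# Inverse images of the tautological left ideal sheaf
-/

set_option linter.style.haveILetI false
set_option backward.isDefEq.respectTransparency false
set_option backward.isDefEq.respectTransparency.types false

universe u

open CategoryTheory CategoryTheory.Limits AlgebraicGeometry TopologicalSpace Opposite
open scoped TensorProduct Matrix

noncomputable section

namespace Groth.Agent.ASB24.Taut

open Groth.Agent Groth.Agent.SBAut Groth.Agent.H23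

theorem eta_res' {X Y : Scheme.{u}} (q : Y ⟶ X) (G : X.Modules) {V W : X.Opens} (i : W ≤ V) (x : Γ(G, V)) :
    PinchPO7.unitSec q G (G.presheaf.map (homOfLE i).op x) =
      ((Scheme.Modules.pullback q).obj G).presheaf.map ((Opens.map q.base).map (homOfLE i)).op (PinchPO7.unitSec q G x) :=
  congr($(((Scheme.Modules.pullbackPushforwardAdjunction q).unit.app G).mapPresheaf.naturality (homOfLE i).op) x)

theorem unitSec_map {X Y : Scheme.{u}} (q : Y ⟶ X) {F G : X.Modules} (φ : F ⟶ G) (V : X.Opens) (x : Γ(F, V)) :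
    ((Scheme.Modules.pullback q).map φ).app (q ⁻¹ᵁ V) (PinchPO7.unitSec q F x) = PinchPO7.unitSec q G (φ.app V x) :=
  (congr(($((Scheme.Modules.pullbackPushforwardAdjunction q).unit.naturality φ)).app V x)).symm

theorem unitIso_unitSec {X Y : Scheme.{u}} (q : Y ⟶ X) (W : X.Opens) (a : Γ(X, W)) :
    (PinchPO7.unitIso q).hom.app (q ⁻¹ᵁ W) (PinchPO7.unitSec q (Coh.structureModule X) (U := W) a) =
      (q.app W a : Γ(Y, q ⁻¹ᵁ W)) := by
  have h0 : PinchPO7.unitSec q (Coh.structureModule X) (U := W) a =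
      q.app W a • PinchPO7.unitSec q (Coh.structureModule X) (U := W) (Frame.one W) := by
    refine Eq.trans ?_ (((Scheme.Modules.pullbackPushforwardAdjunction q).unit.app (Coh.structureModule X)).app_smul a (Frame.one W))
    exact congrArg (PinchPO7.unitSec q (Coh.structureModule X) (U := W)) (mul_one a).symm
  have h1 : (Coh.structureModule X).presheaf.map (homOfLE (le_top : W ≤ ⊤)).op (Frame.one ⊤) = Frame.one W :=
    map_one (X.presheaf.map (homOfLE (le_top : W ≤ ⊤)).op).hom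
  rw [h0, Scheme.Modules.Hom.app_smul, ← h1, eta_res']
  have h2 := ConcreteCategory.congr_hom ((PinchPO7.unitIso q).hom.mapPresheaf.naturality
    ((Opens.map q.base).map (homOfLE (le_top : W ≤ ⊤))).op) (PinchPO7.unitSec q (Coh.structureModule X) (Frame.one ⊤))
  refine (congrArg (q.app W a • ·) (h2.trans (congrArg (fun z => (Coh.structureModule Y).presheaf.map ((Opens.map q.base).map (homOfLE (le_top : W ≤ ⊤))).op z) (PinchPO7.unitIso_unit_one q)))).trans ?_
  show q.app W a * (Y.presheaf.map _).hom 1 = _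
  rw [map_one, mul_one]

variable {k : Type u} [Field k] {A : Type u} [Ring A] [Algebra k A] {d : ℕ} (β : Module.Basis (Fin d) k A) {c : ℕ}
  {X : Scheme.{u}} {f : X ⟶ Spec (CommRingCat.of k)} (s : BrSev.SBStr k A c f)
  {Y : Scheme.{u}} (q : Y ⟶ X) {g : Y ⟶ Spec (CommRingCat.of k)} (hq : q ≫ f = g)

/-- The pulled back inclusion. -/
def pullIncl : (Scheme.Modules.pullback q).obj (taut β s (Category.id_comp f)) ⟶ FlatMod.freeMod Y d :=
  ∑ i, ((Scheme.Modules.pullback q).map ((sub β s (Category.id_comp f)).ι ≫ Frame.proj X d i) ≫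
    (PinchPO7.unitIso q).hom) ≫ Frame.incl Y d i

theorem co_pullIncl (W : X.Opens) (t : Γ(taut β s (Category.id_comp f), W)) :
    co (q ⁻¹ᵁ W) ((pullIncl β s q).app (q ⁻¹ᵁ W) (PinchPO7.unitSec q _ t)) =
      ⇑(q.app W).hom ∘ co W ((sub β s (Category.id_comp f)).ι.app W t) := by
  have key : (pullIncl β s q).app (q ⁻¹ᵁ W) (PinchPO7.unitSec q _ t) =
      mk (q ⁻¹ᵁ W) (⇑(q.app W).hom ∘ co W ((sub β s (Category.id_comp f)).ι.app W t)) := by
    rw [pullIncl, Frame.app_sum, mk]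
    refine Finset.sum_congr rfl fun i _ => ?_
    refine (Frame.app_eq_smul (Frame.incl Y d i) _ _).trans ?_
    congr 1
    show (PinchPO7.unitIso q).hom.app _ (((Scheme.Modules.pullback q).map _).app _ _) = _
    rw [unitSec_map]
    exact unitIso_unitSec q W _
  rw [key, co_mk]

variable {β s q hq}

theorem isFrameMat_pull {n : ℕ} {U : X.Opens} (hU : IsAffineOpen U) {P : Matrix (Fin d) (Fin d) Γ(X, U)}
    (hPP : P * P = P) (hP : ∀ y, y ∈ NV β s (Category.id_comp f) U hU ↔ P *ᵥ y = y) {D : X.Opens} (hDU : D ≤ U)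
    {B : Matrix (Fin d) (Fin n) Γ(X, D)} {C : Matrix (Fin n) (Fin d) Γ(X, D)} (hCB : C * B = 1)
    (hBC : B * C = P.map (X.presheaf.map (homOfLE hDU).op).hom) :
    IsFrameMat β s hq (D := q ⁻¹ᵁ D) (B.map (q.app D).hom) (C.map (q.app D).hom) := by
  refine ⟨by rw [← Matrix.map_mul, hCB, Matrix.map_one _ (map_zero _) (map_one _)], fun W h t => ?_⟩
  have hle : W ≤ q ⁻¹ᵁ U := h.trans (q.preimage_mono hDU)
  rw [mem_sub_iff β s (Category.id_comp f) hq (Category.comp_id q) hU hle hPP hP, ← Matrix.map_mul, hBC,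
    Matrix.map_map, Matrix.map_map]
  rw [show (⇑(Y.presheaf.map (homOfLE h).op).hom ∘ ⇑(q.app D).hom) ∘ ⇑(X.presheaf.map (homOfLE hDU).op).hom =
    ⇑(q.appLE U W hle).hom from by
      rw [← RingHom.coe_comp, ← CommRingCat.hom_comp, ← RingHom.coe_comp, ← CommRingCat.hom_comp]
      congr 2
      exact q.map_appLE h (homOfLE hDU).op]

variable (β s q hq)

/-- The inverse image of the tautological sheaf is the tautological sheaf. -/
theorem nonempty_pullback_iso {n : ℕ} (hd : c + n = d) :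
    Nonempty ((Scheme.Modules.pullback q).obj (taut β s (Category.id_comp f)) ≅ taut β s hq) := by
  have hfr : ∀ y : Y, ∃ (D : X.Opens) (B : Matrix (Fin d) (Fin n) Γ(X, D)) (C : Matrix (Fin n) (Fin d) Γ(X, D)),
      q y ∈ D ∧ IsFrameMat β s (Category.id_comp f) B C ∧
        IsFrameMat β s hq (D := q ⁻¹ᵁ D) (B.map (q.app D).hom) (C.map (q.app D).hom) := fun y => by
    obtain ⟨U, hU, P, D, hDU, B, C, hxD, hPP, hP, hBC, hF⟩ := exists_frameMat β s (Category.id_comp f) hd (q y)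
    exact ⟨D, B, C, hxD, hF, isFrameMat_pull hU hPP hP hDU hF.1 hBC⟩
  have hsec : ∀ {D : X.Opens} {B : Matrix (Fin d) (Fin n) Γ(X, D)} {C : Matrix (Fin n) (Fin d) Γ(X, D)}
      (hF : IsFrameMat β s (Category.id_comp f) B C)
      (hF' : IsFrameMat β s hq (D := q ⁻¹ᵁ D) (B.map (q.app D).hom) (C.map (q.app D).hom)) (j : Fin n),
      (pullIncl β s q).app (q ⁻¹ᵁ D) (PinchPO7.unitSec q _ (hF.sec j)) = (sub β s hq).ι.app (q ⁻¹ᵁ D) (hF'.sec j) := by
    intro D B C hF hF' j
    refine co_injective _ ?_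
    rw [co_pullIncl]
    show ⇑(q.app D).hom ∘ co D (mk D fun i => B i j) = co (q ⁻¹ᵁ D) (mk (q ⁻¹ᵁ D) fun i => B.map (q.app D).hom i j)
    rw [co_mk, co_mk]
    rfl
  have hmem : ∀ (W : Y.Opens) (t : Γ((Scheme.Modules.pullback q).obj (taut β s (Category.id_comp f)), W)),
      (pullIncl β s q).app W t ∈ (sub β s hq).mem W := fun W t => by
    refine (sub β s hq).of_locally W _ fun y hy => ?_
    obtain ⟨D, B, C, hyD, hF, hF'⟩ := hfr y
    refine ⟨W ⊓ q ⁻¹ᵁ D, inf_le_left, ⟨hy, hyD⟩, ?_⟩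
    have hfq := PinchPO7.isFrame_unitSec hF.isFrame q
    obtain ⟨a, ha⟩ := (hfq (W ⊓ q ⁻¹ᵁ D) inf_le_right).2
      (((Scheme.Modules.pullback q).obj _).presheaf.map (homOfLE (inf_le_left : W ⊓ q ⁻¹ᵁ D ≤ W)).op t)
    erw [← ConcreteCategory.congr_hom ((pullIncl β s q).mapPresheaf.naturality (homOfLE inf_le_left).op) t]
    show (pullIncl β s q).app _ _ ∈ _
    erw [← ha]
    rw [Frame.comb, map_sum]
    refine Submodule.sum_mem _ fun j _ => ?_
    rw [Scheme.Modules.Hom.app_smul]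
    refine Submodule.smul_mem _ _ ?_
    have h3 := ConcreteCategory.congr_hom ((pullIncl β s q).mapPresheaf.naturality
      (homOfLE (inf_le_right : W ⊓ q ⁻¹ᵁ D ≤ q ⁻¹ᵁ D)).op) (PinchPO7.unitSec q _ (hF.sec j))
    show (pullIncl β s q).app (W ⊓ q ⁻¹ᵁ D) _ ∈ (sub β s hq).mem (W ⊓ q ⁻¹ᵁ D)
    erw [h3]
    show (FlatMod.freeMod Y d).presheaf.map _ ((pullIncl β s q).app (q ⁻¹ᵁ D) _) ∈ _
    rw [hsec hF hF']
    exact (sub β s hq).map_mem inf_le_right ((sub β s hq).ι_app_mem _ _)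
  let φ := liftSub (sub β s hq) (pullIncl β s q) hmem
  haveI : IsIso φ := isIso_of_bijective φ fun y => by
    obtain ⟨D, B, C, hyD, hF, hF'⟩ := hfr y
    refine ⟨q ⁻¹ᵁ D, hyD, fun W hW => ?_⟩
    have hfq := PinchPO7.isFrame_unitSec hF.isFrame q
    have hφ : ∀ j, φ.app (q ⁻¹ᵁ D) (PinchPO7.unitSec q _ (hF.sec j)) = hF'.sec j := fun j =>
      (sub β s hq).ι_app_injective _ (hsec hF hF' j)
    have key : ⇑(φ.app W) ∘ Frame.comb _ (fun j => PinchPO7.unitSec q _ (hF.sec j)) W hW =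
        Frame.comb (taut β s hq) hF'.sec W hW := by
      funext a
      simp only [Function.comp, Frame.comb, map_sum]
      refine Finset.sum_congr rfl fun j _ => ?_
      rw [Scheme.Modules.Hom.app_smul, ← hφ j]
      exact congrArg (a j • ·) (ConcreteCategory.congr_hom (φ.mapPresheaf.naturality (homOfLE hW).op) _)
    exact (Function.Bijective.of_comp_iff _ (hfq W hW)).1 (key ▸ hF'.isFrame W hW)
  exact ⟨asIso φ⟩

end Groth.Agent.ASB24.Taut
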