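import Groth.Agent.ASB24.Isotypical
import Groth.Agent.H23.PicMul
import Groth.Agent.H23.GrassFlag
import Groth.Agent.H23.PullPush
import Groth.Agent.H23.Chern.DualPull
import Groth.Agent.SheafHomY.Dual
import Groth.Agent.H9Misc.LocFreeHomTensor
import Groth.Agent.SeesawX.Glue
import Groth.Agent.GenusOneSS.Free
import Groth.Agent.KZ.QuasiProj

/-!
# Tensor products and duals of isotypical modules
-/

set_option linter.style.haveILetI false
set_option backward.isDefEq.respectTransparency false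
set_option backward.isDefEq.respectTransparency.types false

universe u

open CategoryTheory CategoryTheory.Limits AlgebraicGeometry W4c1astiltbs12

namespace Groth.Agent.ASB24

open Groth.Agent Groth.Agent.SheafHomX
open Groth.Agent.H9Misc.LocFreeHomTensor (bidual isIso_bidual isFinLocFree_dual)

attribute [local instance] Abelian.hasFiniteBiproducts

variable {Y : Scheme.{u}}

theorem tensor_congr {A A' B B' : Y.Modules} (a : A ≅ A') (b : B ≅ B') :
    Nonempty (CohB1.tensorMod A B ≅ CohB1.tensorMod A' B') :=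
  ⟨((DCoh.tensorBi (X := Y)).mapIso a).app B ≪≫ ((DCoh.tensorBi (X := Y)).obj A').mapIso b⟩

theorem tensor_pow_left (A B : Y.Modules) (r : ℕ) :
    Nonempty (CohB1.tensorMod (pow A r) B ≅ pow (CohB1.tensorMod A B) r) :=
  haveI := isLeftAdjoint_ten B
  ⟨PreservesCoproduct.iso (ten B) fun _ : Fin r => A⟩

theorem tensor_pow_pow (A B : Y.Modules) (r s : ℕ) :
    Nonempty (CohB1.tensorMod (pow A r) (pow B s) ≅ pow (CohB1.tensorMod A B) (r * s)) := by
  obtain ⟨e₁⟩ := tensor_pow_left A (pow B s) r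
  obtain ⟨e₂⟩ := H23.PicMul.comm A (pow B s)
  obtain ⟨e₃⟩ := tensor_pow_left B A s
  obtain ⟨e₄⟩ := H23.PicMul.comm B A
  obtain ⟨e₅⟩ := nonempty_powPow (CohB1.tensorMod A B) s r
  exact ⟨e₁ ≪≫ Sigma.mapIso (fun _ => e₂ ≪≫ e₃ ≪≫ Sigma.mapIso (fun _ => e₄)) ≪≫ e₅⟩

theorem rank_pow {L : Y.Modules} (hL : PicF.IsInvertible L) (r : ℕ) :
    FlatMod.IsFinLocFreeOfRank r (pow L r) := fun x => by
  obtain ⟨U, hx, ⟨e⟩⟩ := hL x
  exact ⟨U, hx, ⟨PreservesCoproduct.iso (Scheme.Modules.restrictFunctor U.ι) (fun _ : Fin r => L) ≪≫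
    Sigma.mapIso (fun _ => e)⟩⟩

/-- The multiplicity of a power of an invertible module is determined. -/
theorem pow_inj [Nonempty Y] {L L' : Y.Modules} (hL : PicF.IsInvertible L) (hL' : PicF.IsInvertible L') {r r' : ℕ}
    (e : pow L r ≅ pow L' r') : r = r' :=
  SeesawX.rank_unique (Classical.arbitrary Y) (rank_pow hL r)
    (H23.Chern.rank_of_iso e.symm (rank_pow hL' r'))

theorem homMap_dual_comp {A B C : Y.Modules} (f : A ⟶ B) (g : B ⟶ C) :
    (homMap g).app (Coh.structureModule Y) ≫ (homMap f).app (Coh.structureModule Y) =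
      (homMap (f ≫ g)).app (Coh.structureModule Y) := (homMap_comp f g _).symm

theorem dual_biproduct {n : ℕ} (F : Fin n → Y.Modules) :
    Nonempty (H23.Chern.dual (⨁ F) ≅ ⨁ fun i => H23.Chern.dual (F i)) :=
  ⟨{ hom := biproduct.lift fun i => (homMap (biproduct.ι F i)).app _
     inv := biproduct.desc fun i => (homMap (biproduct.π F i)).app _
     hom_inv_id := by
      rw [biproduct.lift_desc]
      simp only [homMap_dual_comp]
      rw [← SheafHomY.homMap_sum, biproduct.total, homMap_id]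
     inv_hom_id := by
      refine biproduct.hom_ext' _ _ fun i => biproduct.hom_ext _ _ fun j => ?_
      simp only [Category.assoc, biproduct.lift_π, biproduct.ι_desc_assoc, Category.comp_id, homMap_dual_comp]
      by_cases h : j = i
      · subst h; rw [biproduct.ι_π_self, homMap_id, biproduct.ι_π_self]
      · rw [biproduct.ι_π_ne F h, homMap_zero, biproduct.ι_π_ne _ (Ne.symm h)] }⟩

theorem dual_iso {A B : Y.Modules} (e : A ≅ B) : Nonempty (H23.Chern.dual B ≅ H23.Chern.dual A) :=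
  ⟨{ hom := (homMap e.hom).app _
     inv := (homMap e.inv).app _
     hom_inv_id := by rw [homMap_dual_comp, e.inv_hom_id, homMap_id]
     inv_hom_id := by rw [homMap_dual_comp, e.hom_inv_id, homMap_id] }⟩

theorem dual_pow (L : Y.Modules) (r : ℕ) : Nonempty (H23.Chern.dual (pow L r) ≅ pow (H23.Chern.dual L) r) := by
  obtain ⟨a⟩ := dual_iso (biproduct.isoCoproduct fun _ : Fin r => L)
  obtain ⟨b⟩ := dual_biproduct (fun _ : Fin r => L)
  exact ⟨a ≪≫ b ≪≫ biproduct.isoCoproduct _⟩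

/-- The dual of an indecomposable bundle is indecomposable. -/
theorem indec_dual {E : Y.Modules} (hE : FlatMod.IsFinLocFree E) (hEi : KSLib.Indec E) :
    KSLib.Indec (H23.Chern.dual E) := by
  have bd : ∀ {A : Y.Modules}, FlatMod.IsFinLocFree A → Nonempty (A ≅ H23.Chern.dual (H23.Chern.dual A)) :=
    fun {A} hA => by
      haveI := isIso_bidual hA
      exact ⟨asIso (bidual.app A)⟩
  have dz : ∀ {A : Y.Modules}, IsZero A → IsZero (H23.Chern.dual A) := fun {A} h => by
    refine (IsZero.iff_id_eq_zero _).2 ?_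
    rw [← homMap_id, (IsZero.iff_id_eq_zero A).1 h, homMap_zero]
  refine ⟨fun h => hEi.1 (IsZero.of_iso (dz h) (bd hE).some), fun B₁ B₂ ⟨φ⟩ => ?_⟩
  have hB : ∀ i : Fin 2, FlatMod.IsFinLocFree (![B₁, B₂] i) := fun i => by
    fin_cases i
    · exact UnivThick.isFinLocFree_of_retract (biprod.inl ≫ φ.inv) (φ.hom ≫ biprod.fst) (by simp)
        (isFinLocFree_dual hE)
    · exact UnivThick.isFinLocFree_of_retract (biprod.inr ≫ φ.inv) (φ.hom ≫ biprod.snd) (by simp)
        (isFinLocFree_dual hE)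
  obtain ⟨a⟩ := dual_iso φ
  let b : H23.Chern.dual (B₁ ⊞ B₂) ≅ H23.Chern.dual B₁ ⊞ H23.Chern.dual B₂ :=
    { hom := biprod.lift ((homMap biprod.inl).app _) ((homMap biprod.inr).app _)
      inv := biprod.desc ((homMap biprod.fst).app _) ((homMap biprod.snd).app _)
      hom_inv_id := by rw [biprod.lift_desc, homMap_dual_comp, homMap_dual_comp, ← homMap_add, biprod.total, homMap_id]
      inv_hom_id := by
        refine biprod.hom_ext' _ _ (biprod.hom_ext _ _ ?_ ?_) (biprod.hom_ext _ _ ?_ ?_) <;>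
          simp only [Category.assoc, biprod.lift_fst, biprod.lift_snd, biprod.inl_desc_assoc, biprod.inr_desc_assoc,
            Category.comp_id, homMap_dual_comp, biprod.inl_fst, biprod.inl_snd, biprod.inr_fst, biprod.inr_snd,
            homMap_id, homMap_zero] }
  exact (hEi.2 _ _ ⟨(bd hE).some ≪≫ a.symm ≪≫ b⟩).imp
    (fun h => IsZero.of_iso (dz h) (bd (hB 0)).some) (fun h => IsZero.of_iso (dz h) (bd (hB 1)).some)

/-- Tensoring by an invertible module preserves indecomposability. -/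
theorem indec_tensor {E T : Y.Modules} (hT : PicF.IsInvertible T) (hEi : KSLib.Indec E) :
    KSLib.Indec (CohB1.tensorMod E T) := by
  obtain ⟨D, hD, ⟨d⟩⟩ := H23.PicInv.exists_inverse hT
  have back : ∀ A : Y.Modules, Nonempty (CohB1.tensorMod (CohB1.tensorMod A T) D ≅ A) := fun A => by
    obtain ⟨a⟩ := H23.PicMul.assoc A T D
    obtain ⟨b⟩ := tensor_congr (Iso.refl A) d
    obtain ⟨c⟩ := H23.PicMul.unit A
    exact ⟨a ≪≫ b ≪≫ c⟩
  have back' : ∀ A : Y.Modules, Nonempty (CohB1.tensorMod (CohB1.tensorMod A D) T ≅ A) := fun A => by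
    obtain ⟨a⟩ := H23.PicMul.assoc A D T
    obtain ⟨e⟩ := H23.PicMul.comm D T
    obtain ⟨b⟩ := tensor_congr (Iso.refl A) (e ≪≫ d)
    obtain ⟨c⟩ := H23.PicMul.unit A
    exact ⟨a ≪≫ b ≪≫ c⟩
  haveI := isLeftAdjoint_ten D
  haveI := isLeftAdjoint_ten T
  refine ⟨fun h => hEi.1 (IsZero.of_iso (Functor.map_isZero (ten D) h) (back E).some.symm), fun B₁ B₂ ⟨φ⟩ => ?_⟩
  haveI : PreservesBinaryBiproduct B₁ B₂ (ten D) := preservesBinaryBiproduct_of_preservesBinaryCoproduct (ten D)
  exact (hEi.2 _ _ ⟨(back E).some.symm ≪≫ (ten D).mapIso φ ≪≫ (ten D).mapBiprod B₁ B₂⟩).imp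
    (fun h => IsZero.of_iso (Functor.map_isZero (ten T) h) (show B₁ ≅ (ten T).obj ((ten D).obj B₁) from (back' B₁).some.symm))
    (fun h => IsZero.of_iso (Functor.map_isZero (ten T) h) (show B₂ ≅ (ten T).obj ((ten D).obj B₂) from (back' B₂).some.symm))

variable {k : Type u} [Field k] {X : Scheme.{u}} (p : X ⟶ Spec (CommRingCat.of k))
  (K : Type u) [Field K] [Algebra k K]

theorem rank_of_bc {W : X.Modules} (hW : FlatMod.IsFinLocFree W) {L : (W4bk4gw11416.baseChange p K).Modules}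
    (hL : PicF.IsInvertible L) {r : ℕ} (e : bcMod p K W ≅ pow L r) : FlatMod.IsFinLocFreeOfRank r W := by
  intro x
  obtain ⟨U, m, hx, ⟨a⟩⟩ := hW x
  haveI : Surjective (Spec.map (CommRingCat.ofHom (algebraMap k K))) :=
    ⟨fun _ => ⟨(⟨⊥, Ideal.isPrime_bot⟩ : PrimeSpectrum K), Subsingleton.elim (α := PrimeSpectrum k) _ _⟩⟩
  haveI : Surjective (proj p K) := MorphismProperty.pullback_fst _ _ ‹Surjective (Spec.map (CommRingCat.ofHom (algebraMap k K)))›
  obtain ⟨y, hy⟩ := (proj p K).surjective x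
  let q := proj p K
  let V : (W4bk4gw11416.baseChange p K).Opens := q ⁻¹ᵁ U
  have hm : FlatMod.IsFinLocFreeOfRank m (((Scheme.Modules.pullback q).obj W).restrict V.ι) :=
    H23.Chern.rank_of_iso (((H23.PullPush.pullRestrictIso q U).app W).symm ≪≫ (Scheme.Modules.pullback (q ∣_ U)).mapIso a ≪≫
      KFlatLib.pullFreeIso _ m).symm (GenusOneSS.isFinLocFreeOfRank_freeMod m)
  have hr : FlatMod.IsFinLocFreeOfRank r (((Scheme.Modules.pullback q).obj W).restrict V.ι) :=
    H23.Chern.rank_of_iso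
      ((Scheme.Modules.restrictFunctor V.ι).mapIso e ≪≫ (Scheme.Modules.restrictFunctorIsoPullback V.ι).app _).symm
      (H23.GrassFlag.rank_pullback V.ι (rank_pow hL r))
  obtain rfl := SeesawX.rank_unique (⟨y, show q y ∈ U by rw [hy]; exact hx⟩ : V.toScheme) hm hr
  exact ⟨U, hx, ⟨a⟩⟩

variable [IsProper p] [Algebra.IsAlgebraic k K] [Nonempty (W4bk4gw11416.baseChange p K)]
  {W W' : X.Modules} (hW : FlatMod.IsFinLocFree W) (hW' : FlatMod.IsFinLocFree W')
  (hWi : KSLib.Indec W) (hW'i : KSLib.Indec W') {L L' : (W4bk4gw11416.baseChange p K).Modules}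
  (hL : PicF.IsInvertible L) (hL' : PicF.IsInvertible L') {r r' : ℕ}
  (e : bcMod p K W ≅ pow L r) (e' : bcMod p K W' ≅ pow L' r')

include hW hW' hWi hW'i hL hL' e e'

/-- Types dual to each other have the same multiplicity. -/
theorem mult_eq_of_dual (d : L' ≅ H23.Chern.dual L) : r = r' := by
  haveI := H23.Chern.isIso_pullDual (rank_of_bc p K hW hL e) (proj p K)
  obtain ⟨a⟩ := dual_iso e
  obtain ⟨b⟩ := dual_pow L r
  let e'' : bcMod p K (H23.Chern.dual W) ≅ pow L' r :=
    asIso (H23.Chern.pullDual W (proj p K)) ≪≫ a.symm ≪≫ b ≪≫ Sigma.mapIso (fun _ => d.symm)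
  obtain ⟨φ⟩ := iso_of_bc_pow p K (H28.PushLocFree.isCoh_of_isFinLocFree (isFinLocFree_dual hW))
    (H28.PushLocFree.isCoh_of_isFinLocFree hW') (indec_dual hW hWi) hW'i e'' e'
  exact pow_inj hL' hL' (e''.symm ≪≫ (Scheme.Modules.pullback (proj p K)).mapIso φ ≪≫ e')

/-- Types differing by a class from the base have the same multiplicity. -/
theorem mult_eq_of_tensor {T : X.Modules} (hT : PicF.IsInvertible T)
    (d : L' ≅ CohB1.tensorMod L (bcMod p K T)) : r = r' := by
  obtain ⟨a⟩ := H23.PicMul.pull (proj p K) W T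
  obtain ⟨b⟩ := tensor_congr e (Iso.refl (bcMod p K T))
  obtain ⟨c⟩ := tensor_pow_left L (bcMod p K T) r
  let e'' : bcMod p K (CohB1.tensorMod W T) ≅ pow L' r := a ≪≫ b ≪≫ c ≪≫ Sigma.mapIso (fun _ => d.symm)
  obtain ⟨D, hD, ⟨i⟩⟩ := H23.PicInv.exists_inverse hT
  have hcoh : Coh.IsCoh (CohB1.tensorMod W T) :=
    H28.PushLocFree.isCoh_of_isFinLocFree (KFlatLib.isFinLocFree_tensor hW (KZ.QuasiProj.flf_of_invertible hT))
  obtain ⟨φ⟩ := iso_of_bc_pow p K hcoh
    (H28.PushLocFree.isCoh_of_isFinLocFree hW') (indec_tensor hT hWi) hW'i e'' e'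
  exact pow_inj hL' hL' (e''.symm ≪≫ (Scheme.Modules.pullback (proj p K)).mapIso φ ≪≫ e')

end Groth.Agent.ASB24
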